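import Cfsg.Agent.Lib.Char.CyclicTI
import Cfsg.Agent.Lib.Char.Coherence
import Cfsg.Agent.S1502

/-!
The family attached to a self-normalizing cyclic subgroup, indexed by pairs of linear characters of
the two factors.
-/

set_option autoImplicit false
set_option linter.style.haveILetI false
set_option linter.unusedSectionVars false

namespace CfsgLib.Peterfalvi.Pair

open Cfsg CfsgLib.Char CfsgLib.Char.CyclicTI
open scoped ComplexConjugate CfsgLib.Char

variable {G : Type*} [Group G] [Fintype G]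

/-- The linear characters of a subgroup. -/
abbrev Lin (W : Subgroup G) := ↥W →* ℂˣ

noncomputable instance (W : Subgroup G) : Fintype (Lin W) :=
  haveI : Finite (Lin W) := finiteDual W
  Fintype.ofFinite _

variable (Wc Wk : Subgroup G)

/-- The properties of the family. The first index is a character of `Wk`. -/
structure IsGrid (η : Lin Wk → Lin Wc → G → ℂ) : Prop where
  wsn : IsSelfNormalizingCyclic Wc Wk
  oddC : Odd (Nat.card Wc)
  oddK : Odd (Nat.card Wk)
  cardC : Nat.card (Lin Wc) = Nat.card Wc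
  cardK : Nat.card (Lin Wk) = Nat.card Wk
  signed : ∀ a b, IsIrrCharacter G (η a b) ∨ IsIrrCharacter G (-η a b)
  orth : ∀ a b a' b', [Decidable (a = a' ∧ b = b')] →
    classInner (η a b) (η a' b') = if a = a' ∧ b = b' then 1 else 0
  one : η 1 1 = fun _ => 1
  value : ∀ a b (x : Wc) (y : Wk), x ≠ 1 → y ≠ 1 →
    η a b ((x : G) * y) = (a y : ℂ) * (b x : ℂ)
  rect : ∀ θ : G → ℂ, IsClassFunction G θ →
    (∀ (x : Wc) (y : Wk), x ≠ 1 → y ≠ 1 → θ ((x : G) * y) = 0) →
    ∀ a b, classInner θ (η a b) =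
      classInner θ (η a 1) + classInner θ (η 1 b) - classInner θ (η 1 1)
  vanish : ∀ θ : G → ℂ, IsClassFunction G θ → (∀ a b, classInner θ (η a b) = 0) →
    ∀ (x : Wc) (y : Wk), x ≠ 1 → y ≠ 1 → θ ((x : G) * y) = 0
  conjEq : ∀ a b, η a⁻¹ b⁻¹ = conjFun (η a b)
  pow : ∀ a b (k : ℕ), k.Coprime (Nat.card G) → η (a ^ k) (b ^ k) = fun g => η a b (g ^ k)
  off : ∀ a b g, (∀ (x : Wc) (y : Wk), x ≠ 1 → y ≠ 1 → ∀ h : G, g ≠ h * ((x : G) * y) * h⁻¹) →
    1 - η a 1 g - η 1 b g + η a b g = 0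
  intVal : ∀ a b g, (orderOf g).Coprime (Nat.card Wc * Nat.card Wk) → ∃ n : ℤ, η a b g = n
  intValK : ∀ a g, (orderOf g).Coprime (Nat.card Wk) → ∃ n : ℤ, η a 1 g = n
  intValC : ∀ b g, (orderOf g).Coprime (Nat.card Wc) → ∃ n : ℤ, η 1 b g = n

namespace IsGrid

variable {Wc Wk} {η : Lin Wk → Lin Wc → G → ℂ} (h : IsGrid Wc Wk η)
include h

theorem disj : Wc ⊓ Wk = ⊥ := disj_of h.wsn

theorem comm {x y : G} (hx : x ∈ Wc) (hy : y ∈ Wk) : x * y = y * x := comm_of h.wsn x hx y hy

theorem transpose : IsGrid Wk Wc (fun b a => η a b) := by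
  obtain ⟨h1, h2, h3, h4, h5, h6⟩ := h.wsn
  refine
    { wsn := ⟨h2, h1, by rw [inf_comm]; exact h3, fun a ha b hb => (h4 b hb a ha).symm,
        by rw [sup_comm]; exact h5, fun X hX hne => by
          rw [sup_comm Wk Wc, h6 X (by rwa [sup_comm, Set.union_comm]) hne]⟩
      oddC := h.oddK
      oddK := h.oddC
      cardC := h.cardK
      cardK := h.cardC
      signed := fun b a => h.signed a b
      orth := fun b a b' a' _ => ?_
      one := h.one
      value := fun b a y x hy hx => by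
        rw [← h.comm x.2 y.2, h.value a b x y hx hy, mul_comm]
      rect := fun θ hθ h0 b a => ?_
      vanish := fun θ hθ h0 y x hy hx => ?_
      conjEq := fun b a => h.conjEq a b
      pow := fun b a => h.pow a b
      off := fun b a g hg => ?_
      intVal := fun b a g hg => h.intVal a b g (by rwa [mul_comm])
      intValK := h.intValC
      intValC := h.intValK }
  · classical
    rw [h.orth]
    exact if_congr and_comm rfl rfl
  · rw [h.rect θ hθ (fun x y hx hy => by rw [h.comm x.2 y.2]; exact h0 y x hy hx) a b]; ring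
  · rw [← h.comm x.2 y.2]; exact h.vanish θ hθ (fun a b => h0 b a) x y hx hy
  · linear_combination h.off a b g (fun x y hx hy k => by rw [h.comm x.2 y.2]; exact hg y x hy hx k)

theorem isGeneralized (a : Lin Wk) (b : Lin Wc) : IsGeneralizedCharacter G (η a b) := by
  rcases h.signed a b with h' | h'
  · exact isGeneralized_of_isIrr h'
  · simpa using isGeneralized_neg (isGeneralized_of_isIrr h')

theorem isClassFunction (a : Lin Wk) (b : Lin Wc) : IsClassFunction G (η a b) :=
  isClassFunction_of_isGeneralized (h.isGeneralized a b)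

theorem inj {a a' : Lin Wk} {b b' : Lin Wc} (e : η a b = η a' b') : a = a' ∧ b = b' := by
  classical
  by_contra hne
  have h1 := h.orth a b a b
  rw [if_pos ⟨rfl, rfl⟩] at h1
  have h2 := h.orth a b a' b'
  rw [if_neg hne, ← e, h1] at h2
  exact one_ne_zero h2

end IsGrid

theorem pow_ne_one_of_coprime {k : ℕ} (hk : k.Coprime (Nat.card G)) {W : Subgroup G} {x : W}
    (hx : x ≠ 1) : x ^ k ≠ 1 := fun e => hx <| orderOf_eq_one_iff.mp <|
  Nat.dvd_one.mp <| hk ▸ Nat.dvd_gcd (orderOf_dvd_of_pow_eq_one e)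
    ((orderOf_dvd_natCard x).trans W.card_subgroup_dvd_card)

set_option maxHeartbeats 1600000 in
/-- The family exists. -/
theorem exists_grid {Wc Wk : Subgroup G} (hW : IsSelfNormalizingCyclic Wc Wk)
    (hoddC : Odd (Nat.card Wc)) (hoddK : Odd (Nat.card Wk)) :
    ∃ η : Lin Wk → Lin Wc → G → ℂ, IsGrid Wc Wk η := by
  classical
  haveI := commutative_of hW
  have hdisj := disj_of hW
  have hcomm := comm_of hW
  obtain ⟨p, q, hp, hq, hpq, hL, hR⟩ := exists_proj hdisj hcomm
  have hmul : ∀ (x : Wc) (y : Wk),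
      (p ⟨x * y, Subgroup.mul_mem_sup x.2 y.2⟩ : G) = x ∧
        (q ⟨x * y, Subgroup.mul_mem_sup x.2 y.2⟩ : G) = y := by
    intro x y
    have e : (⟨x * y, Subgroup.mul_mem_sup x.2 y.2⟩ : ↥(Wc ⊔ Wk)) =
        ⟨x, Subgroup.mem_sup_left x.2⟩ * ⟨y, Subgroup.mem_sup_right y.2⟩ := rfl
    rw [e, map_mul, map_mul, (hL _ x.2).1, (hL _ x.2).2, (hR _ y.2).1, (hR _ y.2).2]
    simp
  let pC : ↥(Wc ⊔ Wk) →* Wc :=
    { toFun := fun w => ⟨p w, hp w⟩
      map_one' := Subtype.ext (by simp)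
      map_mul' := fun v w => Subtype.ext (by simp) }
  let qK : ↥(Wc ⊔ Wk) →* Wk :=
    { toFun := fun w => ⟨q w, hq w⟩
      map_one' := Subtype.ext (by simp)
      map_mul' := fun v w => Subtype.ext (by simp) }
  let eR : Lin Wc ≃ TrivR Wc Wk :=
    { toFun := fun b => ⟨b.comp pC, fun w hw => by
        rw [MonoidHom.comp_apply, show pC w = 1 from Subtype.ext (by simp [pC, (hR w hw).1]),
          map_one]⟩
      invFun := fun φ => φ.1.comp (Subgroup.inclusion le_sup_left)
      left_inv := fun b => MonoidHom.ext fun x => congrArg b (Subtype.ext (by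
        show (p (Subgroup.inclusion le_sup_left x) : G) = x
        rw [(hL _ x.2).1]; rfl))
      right_inv := fun φ => Subtype.ext (hom_ext_of_agree
        (fun w hw => congrArg φ.1 (Subtype.ext (show (p w : G) = w by rw [(hL w hw).1])))
        (fun w hw => by
          rw [φ.2 w hw, MonoidHom.comp_apply,
            show pC w = 1 from Subtype.ext (by simp [pC, (hR w hw).1]), map_one])) }
  let eL : Lin Wk ≃ TrivL Wc Wk :=
    { toFun := fun a => ⟨a.comp qK, fun w hw => by
        rw [MonoidHom.comp_apply, show qK w = 1 from Subtype.ext (by simp [qK, (hL w hw).2]),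
          map_one]⟩
      invFun := fun φ => φ.1.comp (Subgroup.inclusion le_sup_right)
      left_inv := fun b => MonoidHom.ext fun x => congrArg b (Subtype.ext (by
        show (q (Subgroup.inclusion le_sup_right x) : G) = x
        rw [(hR _ x.2).2]; rfl))
      right_inv := fun φ => Subtype.ext (hom_ext_of_agree
        (fun w hw => by
          rw [φ.2 w hw, MonoidHom.comp_apply,
            show qK w = 1 from Subtype.ext (by simp [qK, (hL w hw).2]), map_one])
        (fun w hw => congrArg φ.1 (Subtype.ext (show (q w : G) = w by rw [(hR w hw).2])))) }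
  obtain ⟨hcR, hcL⟩ := card_trivR (W₁ := Wc) (W₂ := Wk) hdisj hcomm
  have hWcard : Nat.card ↥(Wc ⊔ Wk) = Nat.card Wc * Nat.card Wk := by
    have h := card_triv (W₁ := Wc) (W₂ := Wk) Wk
    rw [hcR, Nat.card_congr (Subgroup.subgroupOfEquivOfLe le_sup_right).toEquiv] at h
    exact h.symm
  have hodd : Odd (Nat.card ↥(Wc ⊔ Wk)) := hWcard ▸ hoddC.mul hoddK
  obtain ⟨χ, hχ⟩ := Cfsg.Agent.S1502.result Wc Wk hW hodd
  let Φ : Lin Wk → Lin Wc → (↥(Wc ⊔ Wk) →* ℂˣ) := fun a b => b.comp pC * a.comp qK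
  have hΦ : ∀ a b a' b', Φ a b = Φ a' b' → a = a' ∧ b = b' := by
    intro a b a' b' e
    obtain ⟨e1, e2⟩ := split_unique (eR b).2 (eR b').2 (eL a).2 (eL a').2 e
    exact ⟨eL.injective (Subtype.ext e2), eR.injective (Subtype.ext e1)⟩
  have hsurj : ∀ ω, ∃ a b, Φ a b = ω := by
    intro ω
    obtain ⟨φ, ψ, rfl⟩ := exists_split hdisj hcomm ω
    refine ⟨eL.symm ψ, eR.symm φ, ?_⟩
    show (eR (eR.symm φ)).1 * (eL (eL.symm ψ)).1 = _
    rw [Equiv.apply_symm_apply, Equiv.apply_symm_apply]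
  have hR1 : ∀ b, Φ 1 b = (eR b).1 := fun b => MonoidHom.ext fun w => by simp [Φ, eR]
  have hL1 : ∀ a, Φ a 1 = (eL a).1 := fun a => MonoidHom.ext fun w => by simp [Φ, eL]
  have hprod : ∀ a b, Φ a b = (eR b).1 * (eL a).1 := fun a b => rfl
  have h11 : Φ 1 1 = 1 := MonoidHom.ext fun w => by simp [Φ]
  have hpow : ∀ a b (k : ℕ), Φ (a ^ k) (b ^ k) = Φ a b ^ k := fun a b k =>
    MonoidHom.ext fun w => by simp [Φ, mul_pow]
  have hinv : ∀ a b, Φ a⁻¹ b⁻¹ = (Φ a b)⁻¹ := fun a b =>
    MonoidHom.ext fun w => by simp only [Φ, MonoidHom.mul_apply, MonoidHom.comp_apply, MonoidHom.inv_apply, mul_inv]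
  have hmem : ∀ (x : Wc) (y : Wk), x ≠ 1 → y ≠ 1 → (x : G) * y ∈ tiPart Wc Wk := fun x y hx hy =>
    mul_mem_tiPart hdisj x.2 (fun e => hx (Subtype.ext e)) y.2 (fun e => hy (Subtype.ext e))
  have hval : ∀ a b (x : Wc) (y : Wk) (hxy : (x : G) * y ∈ Wc ⊔ Wk),
      (Φ a b ⟨x * y, hxy⟩ : ℂ) = (a y : ℂ) * (b x : ℂ) := by
    intro a b x y hxy
    have h1 : pC ⟨x * y, hxy⟩ = x := Subtype.ext (hmul x y).1
    have h2 : qK ⟨x * y, hxy⟩ = y := Subtype.ext (hmul x y).2
    simp only [Φ, MonoidHom.mul_apply, MonoidHom.comp_apply, h1, h2]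
    push_cast; ring
  have hdecomp : ∀ w : ↥(Wc ⊔ Wk), (w : G) ∈ tiPart Wc Wk →
      ∃ (x : Wc) (y : Wk), x ≠ 1 ∧ y ≠ 1 ∧ (w : G) = (x : G) * y := by
    intro w hw
    obtain ⟨h1, h2⟩ := (mem_tiPart_iff w).mp hw
    have e : (w : G) = (p w : G) * (q w : G) := by rw [← Subgroup.coe_mul, hpq]
    refine ⟨⟨p w, hp w⟩, ⟨q w, hq w⟩, fun h0 => h2 ?_, fun h0 => h1 ?_, e⟩
    · rw [e, show (p w : G) = 1 from congrArg Subtype.val h0, one_mul]; exact hq w
    · rw [e, show (q w : G) = 1 from congrArg Subtype.val h0, mul_one]; exact hp w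
  have hsigned := fun a b => hχ.irr_or_neg (Φ a b)
  have hint : ∀ a b g, (orderOf g).Coprime (orderOf (Φ a b)) → ∃ n : ℤ, χ (Φ a b) g = n :=
    fun a b g => exists_int_value hW hodd hχ _ g
  refine ⟨fun a b => χ (Φ a b),
    { wsn := hW
      oddC := hoddC
      oddK := hoddK
      cardC := (Nat.card_congr eR).trans hcR
      cardK := (Nat.card_congr eL).trans hcL
      signed := hsigned
      orth := fun a b a' b' _ => ?_
      one := by simp only [h11, hχ.map_one]
      value := fun a b x y hx hy => ?_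
      rect := fun θ hθ h0 a b => ?_
      vanish := fun θ hθ h0 x y hx hy => ?_
      conjEq := fun a b => ?_
      pow := fun a b k hk => ?_
      off := fun a b g hg => ?_
      intVal := fun a b g hg => hint a b g (hg.coprime_dvd_right ?_)
      intValK := fun a g hg => hint a 1 g (hg.coprime_dvd_right ?_)
      intValC := fun b g hg => hint 1 b g (hg.coprime_dvd_right ?_) }⟩
  · rw [hχ.orthonormal]
    by_cases e : a = a' ∧ b = b'
    · rw [if_pos e, if_pos (by rw [e.1, e.2])]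
    · rw [if_neg e, if_neg (fun e' => e (hΦ a b a' b' e'))]
  · have hm := hmem x y hx hy
    rw [← hval a b x y hm.1]
    exact hχ.eq_on (Φ a b) ⟨_, hm.1⟩ (fun h => hm.2 (Or.inl h)) (fun h => hm.2 (Or.inr h))
  · have h0' : ∀ w : ↥(Wc ⊔ Wk), (w : G) ∈ tiPart Wc Wk → θ w = 0 := by
      intro w hw
      obtain ⟨x, y, hx, hy, e⟩ := hdecomp w hw
      rw [e]; exact h0 x y hx hy
    have := rectangle hχ hθ h0' (eR b) (eL a)
    simp only [hR1, hL1, hprod, h11] at this ⊢
    linear_combination this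
  · have hm := hmem x y hx hy
    refine eq_zero_of_orth_family hW hχ hθ (fun ω => ?_) ⟨_, hm.1⟩ hm
    obtain ⟨a, b, rfl⟩ := hsurj ω
    exact h0 a b
  · have hs : IsIrrCharacter G (conjFun (χ (Φ a b))) ∨ IsIrrCharacter G (-conjFun (χ (Φ a b))) := by
      rcases hsigned a b with h' | h'
      · exact Or.inl (isIrrCharacter_conj h')
      · refine Or.inr ?_
        have := isIrrCharacter_conj h'
        convert this using 1
        funext g; simp [conjFun]
    refine (eq_family_of_eq_on hW hodd hχ hs _ fun w hw => ?_).symm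
    obtain ⟨h1, h2⟩ := (mem_tiPart_iff w).mp hw
    rw [hinv]
    simp only [conjFun, hχ.eq_on _ w h1 h2, MonoidHom.inv_apply, Units.val_inv_eq_inv_val]
    rw [Complex.inv_eq_conj]
    exact Complex.norm_eq_one_of_pow_eq_one (n := Nat.card ↥(Wc ⊔ Wk))
      (by rw [← Units.val_pow_eq_pow_val, ← map_pow, pow_card_eq_one', map_one, Units.val_one])
      Nat.card_pos.ne'
  · have hs : IsIrrCharacter G (fun g => χ (Φ a b) (g ^ k)) ∨
        IsIrrCharacter G (-fun g => χ (Φ a b) (g ^ k)) := by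
      rcases hsigned a b with h' | h'
      · exact Or.inl (isIrrCharacter_pow hk h')
      · exact Or.inr (isIrrCharacter_pow hk h')
    refine (eq_family_of_eq_on hW hodd hχ hs _ fun w hw => ?_).symm
    obtain ⟨x, y, hx, hy, e⟩ := hdecomp w hw
    have hm := hmem (x ^ k) (y ^ k) (pow_ne_one_of_coprime hk hx) (pow_ne_one_of_coprime hk hy)
    have hwk : (w : G) ^ k = ((x ^ k : Wc) : G) * (y ^ k : Wk) := by
      rw [e, Commute.mul_pow (hcomm _ x.2 _ y.2)]; simp
    rw [hwk, hpow, MonoidHom.pow_apply, ← map_pow,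
      show (w ^ k : ↥(Wc ⊔ Wk)) = ⟨((x ^ k : Wc) : G) * (y ^ k : Wk), hm.1⟩ from
        Subtype.ext (by rw [SubgroupClass.coe_pow, hwk])]
    exact hχ.eq_on (Φ a b) ⟨_, hm.1⟩ (fun h => hm.2 (Or.inl h)) (fun h => hm.2 (Or.inr h))
  · by_cases ha : a = 1
    · subst ha; simp only [h11, hχ.map_one]; ring
    by_cases hb : b = 1
    · subst hb; simp only [h11, hχ.map_one]; ring
    have hR' : Φ 1 b ≠ 1 := fun e => hb (hΦ 1 b 1 1 (e.trans h11.symm)).2
    have hL' : Φ a 1 ≠ 1 := fun e => ha (hΦ a 1 1 1 (e.trans h11.symm)).1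
    have hind := congrFun (hχ.induced_eq (Φ 1 b) (Φ a 1) hR' hL'
      (fun w hw => by rw [hR1]; exact (eR b).2 w hw)
      (fun w hw => by rw [hL1]; exact (eL a).2 w hw)) g
    have hz : indFun (Wc ⊔ Wk) (alpha (Φ 1 b) (Φ a 1)) g = 0 := by
      rw [indFun, Finset.sum_eq_zero (fun z _ => ?_), mul_zero]
      by_cases hz : z⁻¹ * g * z ∈ Wc ⊔ Wk
      · rw [extendByZero_mem _ _ hz]
        refine alpha_zero (fun w hw => by rw [hR1]; exact (eR b).2 w hw)
          (fun w hw => by rw [hL1]; exact (eL a).2 w hw) _ fun hti => ?_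
        obtain ⟨x, y, hx, hy, e⟩ := hdecomp _ hti
        exact hg x y hx hy z (by rw [← e]; group)
      · exact extendByZero_notMem _ _ hz
    rw [show (indFun (Wc ⊔ Wk) fun w => 1 - ((Φ 1 b) w : ℂ) - ((Φ a 1) w : ℂ) +
      ((Φ 1 b) w : ℂ) * ((Φ a 1) w : ℂ)) g = 0 from hz] at hind
    rw [show Φ 1 b * Φ a 1 = Φ a b by rw [hR1, hL1, hprod]] at hind
    linear_combination -hind
  · rw [orderOf_dvd_iff_pow_eq_one]
    refine MonoidHom.ext fun w => ?_
    rw [MonoidHom.pow_apply, ← map_pow, ← hWcard, pow_card_eq_one', map_one, MonoidHom.one_apply]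
  · rw [orderOf_dvd_iff_pow_eq_one, ← hpow,
      show (1 : Lin Wc) ^ Nat.card Wk = 1 from MonoidHom.ext fun w => by simp]
    have : a ^ Nat.card Wk = 1 := MonoidHom.ext fun w => by
      rw [MonoidHom.pow_apply, ← map_pow, pow_card_eq_one', map_one, MonoidHom.one_apply]
    rw [this, h11]
  · rw [orderOf_dvd_iff_pow_eq_one, ← hpow,
      show (1 : Lin Wk) ^ Nat.card Wc = 1 from MonoidHom.ext fun w => by simp]
    have : b ^ Nat.card Wc = 1 := MonoidHom.ext fun w => by
      rw [MonoidHom.pow_apply, ← map_pow, pow_card_eq_one', map_one, MonoidHom.one_apply]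
    rw [this, h11]

end CfsgLib.Peterfalvi.Pair
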