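import Cfsg.Agent.Lib.Peterfalvi.Pair.SideData
import Cfsg.Agent.Lib.Peterfalvi.Pair.Grid
import Cfsg.Agent.Lib.Char.GlaubermanCoset

/-!
Conjugation of linear characters of a normal subgroup, and cosets of a coprime element.
-/

set_option autoImplicit false
set_option linter.style.haveILetI false
set_option linter.unusedSectionVars false

namespace CfsgLib.Peterfalvi.Pair

open Cfsg CfsgLib.Char
open CfsgLib.BG.FixedLine (conj_mem_of_le_normalizer)
open scoped ComplexConjugate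

universe u

variable {G : Type u} [Group G]

/-- Every element of the coset of a coprime element is conjugate under the subgroup to one in the
coset of its fixed points. -/
theorem exists_conj_coset [Finite G] {X : Subgroup G} {s : G}
    (hs : s ∈ Subgroup.normalizer (X : Set G)) (hcop : (Nat.card X).Coprime (orderOf s))
    {n : G} (hn : n ∈ X) :
    ∃ e ∈ X, ∃ y ∈ X, y * s = s * y ∧ e * (n * s) * e⁻¹ = y * s := by
  classical
  haveI := Fintype.ofFinite G
  set C : Subgroup G := X ⊓ Subgroup.centralizer ({s} : Set G) with hCdef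
  have hC : ∀ c, c ∈ C ↔ c ∈ X ∧ c * s = s * c := fun c => by
    rw [hCdef, Subgroup.mem_inf, Subgroup.mem_centralizer_singleton_iff]
  set CX := C.subgroupOf X with hCX
  let r : X ⧸ CX → X := Quotient.out
  have hmem : ∀ (e : X) (c : C), (e : G) * ((c : G) * s) * (e : G)⁻¹ * s⁻¹ ∈ X := by
    intro e c
    rw [show (e : G) * ((c : G) * s) * (e : G)⁻¹ * s⁻¹ =
      (e : G) * ((c : G) * (s * (e : G)⁻¹ * s⁻¹)) by group]
    exact mul_mem e.2 (mul_mem ((hC _).mp c.2).1
      (Subgroup.mem_normalizer_iff.mp hs _ |>.mp (inv_mem e.2)))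
  let Φ : (X ⧸ CX) × C → X := fun p => ⟨_, hmem (r p.1) p.2⟩
  have hinj : Function.Injective Φ := by
    rintro ⟨e₁, c₁⟩ ⟨e₂, c₂⟩ e
    have e' := congrArg Subtype.val e
    simp only [Φ, mul_left_inj] at e'
    have h1 : ((r e₂ : G)⁻¹ * r e₁) * ((c₁ : G) * s) * ((r e₂ : G)⁻¹ * r e₁)⁻¹ = c₂ * s := by
      calc _ = (r e₂ : G)⁻¹ * ((r e₁ : G) * ((c₁ : G) * s) * (r e₁ : G)⁻¹) * r e₂ := by group
        _ = (r e₂ : G)⁻¹ * ((r e₂ : G) * ((c₂ : G) * s) * (r e₂ : G)⁻¹) * r e₂ := by rw [e']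
        _ = _ := by group
    obtain ⟨h2, h3⟩ := Glauberman.conj_split hC hcop c₁.2 c₂.2 h1
    have hee : e₁ = e₂ := by
      rw [← Quotient.out_eq' e₁, ← Quotient.out_eq' e₂]
      exact (QuotientGroup.eq.mpr (Subgroup.mem_subgroupOf.mpr
        ((hC _).mpr ⟨((r e₂)⁻¹ * r e₁).2, h2⟩))).symm
    subst hee
    simp only [inv_mul_cancel, one_mul, inv_one, mul_one] at h3
    exact Prod.ext rfl (Subtype.ext h3)
  have hbij : Function.Bijective Φ := (Fintype.bijective_iff_injective_and_card Φ).mpr ⟨hinj, by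
    rw [Fintype.card_prod, ← Nat.card_eq_fintype_card, ← Nat.card_eq_fintype_card,
      ← Nat.card_eq_fintype_card, ← Nat.card_congr (Subgroup.subgroupOfEquivOfLe
        (inf_le_left : C ≤ X)).toEquiv]
    exact CX.card_eq_card_quotient_mul_card_subgroup.symm⟩
  obtain ⟨⟨e, c⟩, he⟩ := hbij.2 ⟨n, hn⟩
  refine ⟨(r e : G)⁻¹, inv_mem (r e).2, c, ((hC _).mp c.2).1, ((hC _).mp c.2).2, ?_⟩
  rw [show n = _ from (congrArg Subtype.val he).symm]
  simp only [Φ]
  group

variable [Finite G] (M : Subgroup G)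

theorem mem_fitting_conj (m : M) {x : G} (hx : x ∈ fittingOf M) :
    (m : G) * x * (m : G)⁻¹ ∈ fittingOf M :=
  conj_mem_of_le_normalizer (le_normalizer_fittingOf M m.2) x hx

variable {M}

/-- The conjugate of a linear character of `F(M)`. -/
def tw (χ : Lin (fittingOf M)) (m : M) : Lin (fittingOf M) where
  toFun x := χ ⟨(m : G) * x * (m : G)⁻¹, mem_fitting_conj M m x.2⟩
  map_one' := by
    rw [← map_one χ]; exact congrArg χ (Subtype.ext (by simp))
  map_mul' x y := by
    rw [← map_mul]; exact congrArg χ (Subtype.ext (by simp [mul_assoc]))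

@[simp] theorem tw_apply (χ : Lin (fittingOf M)) (m : M) (x : fittingOf M) :
    tw χ m x = χ ⟨(m : G) * x * (m : G)⁻¹, mem_fitting_conj M m x.2⟩ := rfl

theorem tw_one (χ : Lin (fittingOf M)) : tw χ 1 = χ :=
  MonoidHom.ext fun x => congrArg χ (Subtype.ext (by simp))

theorem tw_mul (χ : Lin (fittingOf M)) (m n : M) : tw χ (m * n) = tw (tw χ m) n :=
  MonoidHom.ext fun x => congrArg χ (Subtype.ext (by simp [mul_assoc]))

/-- The stabiliser of a linear character of `F(M)`. -/
def linStab (χ : Lin (fittingOf M)) : Subgroup M where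
  carrier := {m | tw χ m = χ}
  one_mem' := tw_one χ
  mul_mem' := fun {a b} (ha : tw χ a = χ) (hb : tw χ b = χ) => by
    show tw χ (a * b) = χ
    rw [tw_mul, ha, hb]
  inv_mem' := fun {a} (ha : tw χ a = χ) => by
    show tw χ a⁻¹ = χ
    nth_rw 1 [← ha]
    rw [← tw_mul, mul_inv_cancel, tw_one]

theorem mem_linStab {χ : Lin (fittingOf M)} {m : M} : m ∈ linStab χ ↔ tw χ m = χ := Iff.rfl

theorem tw_of_mem (χ : Lin (fittingOf M)) {m : M} (hm : (m : G) ∈ fittingOf M) : tw χ m = χ := by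
  refine MonoidHom.ext fun x => ?_
  have e : (⟨(m : G) * x * (m : G)⁻¹, mem_fitting_conj M m x.2⟩ : fittingOf M) =
      ⟨m, hm⟩ * x * ⟨m, hm⟩⁻¹ := rfl
  rw [tw_apply, e, map_mul, map_mul, map_inv, mul_inv_cancel_comm]

theorem tw_eq_tw_iff (χ : Lin (fittingOf M)) (m n : M) :
    tw χ m = tw χ n ↔ m * n⁻¹ ∈ linStab χ := by
  rw [mem_linStab, tw_mul]
  constructor
  · intro e; rw [e, ← tw_mul, mul_inv_cancel, tw_one]
  · intro e
    have := congrArg (fun φ => tw φ n) e
    simpa only [← tw_mul, mul_assoc, inv_mul_cancel, mul_one] using this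

theorem tw_inv (χ : Lin (fittingOf M)) (m : M) : tw χ⁻¹ m = (tw χ m)⁻¹ :=
  MonoidHom.ext fun _ => rfl

theorem linStab_tw (χ : Lin (fittingOf M)) (m n : M) :
    n ∈ linStab (tw χ m) ↔ m * n * m⁻¹ ∈ linStab χ := by
  rw [mem_linStab, mem_linStab, ← tw_mul]
  exact (tw_eq_tw_iff χ (m * n) m).trans mem_linStab

end CfsgLib.Peterfalvi.Pair
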