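import Cfsg.Agent.Lib.Char.Counting
import Cfsg.Agent.Lib.Char.Virtual
import Cfsg.Agent.Lib.Char.Coherence
import Cfsg.Agent.Lib.Char.Orth

/-!
The inner product of real virtual characters of a group of odd order modulo two, and the Bessel
inequality.
-/

set_option autoImplicit false
set_option linter.style.haveILetI false
set_option linter.unusedSectionVars false

namespace CfsgLib.Peterfalvi.Pair

open Cfsg CfsgLib.Char
open scoped ComplexConjugate CfsgLib.Char

universe u

variable {G : Type u} [Group G] [Fintype G]

theorem classInner_conjFun (φ ψ : G → ℂ) :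
    classInner (conjFun φ) (conjFun ψ) = conj (classInner φ ψ) := by
  simp [classInner, conjFun, map_mul, map_sum]

/-- In a group of odd order the inner product of real virtual characters is congruent modulo two to
the product of their multiplicities of the trivial character. -/
theorem parity (hodd : Odd (Nat.card G)) {R R' : G → ℂ} (hR : IsGeneralizedCharacter G R)
    (hR' : IsGeneralizedCharacter G R') (hr : conjFun R = R) (hr' : conjFun R' = R') {x a b : ℤ}
    (hx : classInner R R' = x) (ha : classInner R (fun _ => 1) = a)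
    (hb : classInner R' (fun _ => 1) = b) : (2 : ℤ) ∣ x - a * b := by
  classical
  choose n hn using fun χ : IrrCharacter G => exists_int_classInner hR (isGeneralized_of_isIrr χ.2)
  choose m hm using fun χ : IrrCharacter G => exists_int_classInner hR' (isGeneralized_of_isIrr χ.2)
  let cj : IrrCharacter G → IrrCharacter G := fun χ => ⟨conjFun (χ : G → ℂ), isIrrCharacter_conj χ.2⟩
  have hsym : ∀ {S : G → ℂ}, conjFun S = S → ∀ {k : IrrCharacter G → ℤ},
      (∀ χ : IrrCharacter G, classInner S (χ : G → ℂ) = k χ) → ∀ χ, k (cj χ) = k χ := by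
    intro S hS k hk χ
    refine Int.cast_injective (α := ℂ) ?_
    rw [← hk, show ((cj χ : IrrCharacter G) : G → ℂ) = conjFun (χ : G → ℂ) from rfl]
    nth_rw 1 [← hS]
    rw [classInner_conjFun, hk, map_intCast]
  set one : IrrCharacter G := ⟨fun _ => 1, isIrrCharacter_one⟩ with hone
  have hsum : classInner R R' = ((∑ χ : IrrCharacter G, n χ * m χ : ℤ) : ℂ) := by
    conv_lhs => rw [classFunction_expansion (isClassFunction_of_isGeneralized hR')]
    rw [classInner_sum_right]
    push_cast
    refine Finset.sum_congr rfl fun χ _ => ?_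
    rw [classInner_smul_right, hm, map_intCast, hn, mul_comm]
  have hab : n one = a ∧ m one = b :=
    ⟨Int.cast_injective (α := ℂ) ((hn one).symm.trans ha),
      Int.cast_injective (α := ℂ) ((hm one).symm.trans hb)⟩
  rw [hsum] at hx
  rw [← Int.cast_injective (α := ℂ) hx, ← hab.1, ← hab.2,
    ← Finset.add_sum_erase _ _ (Finset.mem_univ one), add_sub_cancel_left]
  have key : (((∑ χ ∈ Finset.univ.erase one, n χ * m χ : ℤ)) : ZMod 2) = 0 := by
    push_cast
    refine Finset.sum_involution (fun χ _ => cj χ) (fun χ _ => ?_) (fun χ hχ _ => ?_)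
      (fun χ hχ => ?_) fun χ _ => Subtype.ext (Coherence.conjFun_conjFun _)
    · rw [hsym hr hn, hsym hr' hm]
      exact CharTwo.add_self_eq_zero _
    · intro e
      refine (Finset.mem_erase.mp hχ).1 (Subtype.ext (irr_real_of_odd hodd χ fun g => ?_))
      exact Complex.conj_eq_iff_im.mp (congrFun (congrArg Subtype.val e) g)
    · refine Finset.mem_erase.mpr ⟨fun e => (Finset.mem_erase.mp hχ).1 ?_, Finset.mem_univ _⟩
      refine Subtype.ext ?_
      have h1 := congrArg conjFun (congrArg Subtype.val e)
      rw [show ((cj χ : IrrCharacter G) : G → ℂ) = conjFun (χ : G → ℂ) from rfl,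
        Coherence.conjFun_conjFun] at h1
      rw [h1]
      funext g
      simp [conjFun, hone]
  exact (ZMod.intCast_zmod_eq_zero_iff_dvd _ 2).mp key

/-- The Bessel inequality. -/
theorem bessel {ι : Type*} (s : Finset ι) {v : ι → G → ℂ}
    (h1 : ∀ i ∈ s, classInner (v i) (v i) = 1)
    (h0 : ∀ i ∈ s, ∀ j ∈ s, i ≠ j → classInner (v i) (v j) = 0) (θ : G → ℂ) :
    ∑ i ∈ s, ‖classInner θ (v i)‖ ^ 2 ≤ (classInner θ θ).re := by
  classical
  set P : G → ℂ := ∑ i ∈ s, classInner θ (v i) • v i with hP
  have hθP : classInner θ P = ((∑ i ∈ s, ‖classInner θ (v i)‖ ^ 2 : ℝ) : ℂ) := by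
    rw [hP, classInner_sum_right, Complex.ofReal_sum]
    refine Finset.sum_congr rfl fun i _ => ?_
    rw [classInner_smul_right, mul_comm, Complex.mul_conj']
    push_cast
    ring
  have hPP : classInner P P = ((∑ i ∈ s, ‖classInner θ (v i)‖ ^ 2 : ℝ) : ℂ) := by
    rw [hP, classInner_sum_left, Complex.ofReal_sum]
    refine Finset.sum_congr rfl fun i hi => ?_
    rw [classInner_sum_right, Finset.sum_eq_single i (fun j hj hji => by
      rw [classInner_smul_left, classInner_smul_right, h0 i hi j hj (Ne.symm hji), mul_zero,
        mul_zero]) (fun h => absurd hi h), classInner_smul_left, classInner_smul_right, h1 i hi,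
      mul_one, Complex.mul_conj']
    push_cast
    ring
  have h := classInner_self_re_nonneg (θ - P)
  rw [classInner_sub_left, classInner_sub_right, classInner_sub_right, hθP, hPP,
    ← classInner_conj_symm θ P, hθP, Complex.conj_ofReal] at h
  simp only [Complex.sub_re, Complex.ofReal_re] at h
  linarith

end CfsgLib.Peterfalvi.Pair
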