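import Cfsg.Agent.Lib.Peterfalvi.Pair.LFamily
import Cfsg.Agent.Lib.Peterfalvi.Pair.ParityLemma

/-!
Two maximal subgroups with disjoint attached sets: one of the two families is small.
-/

set_option autoImplicit false
set_option linter.style.haveILetI false
set_option linter.unusedSectionVars false

namespace CfsgLib.Peterfalvi.Pair

open Cfsg CfsgLib.Char
open scoped ComplexConjugate CfsgLib.Char Pointwise

universe u

variable {G : Type u} [Group G] [Fintype G] {L L' : Subgroup G} {ι ι' : Type u}
  {β ψ β' ψ' : G → ℂ} {I : Finset ι} {I' : Finset ι'} {f : ι → G → ℂ} {f' : ι' → G → ℂ}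
  {w : ι → ℕ} {w' : ι' → ℕ}

namespace LFam

variable (hF : LFam L β ψ I f w)
include hF

theorem irr_psi : IsIrrCharacter G ψ := by
  obtain ⟨z, hz, rfl, -⟩ := hF.mem
  exact hF.irr z hz

theorem conj_ne_psi : conjFun ψ ≠ ψ := by
  obtain ⟨z, hz, rfl, -⟩ := hF.mem
  exact hF.conj_ne z hz

theorem psi_sub_vanish {g : G} (hg : g ∉ tilde L) : ψ g = conjFun ψ g := by
  obtain ⟨z, hz, rfl, -⟩ := hF.mem
  exact hF.sub_vanish z hz g hg

theorem family_one {i : ι} (hi : i ∈ I) : classInner (f i) (fun _ => 1) = 0 :=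
  classInner_irr_ne (hF.irr i hi) isIrrCharacter_one fun e =>
    hF.conj_ne i hi (by rw [e]; funext g; simp [conjFun])

theorem psi_one : classInner ψ (fun _ => 1) = 0 := by
  obtain ⟨z, hz, rfl, -⟩ := hF.mem
  exact hF.family_one hz

/-- The real virtual character. -/
theorem real_sum {s : ℤ} (hcs : conjFun β - β = (s : ℂ) • (ψ - conjFun ψ)) :
    conjFun (β + (s : ℂ) • ψ) = β + (s : ℂ) • ψ := by
  have e : conjFun (β + (s : ℂ) • ψ) = conjFun β + (s : ℂ) • conjFun ψ :=
    funext fun g => by simp [conjFun]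
  rw [e]
  linear_combination (norm := module) hcs

/-- The Bessel bound of a virtual character meeting the family. -/
theorem sum_sq_add_one_le {θ : G → ℂ} (hθ0 : ∀ g ∈ tilde L, θ g = 0)
    (h1 : classInner θ (fun _ => 1) = 1) {k : ℤ} (hk : classInner θ ψ = k) (hk0 : k ≠ 0) {N : ℕ}
    (hN : classInner θ θ = N) : ∑ i ∈ I, w i ^ 2 + 1 ≤ N := by
  classical
  let v : Option ι → G → ℂ := fun o => o.elim (fun _ => 1) f
  have hb := bessel (insert none (I.image some)) (v := v) ?_ ?_ θ
  · rw [Finset.sum_insert (by simp), Finset.sum_image (fun x _ y _ e => Option.some_injective _ e)] at hb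
    simp only [v, Option.elim_none, Option.elim_some, h1, hN, norm_one, one_pow,
      Complex.natCast_re] at hb
    rw [Finset.sum_congr rfl (g := fun i => (w i : ℝ) ^ 2 * (k : ℝ) ^ 2) fun i hi => by
      rw [hF.prop θ hθ0 i hi, hk, Complex.norm_intCast, mul_pow, sq_abs], ← Finset.sum_mul] at hb
    have hk1 : (1 : ℝ) ≤ (k : ℝ) ^ 2 := by
      have := sq_pos_of_ne_zero hk0
      exact_mod_cast (by omega : (1 : ℤ) ≤ k ^ 2)
    have hnn : (0 : ℝ) ≤ ∑ i ∈ I, (w i : ℝ) ^ 2 := Finset.sum_nonneg fun i _ => sq_nonneg _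
    have : ((∑ i ∈ I, w i ^ 2 + 1 : ℕ) : ℝ) ≤ (N : ℝ) := by
      push_cast
      nlinarith [mul_le_mul_of_nonneg_left hk1 hnn]
    exact_mod_cast this
  · intro o ho
    rcases o with _ | i
    · exact classInner_irr_self isIrrCharacter_one
    · exact classInner_irr_self (hF.irr i (by simpa using ho))
  · intro o ho o' ho' hne
    rcases o with _ | i <;> rcases o' with _ | j
    · exact absurd rfl hne
    · show classInner (fun _ => (1 : ℂ)) (f j) = 0
      rw [← classInner_conj_symm, hF.family_one (by simpa using ho'), map_zero]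
    · exact hF.family_one (by simpa using ho)
    · exact classInner_irr_ne (hF.irr i (by simpa using ho)) (hF.irr j (by simpa using ho')) fun e =>
        hne (by rw [hF.inj (by simpa using ho) (by simpa using ho') e])

/-- The two characters are orthogonal. -/
theorem psi_orth (hF' : LFam L' β' ψ' I' f' w') (hd : Disjoint (tilde L) (tilde L')) :
    classInner ψ ψ' = 0 := by
  refine classInner_irr_ne hF.irr_psi hF'.irr_psi fun e => hF.conj_ne_psi ?_
  subst e
  funext g
  by_cases hg : g ∈ tilde L
  · exact (hF'.psi_sub_vanish (Set.disjoint_left.mp hd hg)).symm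
  · exact (hF.psi_sub_vanish hg).symm

theorem cross_bound (hodd : Odd (Nat.card G)) (hF' : LFam L' β' ψ' I' f' w')
    (hd : Disjoint (tilde L) (tilde L')) :
    ∑ i ∈ I', w' i ^ 2 ≤ (sigmaCore L).relIndex L ∨
      ∑ i ∈ I, w i ^ 2 ≤ (sigmaCore L').relIndex L' := by
  obtain ⟨s, hs, hcs⟩ := hF.conj_sub
  obtain ⟨s', hs', hcs'⟩ := hF'.conj_sub
  obtain ⟨k, hk⟩ := exists_int_classInner hF.gen (isGeneralized_of_isIrr hF'.irr_psi)
  obtain ⟨k', hk'⟩ := exists_int_classInner hF'.gen (isGeneralized_of_isIrr hF.irr_psi)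
  have hββ : classInner β β' = 0 := by
    rw [classInner, Finset.sum_eq_zero fun g _ => ?_, mul_zero]
    by_cases hg : g ∈ tilde L
    · rw [hF'.vanish g (Set.disjoint_left.mp hd hg), map_zero, mul_zero]
    · rw [hF.vanish g hg, zero_mul]
  have hpar := parity hodd
    (isGeneralized_add hF.gen (isGeneralized_intCast_smul (isGeneralized_of_isIrr hF.irr_psi) s))
    (isGeneralized_add hF'.gen (isGeneralized_intCast_smul (isGeneralized_of_isIrr hF'.irr_psi) s'))
    (hF.real_sum hcs) (hF'.real_sum hcs') (x := s' * k + s * k') (a := 1) (b := 1) ?_ ?_ ?_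
  · have hor : k ≠ 0 ∨ k' ≠ 0 := by
      rcases hs with rfl | rfl <;> rcases hs' with rfl | rfl <;> omega
    rcases hor with hk0 | hk0
    · refine Or.inl ?_
      have := hF'.sum_sq_add_one_le (θ := β) (fun g hg => hF.vanish g
        (Set.disjoint_right.mp hd hg)) hF.one hk hk0 hF.norm
      omega
    · refine Or.inr ?_
      have := hF.sum_sq_add_one_le (θ := β') (fun g hg => hF'.vanish g
        (Set.disjoint_left.mp hd hg)) hF'.one hk' hk0 hF'.norm
      omega
  · rw [classInner_add_left, classInner_add_right, classInner_add_right, classInner_smul_left,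
      classInner_smul_left, classInner_smul_right, classInner_smul_right, hββ, hk,
      hF.psi_orth hF' hd, ← classInner_conj_symm β' ψ, hk', map_intCast, map_intCast]
    push_cast
    ring
  · rw [classInner_add_left, classInner_smul_left, hF.one, hF.psi_one]
    norm_num
  · rw [classInner_add_left, classInner_smul_left, hF'.one, hF'.psi_one]
    norm_num

end LFam

end CfsgLib.Peterfalvi.Pair
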