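import Cfsg.Agent.Lib.Peterfalvi.Pair.NbrArith
import Cfsg.Agent.Lib.Peterfalvi.Pair.Cross
import Mathlib.GroupTheory.SpecificGroups.Cyclic

/-!
Two full sides both of which have neighbours: impossible.
-/

set_option autoImplicit false
set_option linter.style.haveILetI false
set_option linter.unusedSectionVars false

namespace CfsgLib.Peterfalvi.Pair

open Cfsg CfsgLib.Char
open CfsgLib.BG.FixedLine (conj_mem_of_le_normalizer mem_normalizer_of_conj)
open scoped Pointwise

universe u

variable {G : Type u} [Group G] [Fintype G] {M K U W M' V L L' : Subgroup G}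
  {h : Side M K U W} {h' : Side M' W V K}

/-- An element of a cyclic group killed by the order of a subgroup lies in it. -/
theorem mem_of_cyclic {C A : Subgroup G} [IsCyclic C] (hA : A ≤ C) {x : G} (hx : x ∈ C)
    (hp : x ^ Nat.card A = 1) : x ∈ A := by
  classical
  haveI : Fintype C := Fintype.ofFinite _
  set F := Finset.univ.filter fun c : C => c ^ Nat.card A = 1 with hF
  have hsub : (A.subgroupOf C : Set C).toFinset ⊆ F := fun c hc => by
    rw [Set.mem_toFinset, SetLike.mem_coe, Subgroup.mem_subgroupOf] at hc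
    refine Finset.mem_filter.mpr ⟨Finset.mem_univ _, Subtype.ext ?_⟩
    rw [SubgroupClass.coe_pow]
    exact orderOf_dvd_iff_pow_eq_one.mp (Subgroup.orderOf_dvd_natCard _ hc)
  have hcard : F.card ≤ (A.subgroupOf C : Set C).toFinset.card := by
    rw [Set.toFinset_card, ← Nat.card_eq_fintype_card,
      show Nat.card ↥(A.subgroupOf C : Set C) = Nat.card A from
        Nat.card_congr (Subgroup.subgroupOfEquivOfLe hA).toEquiv]
    exact IsCyclic.card_pow_eq_one_le Nat.card_pos
  have hmem : (⟨x, hx⟩ : C) ∈ F :=
    Finset.mem_filter.mpr ⟨Finset.mem_univ _, Subtype.ext (by simpa using hp)⟩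
  rw [← Finset.eq_of_subset_of_card_le hsub hcard, Set.mem_toFinset] at hmem
  exact Subgroup.mem_subgroupOf.mp hmem

theorem cyclic_normalizer {C A : Subgroup G} [IsCyclic C] (hA : A ≤ C) {g : G}
    (hg : g ∈ Subgroup.normalizer (C : Set G)) : g ∈ Subgroup.normalizer (A : Set G) := by
  refine mem_normalizer_of_conj fun a ha => mem_of_cyclic hA (conj_mem_of_le_normalizer hg a (hA ha)) ?_
  rw [conj_pow, orderOf_dvd_iff_pow_eq_one.mp (Subgroup.orderOf_dvd_natCard _ ha), mul_one,
    mul_inv_cancel]

theorem coprime_geom_arith {p q : ℕ} (hq : 3 ≤ q) (hp : 7 ≤ p) : p ^ 2 * q ^ 2 < q ^ (p - 1) := by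
  have key : ∀ k : ℕ, (7 + k) ^ 2 < 3 ^ (4 + k) := by
    intro k
    induction k with
    | zero => norm_num
    | succ k ih =>
      rw [show 4 + (k + 1) = (4 + k) + 1 by ring, pow_succ 3]
      nlinarith
  obtain ⟨k, rfl⟩ : ∃ k, p = 7 + k := ⟨p - 7, by omega⟩
  rw [show 7 + k - 1 = (4 + k) + 2 by omega, pow_add]
  exact Nat.mul_lt_mul_of_pos_right ((key k).trans_le (Nat.pow_le_pow_left hq _)) (by positivity)

namespace Nbr

variable (n : Nbr M K U W M' L) (hf : IsFull h) (hf' : IsFull h')
include n hf hf'

/-- A small core is `U`. -/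
theorem eq_card_U_of_le (he : (sigmaCore L).relIndex L = Nat.card K * Nat.card W) {S : ℕ}
    (hdeg : (sigmaCore L).relIndex L * S + 1 = Nat.card (sigmaCore L))
    (hlt : Nat.card (sigmaCore L) < (2 * (Nat.card K * Nat.card W) + 1) * Nat.card U) :
    Nat.card (sigmaCore L) = Nat.card U := by
  obtain ⟨k, hk⟩ := n.u_dvd
  have hu := hf.u'_eq
  set q := Nat.card K with hq
  set p := Nat.card W with hp
  rw [he] at hdeg
  have h1 : h.u' * k ≡ 1 [MOD 2 * (q * p)] := by
    refine (Nat.modEq_and_modEq_iff_modEq_mul (Nat.coprime_two_left.mpr ?_)).mp ⟨?_, ?_⟩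
    · exact (h.odd_G.of_dvd_nat K.card_subgroup_dvd_card).mul
        (h.odd_G.of_dvd_nat W.card_subgroup_dvd_card)
    · rw [Nat.ModEq, hu, ← hk]
      exact Nat.odd_iff.mp n.odd_m
    · rw [hu, ← hk, ← hdeg]
      show q * p * S + 1 ≡ 1 [MOD q * p]
      simp [Nat.ModEq, Nat.add_mod]
  have h2 : k ≡ 1 [MOD 2 * (q * p)] := by
    have := (hf.u'_modEq_one.mul_right k).symm.trans h1
    rwa [one_mul] at this
  have hk1 : k < 2 * (q * p) + 1 := by
    rw [hk, mul_comm] at hlt
    exact Nat.lt_of_mul_lt_mul_right hlt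
  have hqp : 9 ≤ q * p := Nat.mul_le_mul h.three_le_K h.three_le_W
  rcases Nat.lt_or_ge k (2 * (q * p)) with hlt' | hge
  · rw [Nat.ModEq, Nat.mod_eq_of_lt hlt', Nat.mod_eq_of_lt (by omega)] at h2
    rw [hk, h2, mul_one]
  · rw [show k = 2 * (q * p) by omega, Nat.ModEq, Nat.mod_self, Nat.mod_eq_of_lt (by omega)] at h2
    omega

end Nbr

/-- Both sides cannot have neighbours. -/
theorem false_of_both_nbr (hf : IsFull h) (hf' : IsFull h') (n : Nbr M K U W M' L)
    (n' : Nbr M' W V K M L') (hlt : Nat.card K < Nat.card W) : False := by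
  classical
  obtain ⟨he, hm⟩ := n.outcome hf hf' hlt
  obtain ⟨β, ψ, ι, I, f, w, hF⟩ := exists_lfam n.hG n.hL n.kappa n.frob
  obtain ⟨β', ψ', ι', I', f', w', hF'⟩ := exists_lfam n'.hG n'.hL n'.kappa n'.frob
  have hdeg := hF.deg
  have hdeg' := hF'.deg
  have hu := hf.u'_eq
  have hv := hf'.u'_eq
  set q := Nat.card K with hq
  set p := Nat.card W with hp
  set m := Nat.card (sigmaCore L) with hmdef
  set m' := Nat.card (sigmaCore L') with hmdef'
  have hq3 := h.three_le_K
  have hend : m ≠ Nat.card U := fun e => absurd (n.card_le_of_eq_card_U hf hf' e) (not_le.mpr hlt)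
  have hv7 : 7 ≤ Nat.card V := by
    rw [← hv]; have := h'.u'_ge; have := h'.three_le_K; omega
  have hsmall : (2 * (q * p) + 1) * Nat.card U ≤ m := by
    by_contra hc
    push Not at hc
    exact hend (n.eq_card_U_of_le hf hf' he hdeg hc)
  by_cases hconj : ∃ g : G, L' = MulAut.conj g • L
  · -- conjugate neighbours
    obtain ⟨g, rfl⟩ := hconj
    have hcore := OddLocal.sigmaCore_conj n.hG n.hL g
    have hmm : m' = m := by rw [hmdef', hcore, Coprime.card_conj_smul]
    obtain ⟨k, hk⟩ := n'.u_dvd
    rw [← hmdef', hmm] at hk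
    -- the core has order `v`
    have hmv : m = Nat.card V := by
      have h2 : h'.u' * k ≡ 1 [MOD 2 * (q * p)] := by
        rw [hv, ← hk]
        refine (Nat.modEq_and_modEq_iff_modEq_mul (Nat.coprime_two_left.mpr ?_)).mp ⟨?_, ?_⟩
        · exact (h.odd_G.of_dvd_nat K.card_subgroup_dvd_card).mul
            (h.odd_G.of_dvd_nat W.card_subgroup_dvd_card)
        · rw [Nat.ModEq]
          exact Nat.odd_iff.mp n.odd_m
        · rw [← hdeg, he]
          simp [Nat.ModEq, Nat.add_mod]
      have h3 : k ≡ 1 [MOD 2 * (q * p)] := by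
        have hv1 := hf'.u'_modEq_one
        rw [Nat.mul_comm (Nat.card W) (Nat.card K)] at hv1
        have := (hv1.mul_right k).symm.trans h2
        rwa [one_mul] at this
      have hk1 : k ≤ q := by
        by_contra hc
        push Not at hc
        have h4 : Nat.card V * (q + 1) ≤ m := hk ▸ Nat.mul_le_mul_left _ hc
        have h5 : q * (h'.u' - 1) + q = q * Nat.card V := by
          rw [← Nat.mul_succ, ← hv, show (h'.u' - 1).succ = h'.u' by omega]
        have h6 : Nat.card V * (q + 1) = q * Nat.card V + Nat.card V := by ring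
        omega
      have hlt' : k < 2 * (q * p) := by
        have := h.three_le_W
        nlinarith
      rw [Nat.ModEq, Nat.mod_eq_of_lt hlt', Nat.mod_eq_of_lt (by
        have := h.three_le_W; nlinarith)] at h3
      rw [hk, h3, mul_one]
    have hLV : fittingHallOf (MulAut.conj g • L) = V :=
      (Subgroup.eq_of_le_of_card_ge n'.U_le (by
        rw [n'.core_eq]
        exact le_of_eq (hmm.trans hmv))).symm
    haveI hcyc : IsCyclic (fittingHallOf L) := by
      haveI := hf'.cyclic
      haveI : IsCyclic (fittingHallOf (MulAut.conj g • L)) := hLV.symm ▸ hf'.cyclic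
      have e : fittingHallOf (MulAut.conj g • L) = MulAut.conj g • fittingHallOf L := by
        rw [n'.core_eq, n.core_eq, hcore]
      rw [e] at this
      exact (MulEquiv.isCyclic (Subgroup.equivSMul (MulAut.conj g) (fittingHallOf L))).mpr this
    rcases n.index_cases h hf' with ⟨e, -⟩ | ⟨-, y, hy, e⟩
    · rw [he] at e
      have := h.three_le_W
      nlinarith
    · refine absurd (card_W_le_card_K hf hf' hy fun x hx => cyclic_normalizer n.U_le
        (le_normalizer_fittingHallOf L ?_)) (not_le.mpr hlt)
      exact ((le_sup_right : MulAut.conj y • W ≤ K ⊔ MulAut.conj y • W).trans e.ge ⟨x, hx, rfl⟩).1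
  · push Not at hconj
    have hd : Disjoint (tilde L) (tilde L') :=
      OddLocal.tilde_disjoint n.hG n.hL n'.hL fun g e => hconj g e
    have hbig : m ≤ (q * p) * (q * p) + 1 → False := fun hle => by
      have hu1 : p ^ 2 + p + 1 ≤ Nat.card U := by
        rw [hf.card_U]
        refine le_trans (le_of_eq ?_) (Finset.sum_le_sum_of_subset (f := fun i => Nat.card W ^ i)
          (Finset.range_subset_range.mpr h.three_le_K))
        simp only [Finset.sum_range_succ, Finset.sum_range_zero, pow_zero, pow_one, hp]
        ring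
      have h1 : (2 * (q * p) + 1) * (p ^ 2 + p + 1) ≤ q * p * (q * p) + 1 :=
        le_trans (Nat.mul_le_mul_left _ hu1) (hsmall.trans hle)
      have h2 : q * p * (q * p) ≤ q * p * (2 * p * p) := by
        refine Nat.mul_le_mul_left _ ?_
        nlinarith
      nlinarith [Nat.mul_pos h.primeK.pos h.primeW.pos]
    have he' : (sigmaCore L').relIndex L' ≤ q * p :=
      (n'.away hf' hf).index_le.trans (le_of_eq (Nat.mul_comm _ _))
    rcases hF.cross_bound n.hG.1 hF' hd with hb | hb
    · -- the dual core is small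
      have hm' : Nat.card V ≤ q * p * (q * p) + 1 := by
        refine (Nat.le_of_dvd Nat.card_pos n'.u_dvd).trans ?_
        rw [← hmdef', ← hdeg']
        have := Nat.mul_le_mul he' (hb.trans (le_of_eq he))
        omega
      rcases Nat.lt_or_ge p 7 with h6 | h6
      · have hp5 : p = 5 := by
          have := h.primeW
          rw [← hp] at this
          interval_cases p <;> first | rfl | omega | norm_num at this
        have hq3' : q = 3 := by
          have h1 := h.primeK
          rw [← hq] at h1
          rw [hp5] at hlt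
          interval_cases q <;> first | rfl | omega | norm_num at h1
        have hV : Nat.card V = 121 := by
          rw [hf'.card_U, ← hp, ← hq, hp5, hq3']
          decide
        have hU : 31 = Nat.card U := by
          rw [hf.card_U, ← hp, ← hq, hp5, hq3']
          decide
        rw [hv, hV, hq3'] at hm
        rw [hq3', hp5, ← hU] at hsmall
        omega
      · have h1 := coprime_geom_arith hq3 h6
        have h2 : q ^ (p - 1) + 1 ≤ Nat.card V := by
          rw [hf'.card_U, ← hp, ← hq]
          obtain ⟨j, hj⟩ : ∃ j, p = j + 2 := ⟨p - 2, by omega⟩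
          rw [hj, show j + 2 - 1 = j + 1 by omega, Finset.sum_range_succ (n := j + 1)]
          have : 1 ≤ ∑ i ∈ Finset.range (j + 1), q ^ i := by
            rw [Finset.sum_range_succ', pow_zero]; omega
          omega
        have h3 : p ^ 2 * q ^ 2 = q * p * (q * p) := by ring
        linarith
    · refine hbig ?_
      rw [← hdeg, he]
      have := Nat.mul_le_mul_left (q * p) (hb.trans he')
      omega

end CfsgLib.Peterfalvi.Pair
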