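import Cfsg.Agent.Lib.Peterfalvi.Pair.NormIneq
import Cfsg.Agent.Lib.Peterfalvi.TypeOneNu

/-!
Groups of linear characters of `F(M)` and the count of those with minimal stabiliser.
-/

set_option autoImplicit false
set_option linter.style.haveILetI false
set_option linter.unusedSectionVars false

namespace CfsgLib.Peterfalvi.Pair

open Cfsg CfsgLib.Char
open CfsgLib.BG.FixedLine (conj_mem_of_le_normalizer mem_normalizer_of_conj)

universe u

variable {G : Type u} [Group G]

/-- The linear characters of `H` trivial on the elements of `T`. -/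
def annih (H T : Subgroup G) : Subgroup (Lin H) where
  carrier := {χ | ∀ x : H, (x : G) ∈ T → χ x = 1}
  one_mem' := fun _ _ => rfl
  mul_mem' := fun {a b} ha hb x hx => by rw [MonoidHom.mul_apply, ha x hx, hb x hx, one_mul]
  inv_mem' := fun {a} ha x hx => by rw [MonoidHom.inv_apply, ha x hx, inv_one]

theorem annih_anti {H S T : Subgroup G} (hST : S ≤ T) : annih H T ≤ annih H S :=
  fun _ hχ x hx => hχ x (hST hx)

/-- As many linear characters as cosets when the commutators lie below. -/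
theorem card_annih [Finite G] {H T : Subgroup G} (hT : T ≤ H)
    (hcomm : ∀ a ∈ H, ∀ b ∈ H, a * b * a⁻¹ * b⁻¹ ∈ T) :
    Nat.card (annih H T) * Nat.card T = Nat.card H := by
  haveI hn : (T.subgroupOf H).Normal :=
    (Subgroup.normal_subgroupOf_iff_le_normalizer hT).mpr fun a ha =>
      mem_normalizer_of_conj fun b hb => by
        have := mul_mem (hcomm a ha b (hT hb)) hb
        simpa [mul_assoc] using this
  letI : CommGroup (H ⧸ T.subgroupOf H) := { (inferInstance : Group (H ⧸ T.subgroupOf H)) with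
    mul_comm := fun x y => by
      obtain ⟨a, rfl⟩ := QuotientGroup.mk'_surjective _ x
      obtain ⟨b, rfl⟩ := QuotientGroup.mk'_surjective _ y
      rw [← map_mul, ← map_mul, QuotientGroup.mk'_eq_mk']
      refine ⟨(a * b)⁻¹ * (b * a), Subgroup.mem_subgroupOf.mpr ?_, mul_inv_cancel_left _ _⟩
      push_cast
      have := hcomm _ (inv_mem b.2) _ (inv_mem a.2)
      simpa [mul_assoc] using this }
  let e : annih H T ≃ ((H ⧸ T.subgroupOf H) →* ℂˣ) :=
    { toFun := fun χ => QuotientGroup.lift _ χ.1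
        (fun x hx => MonoidHom.mem_ker.mpr (χ.2 x (Subgroup.mem_subgroupOf.mp hx)))
      invFun := fun f => ⟨f.comp (QuotientGroup.mk' _), fun x hx => by
        rw [MonoidHom.comp_apply, QuotientGroup.mk'_apply,
          (QuotientGroup.eq_one_iff x).mpr (Subgroup.mem_subgroupOf.mpr hx), map_one]⟩
      left_inv := fun χ => Subtype.ext (MonoidHom.ext fun x => rfl)
      right_inv := fun f => MonoidHom.ext fun q => by
        induction q using QuotientGroup.induction_on with
        | _ z => rfl }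
  rw [Nat.card_congr e, card_hom_units, ← Nat.card_congr (Subgroup.subgroupOfEquivOfLe hT).toEquiv,
    ← Subgroup.card_eq_card_quotient_mul_card_subgroup]

variable [Fintype G] {M K U W : Subgroup G}

theorem tw_mem_annih {T : Subgroup G} {χ : Lin (fittingOf M)} (hχ : χ ∈ annih (fittingOf M) T)
    {m : M} (hm : (m : G) ∈ Subgroup.normalizer (T : Set G)) :
    tw χ m ∈ annih (fittingOf M) T := fun _ hx =>
  hχ _ (Subgroup.mem_normalizer_iff.mp hm _ |>.mp hx)

namespace Side

variable (h : Side M K U W)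
include h

/-- The part of `M_F` moved by `U`. -/
abbrev Q (_ : Side M K U W) : Subgroup G := ⁅fittingHallOf M, U⁆

/-- The dual of the chief factor `M_F/P₀`. -/
abbrev D (_ : Side M K U W) : Subgroup (Lin (fittingOf M)) :=
  annih (fittingOf M) ((fittingHallOf M ⊓ Subgroup.centralizer (U : Set G)) ⊔
    (U ⊓ Subgroup.centralizer (fittingHallOf M : Set G)))

/-- The linear characters trivial on the moved part. -/
abbrev E (_ : Side M K U W) : Subgroup (Lin (fittingOf M)) :=
  annih (fittingOf M) ⁅fittingHallOf M, U⁆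

theorem Q_le : h.Q ≤ fittingHallOf M :=
  Coprime.commutator_le_left_of_le_normalizer h.U_le_normalizer_P

theorem Q_sup_P0 : h.Q ⊔ h.P0 = fittingHallOf M :=
  Coprime.commutator_sup_centralizer h.U_le_normalizer_P h.coprime_P_U.symm
    (Or.inl (h.solvable_le (U_le h.hP)))

theorem commute_P_C {a c : G} (ha : a ∈ fittingHallOf M) (hc : c ∈ h.C) : a * c = c * a :=
  hc.2 a ha

theorem commutator_mem_P0C {a b : G} (ha : a ∈ fittingOf M) (hb : b ∈ fittingOf M) :
    a * b * a⁻¹ * b⁻¹ ∈ h.P0 ⊔ h.C := by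
  rw [← h.fittingOf_eq, ← SetLike.mem_coe, Subgroup.coe_mul_of_right_le_normalizer_left _ _
    (inf_le_left.trans h.U_le_normalizer_P), Set.mem_mul] at ha hb
  obtain ⟨x, hx, c, hc, rfl⟩ := ha
  obtain ⟨y, hy, d, hd, rfl⟩ := hb
  have e : x * c * (y * d) * (x * c)⁻¹ * (y * d)⁻¹ =
      (x * y * x⁻¹ * y⁻¹) * (c * d * c⁻¹ * d⁻¹) := by
    have hzD : ∀ {z : G}, z ∈ fittingHallOf M → ∀ {e : G}, e ∈ h.C → Commute z e :=
      fun hz _ he => h.commute_P_C hz he
    calc x * c * (y * d) * (x * c)⁻¹ * (y * d)⁻¹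
        = x * (c * y) * d * c⁻¹ * (x⁻¹ * d⁻¹) * y⁻¹ := by group
      _ = x * (y * c) * d * c⁻¹ * (d⁻¹ * x⁻¹) * y⁻¹ := by
          rw [(hzD hy hc).eq, ((hzD hx hd).inv_inv).eq]
      _ = x * y * ((c * d * c⁻¹ * d⁻¹) * (x⁻¹ * y⁻¹)) := by group
      _ = x * y * ((x⁻¹ * y⁻¹) * (c * d * c⁻¹ * d⁻¹)) := by
          rw [← (hzD ((fittingHallOf M).mul_mem ((fittingHallOf M).inv_mem hx)
            ((fittingHallOf M).inv_mem hy)) (h.C.mul_mem (h.C.mul_mem (h.C.mul_mem hc hd)
              (h.C.inv_mem hc)) (h.C.inv_mem hd))).eq]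
      _ = _ := by group
  rw [e]
  refine mul_mem (Subgroup.mem_sup_left ⟨?_, h.comm_mem x hx y hy⟩) (Subgroup.mem_sup_right ?_)
  · exact (fittingHallOf M).mul_mem ((fittingHallOf M).mul_mem ((fittingHallOf M).mul_mem hx hy)
      ((fittingHallOf M).inv_mem hx)) ((fittingHallOf M).inv_mem hy)
  · exact h.C.mul_mem (h.C.mul_mem (h.C.mul_mem hc hd) (h.C.inv_mem hc)) (h.C.inv_mem hd)

theorem card_P0C : Nat.card ↥(h.P0 ⊔ h.C) = Nat.card h.P0 * Nat.card h.C :=
  Coprime.card_sup_of_coprime (fun c hc => mem_normalizer_of_conj fun a ha => by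
    rwa [← hc.2 a ha.1, mul_inv_cancel_right])
    ((h.coprime_P_U.coprime_dvd_left (Subgroup.card_dvd_of_le inf_le_left)).coprime_dvd_right
      (Subgroup.card_dvd_of_le inf_le_left))

theorem card_D : Nat.card h.D = Nat.card W ^ Nat.card K := by
  have h1 := card_annih (H := fittingOf M) (T := h.P0 ⊔ h.C)
    (sup_le (inf_le_left.trans h.fittingHallOf_le_fittingOf) h.C_le_fittingOf)
    fun a ha b hb => h.commutator_mem_P0C ha hb
  rw [h.card_P0C, h.card_fittingOf, h.card_P, mul_assoc] at h1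
  exact Nat.eq_of_mul_eq_mul_right (Nat.mul_pos Nat.card_pos Nat.card_pos) h1

theorem eq_one_of_mem_D_E {χ : Lin (fittingOf M)} (hD : χ ∈ h.D) (hE : χ ∈ h.E) : χ = 1 := by
  have hle : fittingOf M ≤ χ.ker.map (fittingOf M).subtype := by
    conv_lhs => rw [← h.fittingOf_eq, ← h.Q_sup_P0, sup_assoc]
    refine sup_le (fun z hz => ?_) fun z hz => ?_
    · exact ⟨⟨z, h.fittingHallOf_le_fittingOf (h.Q_le hz)⟩, hE _ hz, rfl⟩
    · exact ⟨⟨z, (sup_le (inf_le_left.trans h.fittingHallOf_le_fittingOf) h.C_le_fittingOf :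
        h.P0 ⊔ h.C ≤ fittingOf M) hz⟩, hD _ hz, rfl⟩
  refine MonoidHom.ext fun x => ?_
  obtain ⟨y, hy, e⟩ := hle x.2
  rw [show x = y from Subtype.ext e.symm]
  exact hy

theorem pow_mem_P0C {x : G} (hx : x ∈ fittingOf M) : x ^ Nat.card W * 1 ∈ h.P0 ⊔ h.C := by
  rw [mul_one]
  rw [← h.fittingOf_eq, ← SetLike.mem_coe, Subgroup.coe_mul_of_right_le_normalizer_left _ _
    (inf_le_left.trans h.U_le_normalizer_P), Set.mem_mul] at hx
  obtain ⟨a, ha, c, hc, rfl⟩ := hx
  rw [(show Commute a c from h.commute_P_C ha hc).mul_pow]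
  exact mul_mem (Subgroup.mem_sup_left ⟨(fittingHallOf M).pow_mem ha _, h.pow_mem a ha⟩)
    (Subgroup.mem_sup_right (h.C.pow_mem hc _))

theorem pow_eq_one_of_mem_D {χ : Lin (fittingOf M)} (hD : χ ∈ h.D) :
    χ ^ Nat.card W = 1 := MonoidHom.ext fun x => by
  rw [MonoidHom.pow_apply, ← map_pow, MonoidHom.one_apply]
  exact hD _ (by simpa using h.pow_mem_P0C x.2)

/-- `U` has no invariant subgroup between `P₀` and `M_F`. -/
def Irred (_ : Side M K U W) : Prop :=
  ∀ N : Subgroup G, fittingHallOf M ⊓ Subgroup.centralizer (U : Set G) ≤ N → N ≤ fittingHallOf M →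
    U ≤ Subgroup.normalizer (N : Set G) →
    N = fittingHallOf M ⊓ Subgroup.centralizer (U : Set G) ∨ N = fittingHallOf M

variable (hirr : h.Irred)
include hirr

theorem min_of_notMem_E {χ : Lin (fittingOf M)} (hχ : χ ∉ h.E) : IsMin h χ := by
  intro u hu hst
  by_contra huC
  refine hχ ?_
  set P := fittingHallOf M with hP
  set A := (Subgroup.zpowers (u : G)) ⊔ h.C with hA
  have hAU : A ≤ U := sup_le (Subgroup.zpowers_le.mpr hu) inf_le_left
  have hAn : U ≤ Subgroup.normalizer (A : Set G) := fun v hv => mem_normalizer_of_conj fun a ha => by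
    have := mul_mem (Subgroup.mem_sup_right (S := Subgroup.zpowers (u : G))
      (h.commutator_mem_C hv (hAU ha))) ha
    simpa [mul_assoc] using this
  have hA' : ∀ a ∈ A, ∀ (ha : a ∈ M), (⟨a, ha⟩ : M) ∈ linStab χ := by
    have hle : A ≤ (linStab χ).map M.subtype := sup_le
      (Subgroup.zpowers_le.mpr ⟨u, hst, rfl⟩)
      fun c hc => ⟨⟨c, h.fittingOf_le (h.C_le_fittingOf hc)⟩,
        mem_linStab.mpr (tw_of_mem χ (h.C_le_fittingOf hc)), rfl⟩
    intro a ha haM
    obtain ⟨b, hb, e⟩ := hle ha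
    rwa [show (⟨a, haM⟩ : M) = b from Subtype.ext e.symm]
  have hker : ⁅P, A⁆ ≤ χ.ker.map (fittingOf M).subtype := Subgroup.commutator_le.mpr
    fun z hz v hv => by
      have hvM : v ∈ M := U_le h.hP (hAU hv)
      have hfix := DFunLike.congr_fun (mem_linStab.mp (hA' v hv hvM))
        (⟨z, h.fittingHallOf_le_fittingOf hz⟩⁻¹ : fittingOf M)
      refine ⟨⟨z, h.fittingHallOf_le_fittingOf hz⟩ *
        ⟨v * z⁻¹ * v⁻¹, mem_fitting_conj M ⟨v, hvM⟩
          (inv_mem (h.fittingHallOf_le_fittingOf hz))⟩, ?_, by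
        simp [commutatorElement_def, mul_assoc]⟩
      rw [tw_apply] at hfix
      simp only [InvMemClass.coe_inv, map_inv] at hfix
      rw [SetLike.mem_coe, MonoidHom.mem_ker, map_mul]
      exact (congrArg _ hfix).trans (mul_inv_cancel _)
  have hPA : ⁅P, A⁆ ≤ P := Coprime.commutator_le_left_of_le_normalizer (hAU.trans h.U_le_normalizer_P)
  have hUN : U ≤ Subgroup.normalizer ((⁅P, A⁆ : Subgroup G) : Set G) :=
    Coprime.le_normalizer_commutator h.U_le_normalizer_P hAn
  rcases hirr (h.P0 ⊔ ⁅P, A⁆) le_sup_left (sup_le inf_le_left hPA)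
      (Coprime.le_normalizer_sup_of_le ((U_le h.hP).trans h.fixed_normal) hUN) with e | e
  · refine absurd (h.mem_C_of_trivial_mod hu fun x hx => e.le (Subgroup.mem_sup_right ?_)) huC
    have := inv_mem (Subgroup.commutator_mem_commutator hx
      (Subgroup.mem_sup_left (T := h.C) (Subgroup.mem_zpowers (u : G))))
    simpa [commutatorElement_def, mul_assoc] using this
  · have hQ : h.Q ≤ ⁅P, A⁆ := by
      refine Subgroup.commutator_le.mpr fun x hx v hv => ?_
      have hx' : x ∈ ⁅P, A⁆ ⊔ h.P0 := by rw [sup_comm]; exact e.ge hx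
      rw [← SetLike.mem_coe, Subgroup.coe_mul_of_right_le_normalizer_left _ _ ?_, Set.mem_mul] at hx'
      · obtain ⟨z, hz, y, hy, rfl⟩ := hx'
        have hyv : v * y⁻¹ = y⁻¹ * v := (Commute.inv_right (show Commute v y from hy.2 v hv)).eq
        rw [commutatorElement_def, mul_inv_rev,
          show z * y * v * (y⁻¹ * z⁻¹) * v⁻¹ = z * y * (v * y⁻¹) * (z⁻¹ * v⁻¹) by group, hyv,
          show z * y * (y⁻¹ * v) * (z⁻¹ * v⁻¹) = z * (v * z⁻¹ * v⁻¹) by group]
        exact mul_mem hz (conj_mem_of_le_normalizer (hUN hv) _ (inv_mem hz))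
      · intro y hy
        refine Coprime.le_normalizer_commutator (A := h.P0) (inf_le_left.trans Subgroup.le_normalizer)
          (fun y hy => mem_normalizer_of_conj fun a ha => ?_) hy
        rwa [show y * a * y⁻¹ = a by rw [← hy.2 a (hAU ha), mul_inv_cancel_right]]
    intro x hx
    obtain ⟨y, hy, e'⟩ := hker (hQ hx)
    rw [show x = y from Subtype.ext e'.symm]
    exact hy

/-- A lower bound for the number of characters with minimal stabiliser. -/
theorem card_le_minCount : (Nat.card W ^ Nat.card K - 1) * Nat.card h.E ≤ minCount h := by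
  rw [← h.card_D]
  have hc : Nat.card {d : h.D // d ≠ 1} = Nat.card h.D - 1 := by
    haveI : Fintype h.D := Fintype.ofFinite _
    classical
    rw [Nat.card_eq_fintype_card, Nat.card_eq_fintype_card, Fintype.card_subtype_compl,
      Fintype.card_subtype_eq]
  rw [← hc, ← Nat.card_prod]
  haveI : Finite {χ : Lin (fittingOf M) // IsMin h χ} := Subtype.finite
  refine Nat.card_le_card_of_injective (fun p => ⟨p.1.1.1 * p.2.1, h.min_of_notMem_E hirr
    fun hmem => p.1.2 (Subtype.ext (h.eq_one_of_mem_D_E p.1.1.2 ?_))⟩) fun p q e => ?_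
  · have := h.E.mul_mem hmem (h.E.inv_mem p.2.2)
    convert this using 1
    exact MonoidHom.ext fun x => (mul_inv_cancel_right _ _).symm
  · have e' : p.1.1.1 * p.2.1 = q.1.1.1 * q.2.1 := congrArg Subtype.val e
    have h1 : q.1.1.1⁻¹ * p.1.1.1 = q.2.1 * p.2.1⁻¹ := MonoidHom.ext fun x => by
      simp only [MonoidHom.mul_apply, MonoidHom.inv_apply]
      rw [inv_mul_eq_iff_eq_mul, ← mul_assoc, ← MonoidHom.mul_apply, ← e', MonoidHom.mul_apply,
        mul_inv_cancel_right]
    have h2 : q.1.1.1⁻¹ * p.1.1.1 = 1 := h.eq_one_of_mem_D_E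
      (h.D.mul_mem (h.D.inv_mem q.1.1.2) p.1.1.2) (h1 ▸ h.E.mul_mem q.2.2 (h.E.inv_mem p.2.2))
    have h3 : p.1.1.1 = q.1.1.1 := MonoidHom.ext fun x =>
      (inv_mul_eq_one.mp (DFunLike.congr_fun h2 x)).symm
    exact Prod.ext (Subtype.ext (Subtype.ext h3))
      (Subtype.ext (mul_left_cancel (h3 ▸ e')))

end Side

end CfsgLib.Peterfalvi.Pair
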