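import Cfsg.Agent.Lib.Peterfalvi.Pair.LFamily
import Cfsg.Agent.Lib.Peterfalvi.Pair.SideDual
import Cfsg.Agent.Lib.Peterfalvi.DadeDiff
import Cfsg.Agent.Lib.Peterfalvi.TameAll

/-!
Virtual characters attached to a side of type III or IV and the linear characters of its `U`.
-/

set_option autoImplicit false
set_option linter.style.haveILetI false
set_option linter.unusedSectionVars false

namespace CfsgLib.Peterfalvi.Pair

open Cfsg CfsgLib.Char
open CfsgLib.BG.FixedLine (conj_mem_of_le_normalizer mem_normalizer_of_conj)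
open scoped ComplexConjugate CfsgLib.Char Pointwise

universe u

variable {G : Type u} [Group G] [Fintype G] {M K U W : Subgroup G}

/-- The virtual characters and their irreducible characters. -/
structure TFam {ι : Type u} (T : Subgroup G) (p : ℕ) (Z : Finset ι) (B μ : ι → G → ℂ) : Prop where
  gen : ∀ i ∈ Z, IsGeneralizedCharacter G (B i)
  norm : ∀ i ∈ Z, classInner (B i) (B i) = ((p + 1 : ℕ) : ℂ)
  one : ∀ i ∈ Z, classInner (B i) (fun _ => 1) = 1
  irr : ∀ i ∈ Z, IsIrrCharacter G (μ i)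
  conj_ne : ∀ i ∈ Z, conjFun (μ i) ≠ μ i
  conj_sub : ∀ i ∈ Z, conjFun (B i) - B i = μ i - conjFun (μ i)
  vanish : ∀ i ∈ Z, ∀ g, g ∉ tilde T → B i g = 0
  sub_vanish : ∀ i ∈ Z, ∀ g, g ∉ tilde T → μ i g = conjFun (μ i) g
  inj : Set.InjOn μ Z

theorem exists_tfam (h : Side M K U W) (hcyc : IsCyclic U) (hd : sigmaCore M = ⁅M, M⁆) :
    ∃ (ι : Type u) (Z : Finset ι) (B μ : ι → G → ℂ),
      TFam M (Nat.card K) Z B μ ∧ Nat.card U - 1 ≤ Nat.card K * Z.card := by
  classical
  haveI : Fintype M := Fintype.ofFinite _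
  set D := sigmaCore M with hD
  set Q := fittingHallOf M with hQ
  have hQD : Q ≤ D := hd ▸ fittingHallOf_le_derived h.hP
  have hDM : D ≤ M := OddLocal.piCoreOf_le _ M
  have hnorm : M ≤ Subgroup.normalizer (D : Set G) := hd ▸ le_normalizer_derived M
  haveI hNn : (D.subgroupOf M).Normal := (Subgroup.normal_subgroupOf_iff_le_normalizer hDM).mpr hnorm
  set N := D.subgroupOf M with hN
  haveI : Fintype N := Fintype.ofFinite _
  have hUab : ∀ a ∈ U, ∀ b ∈ U, a * b = b * a := fun a ha b hb => by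
    haveI := hcyc
    exact congrArg Subtype.val (IsCyclic.commGroup.mul_comm (⟨a, ha⟩ : U) ⟨b, hb⟩)
  have hcompl : IsComplIn Q U D := hd ▸ h.hP.U_compl
  have hcomm : ∀ a ∈ D, ∀ b ∈ D, a * b * a⁻¹ * b⁻¹ ∈ Q := by
    intro a ha b hb
    obtain ⟨x, hx, v, hv, rfl⟩ := hcompl.2.2.2 a ha
    obtain ⟨y, hy, z, hz, rfl⟩ := hcompl.2.2.2 b hb
    have hn : ∀ {c : G}, c ∈ U → ∀ {t : G}, t ∈ Q → c * t * c⁻¹ ∈ Q := fun hc _ ht =>
      conj_mem_of_le_normalizer (h.U_le_normalizer_P hc) _ ht
    have e : x * v * (y * z) * (x * v)⁻¹ * (y * z)⁻¹ =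
        x * (v * y * v⁻¹) * (z * x⁻¹ * z⁻¹) * y⁻¹ := by
      rw [show x * v * (y * z) * (x * v)⁻¹ * (y * z)⁻¹ =
        x * (v * y * v⁻¹) * ((v * z * v⁻¹) * x⁻¹ * z⁻¹) * y⁻¹ by group, hUab v hv z hz,
        mul_inv_cancel_right]
    rw [e]
    exact mul_mem (mul_mem (mul_mem hx (hn hv hy)) (hn hz (inv_mem hx))) (inv_mem hy)
  -- the linear characters
  let X := {ϑ : annih D Q // ϑ ≠ 1}
  let θ : X → N →* ℂˣ := fun ϑ =>
    (ϑ.1.1).comp (Subgroup.subgroupOfEquivOfLe hDM).toMonoidHom
  let θc : X → N → ℂ := fun ϑ n => (θ ϑ n : ℂ)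
  have hθirr : ∀ ϑ, IsIrrCharacter N (θc ϑ) := fun ϑ => isIrrCharacter_monoidHom (θ ϑ)
  have hinert : ∀ ϑ, inertia N (θc ϑ) = N := by
    intro ϑ
    refine le_antisymm (fun m hm => ?_) (le_inertia N (isClassFunction_of_isCharacter
      (isCharacter_of_isIrr (hθirr ϑ))))
    obtain ⟨d, hd', w, hw, hdw⟩ := h.hP.W₁_compl.2.2.2 m m.2
    by_cases hw1 : w = 1
    · rw [hw1, mul_one] at hdw
      rw [hN, Subgroup.mem_subgroupOf, hdw, hd]
      exact hd'
    exfalso
    have hwM : w ∈ M := K_le h.hP hw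
    have hdN : (⟨d, Subgroup.commutator_le_self M hd'⟩ : M) ∈ inertia N (θc ϑ) :=
      le_inertia N (isClassFunction_of_isCharacter (isCharacter_of_isIrr (hθirr ϑ)))
        (Subgroup.mem_subgroupOf.mpr (hd ▸ hd'))
    have hwI : (⟨w, hwM⟩ : M) ∈ inertia N (θc ϑ) := by
      have := (inertia N (θc ϑ)).mul_mem ((inertia N (θc ϑ)).inv_mem hdN) hm
      convert this using 1
      refine Subtype.ext ?_
      show w = d⁻¹ * (m : G)
      rw [hdw]; group
    have hfix : ∀ (x : G) (hx : x ∈ D),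
        ϑ.1.1 ⟨w * x * w⁻¹, conj_mem_of_le_normalizer (hnorm hwM) x hx⟩ = ϑ.1.1 ⟨x, hx⟩ := by
      intro x hx
      exact Units.ext (congrFun hwI ⟨⟨x, hDM hx⟩, Subgroup.mem_subgroupOf.mpr hx⟩)
    have hUn : ∀ x ∈ U, w * x * w⁻¹ ∈ U := fun x hx =>
      conj_mem_of_le_normalizer (h.hP.U_normal hw) x hx
    let φ : U → U := fun x => ⟨(x : G)⁻¹ * (w * x * w⁻¹), mul_mem (inv_mem x.2) (hUn x x.2)⟩
    have hinj : Function.Injective φ := by
      intro x y e
      have e' : (x : G)⁻¹ * (w * x * w⁻¹) = (y : G)⁻¹ * (w * y * w⁻¹) := congrArg Subtype.val e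
      have h1 : w * ((y : G)⁻¹ * x) * w⁻¹ = (y : G)⁻¹ * x := by
        calc w * ((y : G)⁻¹ * x) * w⁻¹ = (w * y * w⁻¹)⁻¹ * (w * x * w⁻¹) := by group
          _ = ((y : G) * ((y : G)⁻¹ * (w * y * w⁻¹)))⁻¹ *
              ((x : G) * ((x : G)⁻¹ * (w * x * w⁻¹))) := by group
          _ = ((y : G)⁻¹ * (w * y * w⁻¹))⁻¹ * (((y : G)⁻¹ * x) * ((y : G)⁻¹ * (w * y * w⁻¹))) := by
              rw [e']; group
          _ = ((y : G)⁻¹ * (w * y * w⁻¹))⁻¹ * (((y : G)⁻¹ * (w * y * w⁻¹)) * ((y : G)⁻¹ * x)) := by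
              rw [hUab _ (mul_mem (inv_mem y.2) x.2) _ (mul_mem (inv_mem y.2) (hUn y y.2))]
          _ = _ := by group
      have h2 := fpf_U h.hP hw hw1 (mul_mem (inv_mem y.2) x.2) (mul_inv_eq_iff_eq_mul.mp h1)
      exact Subtype.ext (inv_mul_eq_one.mp h2).symm
    have hsurj := Finite.injective_iff_surjective.mp hinj
    refine ϑ.2 (Subtype.ext (MonoidHom.ext fun a => ?_))
    obtain ⟨x, hx, v, hv, hav⟩ := hcompl.2.2.2 _ a.2
    obtain ⟨y, hy⟩ := hsurj ⟨v, hv⟩
    have hy' : (y : G)⁻¹ * (w * y * w⁻¹) = v := congrArg Subtype.val hy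
    have hyD : (y : G) ∈ D := hcompl.2.1 y.2
    have ha : a = ⟨x, hQD hx⟩ * ((⟨y, hyD⟩ : D)⁻¹ *
        ⟨w * y * w⁻¹, conj_mem_of_le_normalizer (hnorm hwM) y hyD⟩) :=
      Subtype.ext (by push_cast; rw [hy', hav])
    rw [ha, map_mul, map_mul, map_inv, hfix y hyD, inv_mul_cancel, mul_one]
    exact ϑ.1.2 ⟨x, hQD hx⟩ hx
  have hindex : N.index = Nat.card K := by
    have := OddLocal.relIndex_left_of_isComplIn h.hP.W₁_compl
    rw [hN, hd]
    exact this
  let ζ : X → M → ℂ := fun ϑ => indFun N (θc ϑ)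
  have hζζ : ∀ ϑ ϑ', classInner (ζ ϑ') (ζ ϑ) = if θc ϑ' ∈ orbit N (θc ϑ) then 1 else 0 := by
    intro ϑ ϑ'
    rw [classInner_indFun_indFun N (hθirr ϑ) (hθirr ϑ'), hinert]
    refine if_congr Iff.rfl (div_self (Nat.cast_ne_zero.mpr Nat.card_pos.ne')) rfl
  have hζ1 : ∀ ϑ, ζ ϑ 1 = (Nat.card K : ℂ) := fun ϑ => by
    show indFun N (θc ϑ) 1 = _
    rw [indFun_one, hindex]; simp [θc]
  have hζirr : ∀ ϑ, IsIrrCharacter M (ζ ϑ) := by
    intro ϑ
    have hchar : IsCharacter M (ζ ϑ) := isCharacter_indFun N (isCharacter_of_isIrr (hθirr ϑ))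
    obtain ⟨ε, hε, ⟨ν, hν⟩, he⟩ := exists_of_norm_one (isGeneralized_of_isCharacter hchar)
      (by rw [hζζ, if_pos (self_mem_orbit N _)])
    rcases hε with rfl | rfl
    · rw [show ζ ϑ = ν by simpa using he]; exact hν
    · exfalso
      obtain ⟨d, hd''⟩ := exists_nat_degree (isCharacter_of_isIrr hν)
      have h1 := congrFun he 1
      rw [hζ1] at h1
      simp only [Int.cast_neg, Int.cast_one, Pi.smul_apply, smul_eq_mul, neg_mul, one_mul, hd''] at h1
      have h2 : ((Nat.card K + d : ℕ) : ℂ) = 0 := by push_cast; linear_combination h1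
      have : Nat.card K + d = 0 := Nat.cast_eq_zero.mp h2
      have := h.primeK.pos
      omega
  -- the Dade data
  set A : Set G := (D : Set G) \ {1} with hA
  set R := supportR M with hR
  have hTA : typeA1 M = A := typeA1_eq_diff h.hG h.hM
  have hDade : DadeHypothesis A M R := dadeHypothesis_of_tame (tame_typeA h.hG h.hM)
    (hTA ▸ typeA1_subset_typeA' h.hG h.hM) (fun x hx => hDM hx.1) (fun e => e.2 rfl)
    fun m hm x hx => ⟨conj_mem_of_le_normalizer (hnorm hm) x hx.1, fun e => hx.2 (conj_eq_one_iff.mp e)⟩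
  have hoff : ∀ (φ : N → ℂ) (x : M), (x : G) ∉ A → x ≠ 1 → indFun N φ x = 0 := fun φ x hx hx1 =>
    indFun_notMem_of_normal N φ fun hc =>
      hx ⟨Subgroup.mem_subgroupOf.mp hc, fun e => hx1 (Subtype.ext e)⟩
  have hsupp : ∀ (α : M → ℂ) g, g ∉ tilde M → dadeIsometry A M R α g = 0 := fun α g hg =>
    dade_value_zero fun ⟨a, ha, x, r, hr, e⟩ => hg ⟨a, ha, r, hr, x⁻¹, by rw [← e]; group⟩
  have hach : ∀ ϑ, AChar A M (ζ ϑ) := by
    intro ϑ
    refine ⟨hζirr ϑ, fun e => ?_, fun x hx1 hx => hoff _ x hx hx1⟩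
    have hone := irr_real_of_odd (Odd.of_dvd_nat h.hG.1 M.card_subgroup_dvd_card)
      ⟨ζ ϑ, hζirr ϑ⟩ fun g => Complex.conj_eq_iff_im.mp (congrFun e g)
    have h1 := congrFun hone 1
    simp only [hζ1] at h1
    exact h.primeK.ne_one (Nat.cast_eq_one.mp h1)
  choose μ hμ using fun ϑ => exists_dadeMu hDade (hach ϑ)
  let α : X → M → ℂ := fun ϑ => indFun N (fun _ => 1) - ζ ϑ
  have hαg : ∀ ϑ, IsGeneralizedCharacter M (α ϑ) := fun ϑ => isGeneralized_sub
    (isGeneralized_indFun N (isGeneralized_of_isIrr isIrrCharacter_one))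
    (isGeneralized_of_isIrr (hζirr ϑ))
  have hαA : ∀ ϑ (x : M), (x : G) ∉ A → α ϑ x = 0 := by
    intro ϑ x hx
    rcases eq_or_ne x 1 with rfl | hx1
    · show indFun N (fun _ => (1 : ℂ)) 1 - ζ ϑ 1 = 0
      rw [indFun_one, hindex, hζ1]; ring
    · show indFun N (fun _ => (1 : ℂ)) x - indFun N (θc ϑ) x = 0
      rw [hoff _ x hx hx1, hoff _ x hx hx1, sub_zero]
  have hθne : ∀ ϑ, θc ϑ ≠ fun _ => 1 := fun ϑ e => ϑ.2 (Subtype.ext (MonoidHom.ext fun a => by
    have := congrFun e ((Subgroup.subgroupOfEquivOfLe hDM).symm a)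
    simp only [θc, θ, MonoidHom.comp_apply, MulEquiv.coe_toMonoidHom, MulEquiv.apply_symm_apply] at this
    exact Units.ext this))
  have hiz : ∀ ϑ, classInner (indFun N (fun _ => (1 : ℂ))) (ζ ϑ) = 0 := fun ϑ => by
    rw [classInner_indFun_indFun N (hθirr ϑ) isIrrCharacter_one, if_neg]
    intro e
    obtain ⟨g, hg⟩ := (mem_orbit N).mp e
    refine hθne ϑ (funext fun n => ?_)
    have h1 : conjBy N (θc ϑ) g ((MulAut.conjNormal g : MulAut N)⁻¹ n) = 1 := by rw [hg]
    simpa [conjBy_eq_comp] using h1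
  have hone : classInner (indFun N (fun _ => (1 : ℂ))) (fun _ => 1) = 1 := by
    rw [frobenius_reciprocity N _ (fun _ _ => rfl), classInner_irr_self isIrrCharacter_one]
  have hz1 : ∀ ϑ, classInner (ζ ϑ) (fun _ => 1) = 0 := fun ϑ => by
    refine classInner_irr_ne (hζirr ϑ) isIrrCharacter_one fun e => ?_
    have h1 := congrFun e 1
    rw [hζ1] at h1
    exact h.primeK.ne_one (Nat.cast_eq_one.mp h1)
  have hii : classInner (indFun N (fun _ => (1 : ℂ))) (indFun N (fun _ => 1)) = (Nat.card K : ℂ) := by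
    rw [frobenius_reciprocity N _ (isClassFunction_indFun _ _),
      show (fun n : N => indFun N (fun _ => (1 : ℂ)) (n : M)) = (fun _ => (Nat.card K : ℂ)) from
        funext fun n => by rw [indFun_normal_apply_const N (1 : ℂ) n, hindex, mul_one],
      classInner]
    simp [← Nat.card_eq_fintype_card]
    field_simp
  let B : X → G → ℂ := fun ϑ => dadeIsometry A M R (α ϑ)
  -- the index set
  set Zs : Finset (M → ℂ) := Finset.univ.image ζ with hZs
  have hpick : ∀ z : {z // z ∈ Zs}, ∃ ϑ, ζ ϑ = z.1 := fun z => by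
    obtain ⟨ϑ, -, e⟩ := Finset.mem_image.mp z.2
    exact ⟨ϑ, e⟩
  choose pick hpick' using hpick
  refine ⟨{z // z ∈ Zs}, Finset.univ, fun z => B (pick z), fun z => μ (pick z), ?_, ?_⟩
  · refine
      { gen := fun i _ => isGeneralized_dade hDade (hαg _) (hαA _)
        norm := fun i _ => ?_
        one := fun i _ => ?_
        irr := fun i _ => (hμ (pick i)).1
        conj_ne := fun i _ => (hμ (pick i)).2.1
        conj_sub := fun i _ => ?_
        vanish := fun i _ g hg => hsupp _ g hg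
        sub_vanish := fun i _ g hg => ?_
        inj := fun i _ j _ e => ?_ }
    · set ϑ := pick i
      have hc := isClassFunction_of_isGeneralized (hαg ϑ)
      rw [dade_isometry hDade hc (hαA ϑ) hc, classInner_sub_left, classInner_sub_right,
        classInner_sub_right, hii, hiz, classInner_irr_self (hζirr ϑ),
        show classInner (ζ ϑ) (indFun N fun _ => 1) = 0 by
          rw [← classInner_conj_symm, hiz, map_zero]]
      push_cast
      ring
    · set ϑ := pick i
      have hc := isClassFunction_of_isGeneralized (hαg ϑ)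
      rw [dade_adjoint hDade hc (hαA ϑ) (ψ := fun _ => 1) (fun _ _ => rfl) fun a ha => ?_,
        classInner_sub_left, hone, hz1, sub_zero]
      rw [finsum_mem_eq_toFinset_sum, Finset.sum_const, nsmul_eq_mul, mul_one, Set.toFinset_card,
        ← Nat.card_eq_fintype_card]
      exact (inv_mul_cancel₀ (Nat.cast_ne_zero.mpr Nat.card_pos.ne')).symm
    · set ϑ := pick i
      rw [← (hμ ϑ).2.2, ← dade_conjFun]
      funext g
      simp only [dadeIsometry, Pi.sub_apply, B]
      split_ifs with hg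
      · simp only [α, conjFun, Pi.sub_apply, map_sub]
        have : conj (indFun N (fun _ => (1 : ℂ)) (Classical.choose hg)) =
            indFun N (fun _ => 1) (Classical.choose hg) := by
          simp only [indFun, map_mul, map_inv₀, map_natCast, map_sum]
          refine congrArg _ (Finset.sum_congr rfl fun x _ => ?_)
          by_cases hx : x⁻¹ * Classical.choose hg * x ∈ N
          · rw [extendByZero_mem N _ hx, map_one]
          · rw [extendByZero_notMem N _ hx, map_zero]
        rw [this]; ring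
      · simp
    · have h1 := congrFun (hμ (pick i)).2.2 g
      rw [hsupp _ g hg] at h1
      exact sub_eq_zero.mp h1.symm
    · refine Subtype.ext ?_
      rw [← hpick' i, ← hpick' j]
      by_contra hne
      have ha := hach (pick i)
      have hb := hach (pick j)
      have hiso := dade_isometry hDade (sub_conj_props ha).2.1 (sub_conj_props ha).2.2
        (sub_conj_props hb).2.1
      rw [(hμ (pick i)).2.2, (hμ (pick j)).2.2] at hiso
      simp only at e
      rw [← e] at hiso
      have hm := (hμ (pick i)).1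
      have hmc : IsIrrCharacter G (conjFun (μ (pick i))) := isIrrCharacter_conj hm
      have hci : IsIrrCharacter M (conjFun (ζ (pick i))) := isIrrCharacter_conj ha.1
      have hcj : IsIrrCharacter M (conjFun (ζ (pick j))) := isIrrCharacter_conj hb.1
      have hne2 : conjFun (ζ (pick i)) ≠ conjFun (ζ (pick j)) := fun e' => hne (by
        rw [← Coherence.conjFun_conjFun (ζ (pick i)), e', Coherence.conjFun_conjFun])
      simp only [classInner_sub_left, classInner_sub_right, classInner_irr_self hm,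
        classInner_irr_self hmc, classInner_irr_ne hm hmc (hμ (pick i)).2.1.symm,
        classInner_irr_ne hmc hm (hμ (pick i)).2.1, classInner_irr_ne ha.1 hb.1 hne,
        classInner_irr_ne hci hcj hne2] at hiso
      rcases eq_or_ne (ζ (pick i)) (conjFun (ζ (pick j))) with e1 | e1
      · rw [show conjFun (ζ (pick i)) = ζ (pick j) by rw [e1, Coherence.conjFun_conjFun], ← e1,
          classInner_irr_self ha.1, classInner_irr_self hb.1] at hiso
        norm_num at hiso
      · have e2 : conjFun (ζ (pick i)) ≠ ζ (pick j) := fun e' => e1 (by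
          rw [← Coherence.conjFun_conjFun (ζ (pick i)), e'])
        rw [classInner_irr_ne ha.1 hcj e1, classInner_irr_ne hci hb.1 e2] at hiso
        norm_num at hiso
  · rw [Finset.card_univ, Fintype.card_coe]
    have hcardX : (Finset.univ : Finset X).card + 1 = Nat.card U := by
      have h1 := card_annih hQD hcomm
      have h2 : Nat.card D = Nat.card Q * Nat.card U := OddLocal.card_eq_of_isComplIn hcompl
      rw [h2, mul_comm (Nat.card Q)] at h1
      have h3 := Nat.eq_of_mul_eq_mul_right Nat.card_pos h1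
      rw [← h3, Nat.card_eq_fintype_card, Finset.card_univ, Fintype.card_subtype_compl,
        Fintype.card_subtype_eq, Nat.sub_add_cancel Fintype.card_pos]
    have hfib : ∀ z ∈ Zs, (Finset.univ.filter fun ϑ : X => ζ ϑ = z).card ≤ Nat.card K := by
      intro z hz
      obtain ⟨ϑ, -, rfl⟩ := Finset.mem_image.mp hz
      refine le_trans ?_ (le_of_eq (show (orbit N (θc ϑ)).card = Nat.card K by
        rw [card_orbit_eq_index, hinert, hindex]))
      refine Finset.card_le_card_of_injOn θc (fun ϑ' hϑ' => ?_) fun a _ b _ e => ?_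
      · rw [Finset.mem_coe] at hϑ' ⊢
        by_contra hne
        have h1 := hζζ ϑ ϑ'
        rw [if_neg hne, (Finset.mem_filter.mp hϑ').2, classInner_irr_self (hζirr ϑ)] at h1
        exact one_ne_zero h1
      · refine Subtype.ext (Subtype.ext (MonoidHom.ext fun t => Units.ext ?_))
        have := congrFun e ((Subgroup.subgroupOfEquivOfLe hDM).symm t)
        simpa only [θc, θ, MonoidHom.comp_apply, MulEquiv.coe_toMonoidHom,
          MulEquiv.apply_symm_apply] using this
    have := Finset.card_le_mul_card_image (f := ζ) (Finset.univ : Finset X) (Nat.card K) hfib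
    rw [← hZs] at this
    omega

end CfsgLib.Peterfalvi.Pair
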