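import Cfsg.Agent.Lib.Peterfalvi.Pair.NbrArith
import Cfsg.Agent.Lib.Peterfalvi.Pair.Cross
import Cfsg.Agent.Lib.Peterfalvi.Pair.CaseII
import Cfsg.Agent.Lib.Peterfalvi.Pair.TFamily

/-!
A full side with a neighbour whose partner is of type III or IV: impossible.
-/

set_option autoImplicit false
set_option linter.style.haveILetI false
set_option linter.unusedSectionVars false

namespace CfsgLib.Peterfalvi.Pair

open Cfsg CfsgLib.Char
open scoped ComplexConjugate CfsgLib.Char Pointwise

universe u

variable {G : Type u} [Group G] [Fintype G] {M K U W M' V L T : Subgroup G} {ι : Type u}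
  {β ψ : G → ℂ} {I : Finset ι} {f : ι → G → ℂ} {w : ι → ℕ} {ι' : Type u} {Z : Finset ι'}
  {B μ : ι' → G → ℂ} {p : ℕ}

theorem LFam.small_or (hodd : Odd (Nat.card G)) (hF : LFam L β ψ I f w) (hT : TFam T p Z B μ)
    (hd : Disjoint (tilde L) (tilde T)) :
    ∑ i ∈ I, w i ^ 2 + 1 ≤ p ∨ Z.card + 1 ≤ (sigmaCore L).relIndex L := by
  classical
  obtain ⟨z, hz, hzψ, hzw⟩ := hF.mem
  obtain ⟨z', hz', hz'ψ⟩ := hF.conj_mem
  obtain ⟨s, hs, hcs⟩ := hF.conj_sub
  have hirr := hF.irr_psi
  have hzz : z' ≠ z := fun e => hF.conj_ne_psi (by rw [← hz'ψ, e, hzψ])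
  -- the families are disjoint
  have hfm : ∀ j ∈ I, ∀ i ∈ Z, classInner (f j) (μ i) = 0 := by
    intro j hj i hi
    refine classInner_irr_ne (hF.irr j hj) (hT.irr i hi) fun e => hF.conj_ne j hj ?_
    funext g
    by_cases hg : g ∈ tilde L
    · rw [e]; exact (hT.sub_vanish i hi g (Set.disjoint_left.mp hd hg)).symm
    · exact (hF.sub_vanish j hj g hg).symm
  by_cases hex : ∃ i ∈ Z, classInner (B i) ψ ≠ 0
  · refine Or.inl ?_
    obtain ⟨i, hi, hne⟩ := hex
    have hBθ : ∀ g ∈ tilde L, B i g = 0 := fun g hg =>
      hT.vanish i hi g (Set.disjoint_left.mp hd hg)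
    obtain ⟨k, hk⟩ := exists_int_classInner (hT.gen i hi) (isGeneralized_of_isIrr hirr)
    have hk0 : k ≠ 0 := fun e => hne (by rw [hk, e, Int.cast_zero])
    obtain ⟨a, ha⟩ := exists_int_classInner (hT.gen i hi) (isGeneralized_of_isIrr (hT.irr i hi))
    have hμc : IsIrrCharacter G (conjFun (μ i)) := isIrrCharacter_conj (hT.irr i hi)
    obtain ⟨a', ha'⟩ := exists_int_classInner (hT.gen i hi) (isGeneralized_of_isIrr hμc)
    have haa : a' = a + 1 := by
      refine Int.cast_injective (α := ℂ) ?_
      have e1 : classInner (conjFun (B i)) (μ i) = (a' : ℂ) := by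
        have h1 := classInner_conjFun (B i) (conjFun (μ i))
        rw [ha', map_intCast, Coherence.conjFun_conjFun] at h1
        exact h1
      have e2 := congrArg (fun θ => classInner θ (μ i)) (hT.conj_sub i hi)
      simp only [classInner_sub_left, e1, ha, classInner_irr_self (hT.irr i hi)] at e2
      rw [classInner_irr_ne hμc (hT.irr i hi) (hT.conj_ne i hi), sub_zero] at e2
      push_cast
      linear_combination e2
    have hμ1 : classInner (μ i) (fun _ => 1) = 0 := classInner_irr_ne (hT.irr i hi)
      isIrrCharacter_one fun e => hT.conj_ne i hi (by rw [e]; funext g; simp [conjFun])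
    have hμc1 : classInner (conjFun (μ i)) (fun _ => 1) = 0 := classInner_irr_ne hμc
      isIrrCharacter_one fun e => hT.conj_ne i hi (by
        have h2 : μ i = fun _ => 1 := by
          rw [← Coherence.conjFun_conjFun (μ i), e]; funext g; simp [conjFun]
        rw [h2]; funext g; simp [conjFun])
    have hfc : ∀ j ∈ I, classInner (f j) (conjFun (μ i)) = 0 := fun j hj =>
      classInner_irr_ne (hF.irr j hj) hμc fun e => hF.conj_ne j hj (by
        funext g
        by_cases hg : g ∈ tilde L
        · rw [e, Coherence.conjFun_conjFun]; exact hT.sub_vanish i hi g (Set.disjoint_left.mp hd hg)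
        · exact (hF.sub_vanish j hj g hg).symm)
    let v : Option Bool ⊕ ι → G → ℂ := fun o =>
      match o with
      | Sum.inl none => fun _ => 1
      | Sum.inl (some b) => if b then μ i else conjFun (μ i)
      | Sum.inr j => f j
    have hsym : ∀ {A C : G → ℂ}, classInner A C = 0 → classInner C A = 0 := fun {A C} e => by
      rw [← classInner_conj_symm, e, map_zero]
    have hb := bessel (Finset.univ.disjSum I) (v := v) ?_ ?_ (B i)
    · rw [Finset.sum_disjSum, Fintype.sum_option, Fintype.sum_bool] at hb
      simp only [v, if_true, Bool.false_eq_true, if_false, hT.one i hi, ha, ha', norm_one, one_pow,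
        hT.norm i hi, Complex.natCast_re, Complex.norm_intCast, sq_abs] at hb
      rw [Finset.sum_congr rfl (g := fun j => (w j : ℝ) ^ 2 * (k : ℝ) ^ 2) fun j hj => by
        rw [hF.prop (B i) hBθ j hj, hk, Complex.norm_intCast, mul_pow, sq_abs],
        ← Finset.sum_mul] at hb
      have hk1 : (1 : ℝ) ≤ (k : ℝ) ^ 2 := by
        have := sq_pos_of_ne_zero hk0
        exact_mod_cast (by omega : (1 : ℤ) ≤ k ^ 2)
      have ha1 : (1 : ℝ) ≤ (a : ℝ) ^ 2 + (a' : ℝ) ^ 2 := by
        have : (1 : ℤ) ≤ a ^ 2 + a' ^ 2 := by
          rw [haa]; rcases lt_trichotomy a 0 with h | h | h <;> nlinarith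
        exact_mod_cast this
      have hnn : (0 : ℝ) ≤ ∑ j ∈ I, (w j : ℝ) ^ 2 := Finset.sum_nonneg fun j _ => sq_nonneg _
      have : ((∑ j ∈ I, w j ^ 2 + 1 : ℕ) : ℝ) ≤ (p : ℝ) := by
        push_cast at hb ⊢
        nlinarith [mul_le_mul_of_nonneg_left hk1 hnn]
      exact_mod_cast this
    · rintro ((_ | b) | j) ho
      · exact classInner_irr_self isIrrCharacter_one
      · cases b
        · exact classInner_irr_self hμc
        · exact classInner_irr_self (hT.irr i hi)
      · exact classInner_irr_self (hF.irr j (by simpa using ho))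
    · rintro ((_ | b) | j) ho ((_ | b') | j') ho' hne'
      · exact absurd rfl hne'
      · cases b'
        · exact hsym hμc1
        · exact hsym hμ1
      · exact hsym (hF.family_one (by simpa using ho'))
      · cases b
        · exact hμc1
        · exact hμ1
      · cases b <;> cases b'
        · exact absurd rfl hne'
        · exact classInner_irr_ne hμc (hT.irr i hi) (hT.conj_ne i hi)
        · exact classInner_irr_ne (hT.irr i hi) hμc (hT.conj_ne i hi).symm
        · exact absurd rfl hne'
      · cases b
        · exact hsym (hfc j' (by simpa using ho'))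
        · exact hsym (hfm j' (by simpa using ho') i hi)
      · exact hF.family_one (by simpa using ho)
      · cases b'
        · exact hfc j (by simpa using ho)
        · exact hfm j (by simpa using ho) i hi
      · exact classInner_irr_ne (hF.irr j (by simpa using ho)) (hF.irr j' (by simpa using ho'))
          fun e => hne' (by rw [hF.inj (by simpa using ho) (by simpa using ho') e])
  · push Not at hex
    refine Or.inr ?_
    have hk : ∀ i ∈ Z, ∃ k : ℤ, k ≠ 0 ∧ classInner β (μ i) = k := by
      intro i hi
      obtain ⟨k, hk⟩ := exists_int_classInner hF.gen (isGeneralized_of_isIrr (hT.irr i hi))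
      refine ⟨k, ?_, hk⟩
      have hβB : classInner β (B i) = 0 := by
        rw [classInner, Finset.sum_eq_zero fun g _ => ?_, mul_zero]
        by_cases hg : g ∈ tilde L
        · rw [hT.vanish i hi g (Set.disjoint_left.mp hd hg), map_zero, mul_zero]
        · rw [hF.vanish g hg, zero_mul]
      have hR' : conjFun (B i + μ i) = B i + μ i := by
        have e : conjFun (B i + μ i) = conjFun (B i) + conjFun (μ i) :=
          funext fun g => by simp [conjFun]
        rw [e]
        linear_combination hT.conj_sub i hi
      have hμ1 : classInner (μ i) (fun _ => 1) = 0 := classInner_irr_ne (hT.irr i hi)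
        isIrrCharacter_one fun e => hT.conj_ne i hi (by rw [e]; funext g; simp [conjFun])
      have hpar := parity hodd
        (isGeneralized_add hF.gen (isGeneralized_intCast_smul (isGeneralized_of_isIrr hirr) s))
        (isGeneralized_add (hT.gen i hi) (isGeneralized_of_isIrr (hT.irr i hi)))
        (hF.real_sum hcs) hR' (x := k) (a := 1) (b := 1) ?_ ?_ ?_
      · intro h0; rw [h0] at hpar; omega
      · rw [classInner_add_left, classInner_add_right, classInner_add_right, classInner_smul_left,
          classInner_smul_left, hβB, hk, ← classInner_conj_symm (B i) ψ, hex i hi, ← hzψ,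
          hfm z hz i hi, map_zero]
        ring
      · rw [classInner_add_left, classInner_smul_left, hF.one, hF.psi_one]
        norm_num
      · rw [classInner_add_left, hT.one i hi, hμ1]
        norm_num
    obtain ⟨a, ha⟩ := exists_int_classInner hF.gen (isGeneralized_of_isIrr hirr)
    obtain ⟨a', ha'⟩ := exists_int_classInner hF.gen (isGeneralized_of_isIrr (hF.irr z' hz'))
    have haa : a' = a + s := by
      refine Int.cast_injective (α := ℂ) ?_
      have e1 : classInner (conjFun β) ψ = (a' : ℂ) := by
        have h1 := classInner_conjFun β (f z')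
        rw [ha', map_intCast, hz'ψ, Coherence.conjFun_conjFun] at h1
        exact h1
      have hcz : classInner (conjFun ψ) ψ = 0 :=
        classInner_irr_ne (isIrrCharacter_conj hirr) hirr hF.conj_ne_psi
      have e2 := congrArg (fun θ => classInner θ ψ) hcs
      simp only [classInner_sub_left, classInner_smul_left, e1, ha, classInner_irr_self hirr, hcz,
        sub_zero, mul_one] at e2
      push_cast
      linear_combination e2
    have hψ' : classInner ψ (f z') = 0 := classInner_irr_ne hirr (hF.irr z' hz') (by
      rw [hz'ψ]; exact hF.conj_ne_psi.symm)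
    let v : Option Bool ⊕ ι' → G → ℂ := fun o =>
      match o with
      | Sum.inl none => fun _ => 1
      | Sum.inl (some b) => if b then ψ else f z'
      | Sum.inr i => μ i
    have hsym : ∀ {A C : G → ℂ}, classInner A C = 0 → classInner C A = 0 := fun {A C} e => by
      rw [← classInner_conj_symm, e, map_zero]
    have hμ1 : ∀ i ∈ Z, classInner (μ i) (fun _ => 1) = 0 := fun i hi => classInner_irr_ne
      (hT.irr i hi) isIrrCharacter_one fun e => hT.conj_ne i hi (by rw [e]; funext g; simp [conjFun])
    have hb := bessel (Finset.univ.disjSum Z) (v := v) ?_ ?_ β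
    · rw [Finset.sum_disjSum, Fintype.sum_option, Fintype.sum_bool] at hb
      simp only [v, if_true, Bool.false_eq_true, if_false, hF.one, ha, ha', norm_one, one_pow,
        hF.norm, Complex.natCast_re, Complex.norm_intCast, sq_abs] at hb
      have hsum : (Z.card : ℝ) ≤ ∑ i ∈ Z, ‖classInner β (μ i)‖ ^ 2 := by
        refine le_trans (le_of_eq (by simp)) (Finset.sum_le_sum (f := fun _ => (1 : ℝ)) fun i hi => ?_)
        obtain ⟨k, hk0, hk⟩ := hk i hi
        rw [hk, Complex.norm_intCast, sq_abs]
        have := sq_pos_of_ne_zero hk0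
        exact_mod_cast (by omega : (1 : ℤ) ≤ k ^ 2)
      have ha1 : (1 : ℝ) ≤ (a : ℝ) ^ 2 + (a' : ℝ) ^ 2 := by
        have : (1 : ℤ) ≤ a ^ 2 + a' ^ 2 := by
          rw [haa]; rcases hs with rfl | rfl <;>
            rcases lt_trichotomy a 0 with h | h | h <;> nlinarith
        exact_mod_cast this
      have : ((Z.card + 1 : ℕ) : ℝ) ≤ (((sigmaCore L).relIndex L : ℕ) : ℝ) := by
        push_cast at hb ⊢
        linarith
      exact_mod_cast this
    · rintro ((_ | b) | i) ho
      · exact classInner_irr_self isIrrCharacter_one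
      · cases b
        · exact classInner_irr_self (hF.irr z' hz')
        · exact classInner_irr_self hirr
      · exact classInner_irr_self (hT.irr i (by simpa using ho))
    · rintro ((_ | b) | i) ho ((_ | b') | i') ho' hne'
      · exact absurd rfl hne'
      · cases b'
        · exact hsym (hF.family_one hz')
        · exact hsym hF.psi_one
      · exact hsym (hμ1 i' (by simpa using ho'))
      · cases b
        · exact hF.family_one hz'
        · exact hF.psi_one
      · cases b <;> cases b'
        · exact absurd rfl hne'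
        · exact hsym hψ'
        · exact hψ'
        · exact absurd rfl hne'
      · cases b
        · exact hfm z' hz' i' (by simpa using ho')
        · show classInner ψ (μ i') = 0
          rw [← hzψ]; exact hfm z hz i' (by simpa using ho')
      · exact hμ1 i (by simpa using ho)
      · cases b'
        · exact hsym (hfm z' hz' i (by simpa using ho))
        · show classInner (μ i) ψ = 0
          rw [← hzψ]; exact hsym (hfm z hz i (by simpa using ho))
      · exact classInner_irr_ne (hT.irr i (by simpa using ho)) (hT.irr i' (by simpa using ho'))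
          fun e => hne' (by rw [hT.inj (by simpa using ho) (by simpa using ho') e])

variable {h : Side M K U W} {h' : Side M' W V K}

/-- The partner of a side with a neighbour is not of type III or IV. -/
theorem false_of_nbr_typeIII (hf : IsFull h) (hf' : IsFull h') (n : Nbr M K U W M' L)
    (hd : sigmaCore M' = ⁅M', M'⁆) : False := by
  classical
  obtain ⟨β, ψ, ι, I, f, w, hF⟩ := exists_lfam n.hG n.hL n.kappa n.frob
  obtain ⟨ι', Z, B, μ, hT, hcard⟩ := exists_tfam h' hf'.cyclic hd
  have hne : ∀ g : G, M' ≠ MulAut.conj g • L := by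
    intro g e
    have hq : Nat.card K ∣ Nat.card (sigmaCore L) := by
      rw [← Coprime.card_conj_smul g (sigmaCore L), ← OddLocal.sigmaCore_conj n.hG n.hL g, ← e]
      exact Subgroup.card_dvd_of_le ((W_le h'.hP).trans (hd ▸ fittingHallOf_le_derived h'.hP))
    have h2 := n.coprime.coprime_mul_right_right
    rw [n.core_eq] at h2
    exact h.primeK.ne_one (Nat.eq_one_of_dvd_coprimes h2 hq dvd_rfl)
  have hdisj : Disjoint (tilde L) (tilde M') := OddLocal.tilde_disjoint n.hG n.hL h'.hM hne
  have hdeg := hF.deg
  set q := Nat.card K with hq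
  set p := Nat.card W with hp
  set S := ∑ i ∈ I, w i ^ 2 with hS
  set m := Nat.card (sigmaCore L) with hm
  have hq3 : 3 ≤ q := h.three_le_K
  have hp3 : 3 ≤ p := h.three_le_W
  have hu1 : p ^ 2 + (q - 2) * p + 1 ≤ Nat.card U := by
    rw [hf.card_U, ← hp, ← hq]
    obtain ⟨j, hj⟩ : ∃ j, q = j + 3 := ⟨q - 3, by omega⟩
    rw [hj, Finset.sum_range_succ' (n := j + 2), Finset.sum_range_succ' (n := j + 1),
      show j + 3 - 2 = j + 1 by omega]
    have h0 : (Finset.range j).card * p ≤ ∑ i ∈ Finset.range j, p ^ (i + 1 + 1) := by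
      rw [← smul_eq_mul, ← Finset.sum_const]
      exact Finset.sum_le_sum fun i _ => Nat.le_self_pow (by omega) p
    rw [Finset.card_range] at h0
    rw [Finset.sum_range_succ (n := j), show j + 1 + 1 = j + 2 by ring]
    have : p ^ 2 ≤ p ^ (j + 2) := Nat.pow_le_pow_right (by omega) (by omega)
    simp only [pow_zero, zero_add, pow_one]
    nlinarith
  have hum : Nat.card U ≤ m := Nat.le_of_dvd Nat.card_pos n.u_dvd
  rcases hF.small_or n.hG.1 hT hdisj with hA | hB
  · rcases n.index_cases h hf' with ⟨he, -⟩ | ⟨he, -⟩
    · rw [he, ← hq] at hdeg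
      have h1 : q * (S + 1) ≤ q * p := Nat.mul_le_mul_left _ hA
      obtain ⟨j, hj⟩ : ∃ j, q = j + 3 := ⟨q - 3, by omega⟩
      rw [hj, show j + 3 - 2 = j + 1 by omega] at hu1
      rw [hj] at hdeg h1
      nlinarith
    · rw [he, ← hq, ← hp] at hdeg
      have h1 : q * p * S + q * p ≤ q * p * p := by
        rw [← Nat.mul_succ]; exact Nat.mul_le_mul_left _ hA
      have hmu : m = Nat.card U := by
        refine n.eq_card_U_of_le hf hf' he hF.deg ?_
        rw [← hm, ← hq, ← hp]
        nlinarith
      have hle : p ≤ q := n.card_le_of_eq_card_U hf hf' hmu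
      have hlt : p < q := lt_of_le_of_ne hle h.prime_ne.symm
      -- `p ^ (q - 1) < p ^ 2 q`
      have h3 : p ^ (q - 1) ≤ Nat.card U := by
        rw [hf.card_U, ← hp, ← hq]
        exact Finset.single_le_sum (f := fun i => p ^ i) (fun i _ => Nat.zero_le _)
          (Finset.mem_range.mpr (by omega))
      have h4 : ∀ i : ℕ, i + 5 < 3 ^ (i + 2) := by
        intro i
        induction i with
        | zero => norm_num
        | succ i ih => rw [show i + 1 + 2 = (i + 2) + 1 by ring, pow_succ]; omega
      have hq5 : 5 ≤ q := prime_five_le h.primeK hq3 (by omega)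
      obtain ⟨i, hi⟩ : ∃ i, q = i + 5 := ⟨q - 5, by omega⟩
      have h5 : p ^ 2 * q < p ^ (q - 1) := by
        rw [show q - 1 = 2 + (i + 2) by omega, pow_add]
        refine Nat.mul_lt_mul_of_pos_left ?_ (pow_pos (by omega) 2)
        have := h4 (i)
        have h6 : 3 ^ (i + 2) ≤ p ^ (i + 2) := Nat.pow_le_pow_left hp3 _
        omega
      nlinarith
  · have hv1 : Nat.card V ≤ p * Z.card + 1 := by
      have : Nat.card V - 1 ≤ p * Z.card := hcard
      omega
    have hZ : p * (Z.card + 1) ≤ p * (sigmaCore L).relIndex L := Nat.mul_le_mul_left _ hB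
    have he' : (sigmaCore L).relIndex L ≤ q * p := (n.away hf hf').index_le
    have hv : q ^ (p - 1) + q ^ (p - 2) + 1 ≤ Nat.card V := by
      rw [hf'.card_U, ← hp, ← hq]
      obtain ⟨j, hj⟩ : ∃ j, p = j + 3 := ⟨p - 3, by omega⟩
      rw [hj, Finset.sum_range_succ (n := j + 2), Finset.sum_range_succ (n := j + 1),
        show j + 3 - 1 = j + 2 by omega, show j + 3 - 2 = j + 1 by omega]
      have : 1 ≤ ∑ i ∈ Finset.range (j + 1), q ^ i := by
        rw [Finset.sum_range_succ', pow_zero]; omega
      omega
    have hp3' : p = 3 := by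
      by_contra hne
      have hp5 := prime_five_le h.primeW hp3 hne
      have hpe : p * (sigmaCore L).relIndex L ≤ p * (q * p) := Nat.mul_le_mul_left _ he'
      have h1 : p * p * q ≤ q ^ (p - 1) := by
        have key : ∀ k : ℕ, (5 + k) * (5 + k) ≤ 3 ^ (3 + k) := by
          intro k
          induction k with
          | zero => norm_num
          | succ k ih => rw [show 3 + (k + 1) = (3 + k) + 1 by ring, pow_succ]; nlinarith
        obtain ⟨k, hk⟩ : ∃ k, p = 5 + k := ⟨p - 5, by omega⟩
        rw [show p - 1 = (3 + k) + 1 by omega, pow_succ, hk]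
        exact Nat.mul_le_mul_right _ ((key k).trans (Nat.pow_le_pow_left hq3 _))
      have h2 : p * (q * p) = p * p * q := by ring
      have h3 : 1 ≤ q ^ (p - 2) := Nat.one_le_pow _ _ (by omega)
      rw [Nat.mul_add, mul_one] at hZ
      linarith
    rw [hp3'] at hv hv1 hZ he'
    simp only [show (3 : ℕ) - 1 = 2 from rfl, show (3 : ℕ) - 2 = 1 from rfl, pow_one] at hv
    have hne3 : q ≠ 3 := fun e => h.prime_ne (by rw [← hq, ← hp, e, hp3'])
    have hq5 := prime_five_le h.primeK hq3 hne3
    rcases n.index_cases h hf' with ⟨he, -⟩ | ⟨he, y, hy, hE⟩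
    · rw [he, ← hq] at hZ
      nlinarith
    · rw [he, ← hq, ← hp, hp3'] at hZ
      have hq7 : q ≤ 7 := by nlinarith
      have hmod := hf'.not_modEq
      rw [← hq, ← hp, hp3'] at hmod
      have hq5' : q = 5 := by
        have := h.primeK
        rw [← hq] at this
        rcases (by omega : q = 5 ∨ q = 6 ∨ q = 7) with e | e | e
        · exact e
        · rw [e] at this; norm_num at this
        · rw [e] at hmod; exact absurd (by decide : (7 : ℕ) ≡ 1 [MOD 3]) hmod
      have hU : Nat.card U = 121 := by
        rw [hf.card_U, ← hp, ← hq, hp3', hq5']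
        decide
      have hV : Nat.card V = 31 := by
        rw [hf'.card_U, ← hp, ← hq, hp3', hq5']
        decide
      -- the core is `U`
      have hmu : m = Nat.card U := by
        obtain ⟨η, hη⟩ := exists_grid h.hP.selfNormalizing
          (h.odd_G.of_dvd_nat K.card_subgroup_dvd_card) (h.odd_G.of_dvd_nat W.card_subgroup_dvd_card)
        rcases coeff_cases hf hf' (n.away hf hf') hF hη with hA | ⟨-, hB'⟩
        · exact n.eq_card_U_of_small hf hf' hF.deg hA
        · refine n.eq_card_U_of_le hf hf' he hF.deg ?_
          rw [hf'.u'_eq, hV, ← hp, ← hS, hp3'] at hB'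
          rw [he, ← hq, ← hp, hp3', hq5'] at hdeg
          rw [← hm, ← hq, ← hp, hp3', hq5', hU]
          omega
      have hUeq : fittingHallOf L = U :=
        (Subgroup.eq_of_le_of_card_ge n.U_le (by rw [n.core_eq, ← hm, hmu])).symm
      haveI : Fact (Nat.Prime 11) := ⟨by norm_num⟩
      haveI : Fact (Nat.Prime 3) := ⟨by norm_num⟩
      obtain ⟨a, ha⟩ := exists_prime_orderOf_dvd_card' (G := U) 11 (by rw [hU]; norm_num)
      have ha' : orderOf (a : G) = 11 := (Subgroup.orderOf_coe a).trans ha
      obtain ⟨x, hx, hx1⟩ : ∃ x ∈ W, x ≠ 1 := by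
        obtain ⟨⟨x, hx⟩, hx1⟩ := Subgroup.ne_bot_iff_exists_ne_one.mp h'.hP.W₁_ne
        exact ⟨x, hx, fun e => hx1 (Subtype.ext e)⟩
      set z := y * x * y⁻¹ with hz
      have hzo : orderOf z = 3 := by
        rw [show orderOf z = orderOf x from
          orderOf_injective (MulAut.conj y).toMonoidHom (MulAut.conj y).injective x]
        exact (((Nat.dvd_prime h.primeW).mp (Subgroup.orderOf_dvd_natCard _ hx)).resolve_left
          fun e => hx1 (orderOf_eq_one_iff.mp e)).trans hp3'
      have hzL : z ∈ L :=
        ((le_sup_right : MulAut.conj y • W ≤ K ⊔ MulAut.conj y • W).trans hE.ge ⟨x, hx, rfl⟩).1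
      haveI : IsCyclic U := hf.cyclic
      have hzn : z ∈ Subgroup.normalizer (U : Set G) := hUeq ▸ le_normalizer_fittingHallOf L hzL
      -- the element centralizes a subgroup of order eleven
      have hconj : z * (a : G) * z⁻¹ ∈ Subgroup.zpowers (a : G) := by
        refine mem_of_cyclic (C := U) (Subgroup.zpowers_le.mpr a.2)
          (CfsgLib.BG.FixedLine.conj_mem_of_le_normalizer hzn _ a.2) ?_
        rw [Nat.card_zpowers, conj_pow, pow_orderOf_eq_one, mul_one, mul_inv_cancel]
      obtain ⟨i, hi⟩ := (isOfFinOrder_of_finite (a : G)).mem_powers_iff_mem_zpowers.mpr hconj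
      simp only at hi
      have hpow : ∀ k : ℕ, z ^ k * (a : G) * (z ^ k)⁻¹ = (a : G) ^ (i ^ k) := by
        intro k
        induction k with
        | zero => simp
        | succ k ih =>
          rw [pow_succ' z k, show z * z ^ k * (a : G) * (z * z ^ k)⁻¹ =
            z * (z ^ k * a * (z ^ k)⁻¹) * z⁻¹ by group, ih, ← conj_pow, ← hi, ← pow_mul, pow_succ']
      have h3 := hpow 3
      rw [← hzo, pow_orderOf_eq_one, one_mul, inv_one, mul_one, hzo] at h3
      nth_rw 1 [← pow_one (a : G)] at h3
      rw [pow_eq_pow_iff_modEq, ha'] at h3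
      have hi1 : i % 11 = 1 := by
        have h4 : (i % 11) ^ 3 % 11 = 1 := by rw [← Nat.pow_mod]; exact h3.symm
        have h5 : i % 11 < 11 := Nat.mod_lt _ (by norm_num)
        generalize i % 11 = r at h4 h5 ⊢
        interval_cases r <;> first | rfl | omega
      have hcomm : z * (a : G) = a * z := by
        refine mul_inv_eq_iff_eq_mul.mp ?_
        rw [← hi]
        calc (a : G) ^ i = (a : G) ^ 1 := by rw [pow_eq_pow_iff_modEq, ha']; exact hi1
          _ = a := pow_one _
      have hmem := n.frob (a : G) (n.U_le a.2) (fun e => by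
          rw [e, orderOf_one] at ha'; norm_num at ha')
        ⟨hzL, Subgroup.mem_centralizer_singleton_iff.mpr hcomm⟩
      rw [hUeq] at hmem
      have := Subgroup.orderOf_dvd_natCard _ hmem
      rw [hzo, hU] at this
      norm_num at this

end CfsgLib.Peterfalvi.Pair
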