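import Cfsg.Agent.Lib.Peterfalvi.Pair.SideLines
import Cfsg.Agent.Lib.Extraspecial.Basics
import Cfsg.Agent.Lib.PSolvable.Omega
import Cfsg.Agent.Lib.Critical.Basic
import Cfsg.Agent.Lib.CNOdd.Solvable

/-!
A side whose counting multiplicity is one: the chief factor is the whole of `F(M)` and `U` is
cyclic of order `(r^w-1)/(r-1)`.
-/

set_option autoImplicit false
set_option linter.style.haveILetI false
set_option linter.unusedSectionVars false

namespace CfsgLib.Peterfalvi.Pair

open Cfsg CfsgLib.Char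
open CfsgLib.BG.FixedLine (conj_mem_of_le_normalizer mem_normalizer_of_conj)
open scoped commutatorElement

universe u

/-- A proper normal subgroup of a solvable group is killed by a nontrivial linear character. -/
theorem exists_lin_ne_one {H : Type*} [Group H] [Finite H] [Group.IsSolvable H] (N : Subgroup H)
    [N.Normal] (hN : N ≠ ⊤) : ∃ θ : H →* ℂˣ, θ ≠ 1 ∧ ∀ n ∈ N, θ n = 1 := by
  haveI : Nontrivial (H ⧸ N) := QuotientGroup.nontrivial_iff.mpr hN
  haveI : Nontrivial (Abelianization (H ⧸ N)) := QuotientGroup.nontrivial_iff.mpr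
    (Group.IsSolvable.commutator_lt_top_of_nontrivial (H ⧸ N)).ne
  haveI : Finite (Abelianization (H ⧸ N)) := Quotient.finite _
  haveI : Nontrivial (Abelianization (H ⧸ N) →* ℂˣ) := by
    haveI : Finite (Abelianization (H ⧸ N) →* ℂˣ) :=
      Nat.finite_of_card_ne_zero (by rw [card_hom_units]; exact Nat.card_pos.ne')
    exact Finite.one_lt_card_iff_nontrivial.mp (by
      rw [card_hom_units]; exact Finite.one_lt_card)
  obtain ⟨f, hf⟩ := exists_ne (1 : Abelianization (H ⧸ N) →* ℂˣ)
  refine ⟨f.comp (Abelianization.of.comp (QuotientGroup.mk' N)), fun e => hf ?_, fun n hn => ?_⟩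
  · refine Abelianization.hom_ext _ _ (MonoidHom.ext fun q => ?_)
    obtain ⟨x, rfl⟩ := QuotientGroup.mk'_surjective N q
    exact DFunLike.congr_fun e x
  · rw [MonoidHom.comp_apply, MonoidHom.comp_apply, QuotientGroup.mk'_apply,
      (QuotientGroup.eq_one_iff n).mpr hn, map_one, map_one]

variable {G : Type u} [Group G] [Fintype G] {M K U W : Subgroup G}

/-- A side in the extreme case. -/
structure IsFull (h : Side M K U W) : Prop where
  C_bot : U ⊓ Subgroup.centralizer (fittingHallOf M : Set G) = ⊥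
  P0_bot : fittingHallOf M ⊓ Subgroup.centralizer (U : Set G) = ⊥
  irr : h.Irred
  card_P : Nat.card (fittingHallOf M) = Nat.card W ^ Nat.card K
  abel : ∀ x ∈ fittingHallOf M, ∀ y ∈ fittingHallOf M, x * y = y * x
  expo : ∀ x ∈ fittingHallOf M, x ^ Nat.card W = 1
  fitting_eq : fittingOf M = fittingHallOf M
  cyclic : IsCyclic U
  free : ∀ u ∈ U, u ≠ 1 → ∀ x ∈ fittingHallOf M, u * x = x * u → x = 1
  card_U : Nat.card U = ∑ i ∈ Finset.range (Nat.card K), Nat.card W ^ i
  u'_eq : h.u' = Nat.card U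
  not_modEq : ¬ Nat.card W ≡ 1 [MOD Nat.card K]

namespace Side

variable (h : Side M K U W)
include h

theorem C_eq_bot_of_E (hE : h.E = ⊥) : h.C = ⊥ := by
  by_contra hC
  haveI := h.solvable_le h.fittingOf_le
  haveI : ((fittingHallOf M).subgroupOf (fittingOf M)).Normal :=
    (Subgroup.normal_subgroupOf_iff_le_normalizer h.fittingHallOf_le_fittingOf).mpr
      (h.fittingOf_le.trans (le_normalizer_fittingHallOf M))
  obtain ⟨θ, hθ1, hθ⟩ := exists_lin_ne_one ((fittingHallOf M).subgroupOf (fittingOf M)) fun e => hC (by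
    have hle : fittingOf M ≤ fittingHallOf M := Subgroup.subgroupOf_eq_top.mp e
    exact le_bot_iff.mp ((le_inf (h.C_le_fittingOf.trans hle) le_rfl).trans h.P_inf_C.le))
  exact hθ1 (Subgroup.mem_bot.mp (hE.le fun x hx =>
    hθ x (Subgroup.mem_subgroupOf.mpr (h.Q_le hx))))

theorem fittingOf_eq_of_E (hE : h.E = ⊥) : fittingOf M = fittingHallOf M := by
  rw [← h.fittingOf_eq, h.C_eq_bot_of_E hE, sup_bot_eq]

theorem Q_eq_of_E (hE : h.E = ⊥) : h.Q = fittingHallOf M := by
  by_contra hne
  haveI := h.solvable_le h.fittingOf_le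
  have hX := h.fittingOf_eq_of_E hE
  have hQn : fittingHallOf M ≤ Subgroup.normalizer (h.Q : Set G) := by
    intro y hy
    have hy' : y ∈ h.Q ⊔ h.P0 := h.Q_sup_P0.ge hy
    refine (sup_le Subgroup.le_normalizer ?_ : h.Q ⊔ h.P0 ≤ Subgroup.normalizer (h.Q : Set G)) hy'
    refine Coprime.le_normalizer_commutator (inf_le_left.trans Subgroup.le_normalizer) ?_
    exact fun y hy => mem_normalizer_of_conj fun a ha => by
      rwa [show y * a * y⁻¹ = a by rw [← hy.2 a ha, mul_inv_cancel_right]]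
  haveI : (h.Q.subgroupOf (fittingOf M)).Normal :=
    (Subgroup.normal_subgroupOf_iff_le_normalizer (hX ▸ h.Q_le)).mpr (hX ▸ hQn)
  obtain ⟨θ, hθ1, hθ⟩ := exists_lin_ne_one (h.Q.subgroupOf (fittingOf M)) fun e => hne
    (le_antisymm h.Q_le (hX ▸ Subgroup.subgroupOf_eq_top.mp e))
  exact hθ1 (Subgroup.mem_bot.mp (hE.le fun x hx => hθ x (Subgroup.mem_subgroupOf.mpr hx)))

theorem P0_le_commutator (hE : h.E = ⊥) : h.P0 ≤ ⁅fittingHallOf M, fittingHallOf M⁆ := by
  classical
  intro y hy
  by_contra hny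
  have hX := h.fittingOf_eq_of_E hE
  set X := fittingOf M with hXdef
  have hyX : y ∈ X := hX ▸ hy.1
  haveI : ((⁅fittingHallOf M, fittingHallOf M⁆).subgroupOf X).Normal := by
    refine (Subgroup.normal_subgroupOf_iff_le_normalizer
      ((Subgroup.commutator_le_self _).trans hX.ge)).mpr (hX.le.trans ?_)
    exact Coprime.le_normalizer_commutator Subgroup.le_normalizer Subgroup.le_normalizer
  obtain ⟨χ, hχc, hχy⟩ := exists_linear ((⁅fittingHallOf M, fittingHallOf M⁆).subgroupOf X)
    (fun a b => by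
      obtain ⟨a, rfl⟩ := QuotientGroup.mk'_surjective _ a
      obtain ⟨b, rfl⟩ := QuotientGroup.mk'_surjective _ b
      rw [← map_mul, ← map_mul, QuotientGroup.mk'_eq_mk']
      refine ⟨(a * b)⁻¹ * (b * a), Subgroup.mem_subgroupOf.mpr ?_, mul_inv_cancel_left _ _⟩
      have := Subgroup.commutator_mem_commutator (hX.le ((X.inv_mem b.2)))
        (hX.le (X.inv_mem a.2))
      simpa [commutatorElement_def, mul_assoc] using this)
    (u := (⟨y, hyX⟩ : X)) (fun e => hny (Subgroup.mem_subgroupOf.mp e))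
  -- average over `U`
  let uM : U → M := fun v => ⟨v, U_le h.hP v.2⟩
  haveI : Fintype U := Fintype.ofFinite _
  set χ' : Lin (fittingOf M) := ∏ v : U, tw χ (uM v) with hχ'
  have hinv : ∀ v : U, tw χ' (uM v) = χ' := by
    intro v
    refine MonoidHom.ext fun x => ?_
    rw [hχ', tw_apply, MonoidHom.finsetProd_apply, MonoidHom.finsetProd_apply]
    refine Fintype.prod_equiv (Equiv.mulRight v) _ _ fun w => ?_
    simp [uM, mul_assoc]
  have hE1 : χ' ∈ h.E := by
    intro x hx
    have hle : h.Q ≤ χ'.ker.map (fittingOf M).subtype := Subgroup.commutator_le.mpr fun z hz v hv => by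
      have hzX : z ∈ fittingOf M := h.fittingHallOf_le_fittingOf hz
      have hfix := DFunLike.congr_fun (hinv ⟨v, hv⟩) (⟨z, hzX⟩⁻¹ : fittingOf M)
      refine ⟨⟨z, hzX⟩ * ⟨v * z⁻¹ * v⁻¹, mem_fitting_conj M (uM ⟨v, hv⟩) (inv_mem hzX)⟩, ?_, by
        simp [commutatorElement_def, mul_assoc]⟩
      rw [tw_apply] at hfix
      simp only [InvMemClass.coe_inv, map_inv] at hfix
      rw [SetLike.mem_coe, MonoidHom.mem_ker, map_mul]
      exact (congrArg _ hfix).trans (mul_inv_cancel _)
    obtain ⟨z, hz, e⟩ := hle hx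
    rw [show x = z from Subtype.ext e.symm]
    exact hz
  rw [hE, Subgroup.mem_bot] at hE1
  refine hχy ?_
  have h1 : χ' ⟨y, hyX⟩ = χ ⟨y, hyX⟩ ^ Nat.card U := by
    rw [hχ', MonoidHom.finsetProd_apply, Nat.card_eq_fintype_card, ← Finset.card_univ,
      ← Finset.prod_const]
    refine Finset.prod_congr rfl fun v _ => congrArg χ (Subtype.ext ?_)
    show (v : G) * y * (v : G)⁻¹ = y
    rw [hy.2 v v.2, mul_inv_cancel_right]
  rw [hE1, MonoidHom.one_apply] at h1
  have h2 : χ ⟨y, hyX⟩ ^ Nat.card (fittingHallOf M) = 1 := by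
    rw [← map_pow]
    convert map_one χ
    refine Subtype.ext ?_
    have e := congrArg Subtype.val (pow_card_eq_one' (x := (⟨y, hy.1⟩ : fittingHallOf M)))
    rw [SubgroupClass.coe_pow] at e ⊢
    exact e
  have e := pow_gcd_eq_one.mpr ⟨h2, h1.symm⟩
  rwa [h.coprime_P_U, pow_one] at e

variable (hirr : h.Irred)
include hirr

theorem commutator_le_P0 : ⁅fittingHallOf M, fittingHallOf M⁆ ≤ h.P0 :=
  Subgroup.commutator_le.mpr fun x hx y hy => by
    rw [commutatorElement_def]
    exact ⟨(fittingHallOf M).mul_mem ((fittingHallOf M).mul_mem ((fittingHallOf M).mul_mem hx hy)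
      ((fittingHallOf M).inv_mem hx)) ((fittingHallOf M).inv_mem hy), h.comm_mem x hx y hy⟩

theorem central_of_E (hE : h.E = ⊥) {z x : G} (hz : z ∈ h.P0) (hx : x ∈ fittingHallOf M) :
    z * x = x * z := by
  set P := fittingHallOf M
  have h1 : ⁅⁅P, P⁆, U⁆ = ⊥ := by
    rw [Subgroup.commutator_eq_bot_iff_le_centralizer]
    exact fun t ht => (h.commutator_le_P0 hirr ht).2
  have h3 : ⁅⁅P, U⁆, ⁅P, P⁆⁆ = ⊥ := by
    rw [Subgroup.commutator_comm P U]
    refine Subgroup.commutator_commutator_eq_bot_of_rotate ?_ ?_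
    · refine le_bot_iff.mp ((Subgroup.commutator_mono ?_ le_rfl).trans h1.le)
      exact Subgroup.commutator_mono le_rfl (Subgroup.commutator_le_self _)
    · rw [h1, Subgroup.commutator_bot_left]
  rw [show ⁅P, U⁆ = P from h.Q_eq_of_E hE, Subgroup.commutator_comm, Subgroup.commutator_eq_bot_iff_le_centralizer] at h3
  exact ((h3 (h.P0_le_commutator hE hz)) x hx).symm

theorem pow_eq_one_of_mem_P0 (hE : h.E = ⊥) {z : G} (hz : z ∈ h.P0) :
    z ^ Nat.card W = 1 := by
  set r := Nat.card W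
  let T : Subgroup G :=
    { carrier := {t | t ∈ h.P0 ∧ t ^ r = 1}
      one_mem' := ⟨one_mem _, one_pow _⟩
      mul_mem' := fun {a b} ha hb => ⟨mul_mem ha.1 hb.1, by
        rw [(show Commute a b from h.central_of_E hirr hE ha.1 hb.1.1).mul_pow, ha.2, hb.2, one_mul]⟩
      inv_mem' := fun {a} ha => ⟨inv_mem ha.1, by rw [inv_pow, ha.2, inv_one]⟩ }
  have hle : ⁅fittingHallOf M, fittingHallOf M⁆ ≤ T := Subgroup.commutator_le.mpr fun x hx y hy => by
    have hc : ⁅x, y⁆ ∈ h.P0 := h.commutator_le_P0 hirr (Subgroup.commutator_mem_commutator hx hy)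
    refine ⟨hc, ?_⟩
    have hn : ∀ n : ℕ, x ^ n * y = ⁅x, y⁆ ^ n * (y * x ^ n) := by
      intro n
      induction n with
      | zero => simp
      | succ n ih =>
        have hcx : x * ⁅x, y⁆ ^ n = ⁅x, y⁆ ^ n * x :=
          (h.central_of_E hirr hE (h.P0.pow_mem hc n) hx).symm
        calc x ^ (n + 1) * y = x * (x ^ n * y) := by rw [pow_succ', mul_assoc]
          _ = x * ⁅x, y⁆ ^ n * (y * x ^ n) := by rw [ih, mul_assoc]
          _ = ⁅x, y⁆ ^ n * (x * y * x ^ n) := by rw [hcx]; simp only [mul_assoc]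
          _ = _ := by
            rw [show x * y = ⁅x, y⁆ * (y * x) by simp [commutatorElement_def, mul_assoc],
              pow_succ, pow_succ']
            simp only [mul_assoc]
    have hr := hn r
    have hcen : x ^ r * y = y * x ^ r :=
      h.central_of_E hirr hE ⟨(fittingHallOf M).pow_mem hx r, h.pow_mem x hx⟩ hy
    rw [hcen, right_eq_mul] at hr
    exact hr
  exact (hle (h.P0_le_commutator hE hz)).2

theorem isPGroup_P (hE : h.E = ⊥) : IsPGroup (Nat.card W) (fittingHallOf M) := fun x =>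
  ⟨2, Subtype.ext (by
    rw [SubgroupClass.coe_pow, sq, pow_mul]
    exact h.pow_eq_one_of_mem_P0 hirr hE
      ⟨(fittingHallOf M).pow_mem x.2 _, h.pow_mem x x.2⟩)⟩

theorem P0_eq_bot (hE : h.E = ⊥) : h.P0 = ⊥ := by
  classical
  by_contra hne
  haveI hr : Fact (Nat.card W).Prime := ⟨h.primeW⟩
  set P := fittingHallOf M with hPdef
  -- a hyperplane of the fixed points
  haveI : Finite (Subgroup G) := inferInstance
  obtain ⟨Z, ⟨hZlt, -⟩, hZmax⟩ := (Set.toFinite {S : Subgroup G | S < h.P0 ∧ True}).exists_maximal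
    ⟨⊥, bot_lt_iff_ne_bot.mpr hne, trivial⟩
  have hZc : ∀ z ∈ Z, ∀ x ∈ P, x * z * x⁻¹ = z := fun z hz x hx => by
    rw [← h.central_of_E hirr hE (hZlt.le hz) hx, mul_inv_cancel_right]
  haveI hZn : (Z.subgroupOf P).Normal := (Subgroup.normal_subgroupOf_iff_le_normalizer
    (hZlt.le.trans inf_le_left)).mpr fun x hx => mem_normalizer_of_conj fun z hz => by
      rwa [hZc z hz x hx]
  set f := QuotientGroup.mk' (Z.subgroupOf P) with hf
  set P0P := h.P0.subgroupOf P with hP0P
  -- the centre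
  have hcen : (Subgroup.center (P ⧸ Z.subgroupOf P)).comap f = P0P := by
    have hmem : ∀ x : P, x ∈ (Subgroup.center (P ⧸ Z.subgroupOf P)).comap f ↔
        ∀ y ∈ P, (x : G) * y * (x : G)⁻¹ * y⁻¹ ∈ Z := by
      intro x
      rw [Subgroup.mem_comap, Subgroup.mem_center_iff]
      constructor
      · intro hx y hy
        have h1 : f (x * ⟨y, hy⟩ * x⁻¹ * ⟨y, hy⟩⁻¹) = 1 := by
          simp only [map_mul, map_inv, ← hx (f ⟨y, hy⟩)]
          group
        exact Subgroup.mem_subgroupOf.mp ((QuotientGroup.eq_one_iff _).mp h1)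
      · intro hx q
        obtain ⟨y, rfl⟩ := QuotientGroup.mk'_surjective _ q
        have h1 : f (x * y * x⁻¹ * y⁻¹) = 1 :=
          (QuotientGroup.eq_one_iff _).mpr (Subgroup.mem_subgroupOf.mpr (hx y y.2))
        simp only [map_mul, map_inv, mul_inv_eq_one] at h1
        rw [← mul_inv_eq_iff_eq_mul.mp h1]
    set N := ((Subgroup.center (P ⧸ Z.subgroupOf P)).comap f).map P.subtype with hN
    have hN0 : h.P0 ≤ N := fun z hz => ⟨⟨z, hz.1⟩, (hmem _).mpr fun y hy => by
      show z * y * z⁻¹ * y⁻¹ ∈ Z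
      rw [h.central_of_E hirr hE hz hy, mul_inv_cancel_right, mul_inv_cancel]
      exact Z.one_mem, rfl⟩
    have hNU : U ≤ Subgroup.normalizer (N : Set G) := by
      intro v hv
      refine mem_normalizer_of_conj ?_
      rintro _ ⟨x, hx, rfl⟩
      refine ⟨⟨v * x * v⁻¹, conj_mem_of_le_normalizer (h.U_le_normalizer_P hv) x x.2⟩, ?_, rfl⟩
      refine (hmem _).mpr fun y hy => ?_
      have hy' : v⁻¹ * y * v ∈ P := by
        have := conj_mem_of_le_normalizer (h.U_le_normalizer_P (U.inv_mem hv)) y hy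
        rwa [inv_inv] at this
      have hz := (hmem x).mp hx _ hy'
      have hfix : v * ((x : G) * (v⁻¹ * y * v) * (x : G)⁻¹ * (v⁻¹ * y * v)⁻¹) * v⁻¹ =
          (x : G) * (v⁻¹ * y * v) * (x : G)⁻¹ * (v⁻¹ * y * v)⁻¹ := by
        rw [(hZlt.le hz).2 v hv, mul_inv_cancel_right]
      rw [← hfix] at hz
      simpa [mul_assoc] using hz
    rcases hirr N hN0 (Subgroup.map_subtype_le _) hNU with e | e
    · refine le_antisymm (fun x hx => Subgroup.mem_subgroupOf.mpr ?_) fun x hx => ?_
      · rw [show h.P0 = N from e.symm]; exact ⟨x, hx, rfl⟩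
      · obtain ⟨y, hy, e'⟩ := hN0 (Subgroup.mem_subgroupOf.mp hx)
        rwa [show x = y from Subtype.ext e'.symm]
    · exfalso
      refine hZlt.not_ge ((h.P0_le_commutator hE).trans
        (Subgroup.commutator_le.mpr fun x hx y hy => ?_))
      obtain ⟨x', hx', e'⟩ := e.ge hx
      subst e'
      rw [commutatorElement_def]
      exact (hmem x').mp hx' y hy
  have hcenter : Subgroup.center (P ⧸ Z.subgroupOf P) = P0P.map f := by
    rw [← hcen, Subgroup.map_comap_eq_self_of_surjective (QuotientGroup.mk'_surjective _)]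
  have hcomm : commutator (P ⧸ Z.subgroupOf P) = P0P.map f := by
    rw [commutator_def, ← Subgroup.map_top_of_surjective f (QuotientGroup.mk'_surjective _),
      ← Subgroup.map_commutator]
    congr 1
    apply Subgroup.map_injective P.subtype_injective
    rw [Subgroup.map_commutator, ← MonoidHom.range_eq_map, Subgroup.range_subtype, hP0P,
      Subgroup.map_subgroupOf_eq_of_le inf_le_left]
    exact le_antisymm (h.commutator_le_P0 hirr) (h.P0_le_commutator hE)
  have hpg : IsPGroup (Nat.card W) (P ⧸ Z.subgroupOf P) := (h.isPGroup_P hirr hE).to_quotient _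
  have hfr : frattini (P ⧸ Z.subgroupOf P) = Subgroup.center (P ⧸ Z.subgroupOf P) := by
    refine le_antisymm (CfsgLib.Critical.frattini_le_of_elementary (p := Nat.card W) _
      (hcomm.trans hcenter.symm).le fun q => ?_) ?_
    · obtain ⟨y, rfl⟩ := QuotientGroup.mk'_surjective _ q
      rw [hcenter, ← map_pow]
      exact Subgroup.mem_map_of_mem f (Subgroup.mem_subgroupOf.mpr
        ⟨(fittingHallOf M).pow_mem y.2 _, h.pow_mem y y.2⟩)
    · rw [hcenter, ← hcomm]
      exact (CfsgLib.PSolvable.commutator_le_frattini hpg).1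
  -- orders
  have hcardZ : Nat.card h.P0 = Nat.card W * Nat.card Z := by
    obtain ⟨y, hy, hyZ⟩ := SetLike.exists_of_lt hZlt
    have htop : Z ⊔ Subgroup.zpowers y = h.P0 := by
      refine le_antisymm (sup_le hZlt.le (Subgroup.zpowers_le.mpr hy)) ?_
      by_contra hlt
      exact hyZ ((hZmax ⟨lt_of_le_not_ge (sup_le hZlt.le (Subgroup.zpowers_le.mpr hy)) hlt, trivial⟩
        le_sup_left) (Subgroup.mem_sup_right (Subgroup.mem_zpowers y)))
    have hy' : orderOf y = Nat.card W := orderOf_eq_prime (h.pow_eq_one_of_mem_P0 hirr hE hy)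
      fun e => hyZ (e ▸ Z.one_mem)
    have hinf : Z ⊓ Subgroup.zpowers y = ⊥ := by
      rcases (Nat.dvd_prime h.primeW).mp (hy' ▸ Nat.card_zpowers y ▸
        Subgroup.card_dvd_of_le (inf_le_right : Z ⊓ Subgroup.zpowers y ≤ _)) with e | e
      · exact Subgroup.card_eq_one.mp e
      · exfalso
        have := Subgroup.eq_of_le_of_card_ge (inf_le_right : Z ⊓ Subgroup.zpowers y ≤ _)
          (by rw [e, Nat.card_zpowers, hy'])
        exact hyZ (this.ge (Subgroup.mem_zpowers y)).1
    rw [← htop, Coprime.card_sup_of_normalizer ((Subgroup.zpowers_le.mpr hy).trans fun a ha =>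
      mem_normalizer_of_conj fun z hz => by rwa [hZc z hz a ha.1]) hinf, Nat.card_zpowers, hy',
      mul_comm]
  have hcardC : Nat.card (Subgroup.center (P ⧸ Z.subgroupOf P)) = Nat.card W := by
    rw [hcenter]
    have hle : Z.subgroupOf P ≤ P0P := fun x hx => hZlt.le (show (x : G) ∈ Z from hx)
    have h1 := Subgroup.card_mul_index ((Z.subgroupOf P).subgroupOf P0P)
    have h2 : Nat.card (P0P.map f) = ((Z.subgroupOf P).subgroupOf P0P).index := by
      have e : P0P.map f = (f.comp P0P.subtype).range := by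
        rw [MonoidHom.range_comp, Subgroup.range_subtype]
      rw [e, ← Subgroup.index_ker, ← MonoidHom.comap_ker, hf, QuotientGroup.ker_mk']
      rfl
    rw [h2]
    rw [Nat.card_congr (Subgroup.subgroupOfEquivOfLe hle).toEquiv,
      Nat.card_congr (Subgroup.subgroupOfEquivOfLe (hZlt.le.trans inf_le_left)).toEquiv,
      Nat.card_congr (Subgroup.subgroupOfEquivOfLe (inf_le_left : h.P0 ≤ P)).toEquiv, hcardZ,
      mul_comm (Nat.card W)] at h1
    exact Nat.eq_of_mul_eq_mul_left Nat.card_pos h1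
  obtain ⟨m, -, hm⟩ := CfsgLib.Extraspecial.card_eq (p := Nat.card W) _ (P ⧸ Z.subgroupOf P)
    ⟨⟨hpg, hfr, hcomm.trans hcenter.symm⟩, hcardC⟩ rfl
  have hcard : Nat.card (P ⧸ Z.subgroupOf P) * Nat.card Z =
      Nat.card W ^ (Nat.card K + 1) * Nat.card Z := by
    rw [← Nat.card_congr (Subgroup.subgroupOfEquivOfLe (hZlt.le.trans inf_le_left)).toEquiv,
      ← Subgroup.card_eq_card_quotient_mul_card_subgroup,
      Nat.card_congr (Subgroup.subgroupOfEquivOfLe (hZlt.le.trans inf_le_left)).toEquiv,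
      hPdef, h.card_P, hcardZ, pow_succ, mul_assoc]
  have := Nat.pow_right_injective h.primeW.two_le (hm.symm.trans
    (Nat.eq_of_mul_eq_mul_right Nat.card_pos hcard))
  obtain ⟨b, hb⟩ := h.odd_G.of_dvd_nat K.card_subgroup_dvd_card
  omega

end Side

theorem IsFull.of_irred (h : Side M K U W) (hirr : h.Irred) (hE : h.E = ⊥)
    (hk : h.u' = ∑ i ∈ Finset.range (Nat.card K), Nat.card W ^ i)
    (hmod : ¬ Nat.card W ≡ 1 [MOD Nat.card K]) : IsFull h := by
  have hC := h.C_eq_bot_of_E hE
  have h0 := h.P0_eq_bot hirr hE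
  have hu : h.u' = Nat.card U := by
    rw [← h.card_C_mul, hC, Subgroup.card_bot, one_mul]
  have hab : ∀ x ∈ fittingHallOf M, ∀ y ∈ fittingHallOf M, x * y = y * x := by
    intro x hx y hy
    have := h.commutator_le_P0 hirr (Subgroup.commutator_mem_commutator hx hy)
    rw [h0, Subgroup.mem_bot] at this
    exact commutatorElement_eq_one_iff_mul_comm.mp this
  have hUab : ∀ a ∈ U, ∀ b ∈ U, a * b = b * a := fun a ha b hb => by
    have := h.commutator_mem_C ha hb
    rw [hC, Subgroup.mem_bot] at this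
    exact commutatorElement_eq_one_iff_mul_comm.mp this
  have hfree : ∀ v ∈ U, v ≠ 1 → ∀ x ∈ fittingHallOf M, v * x = x * v → x = 1 := by
    intro v hv hv1 x hx hc
    by_contra hx1
    let N : Subgroup G := fittingHallOf M ⊓ Subgroup.centralizer ({v} : Set G)
    have hN : U ≤ Subgroup.normalizer (N : Set G) := by
      intro w hw
      refine mem_normalizer_of_conj fun y hy => ⟨conj_mem_of_le_normalizer (h.U_le_normalizer_P hw) y hy.1, ?_⟩
      refine Subgroup.mem_centralizer_singleton_iff.mpr ?_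
      have hy' := Subgroup.mem_centralizer_singleton_iff.mp hy.2
      have hwv := hUab w hw v hv
      calc w * y * w⁻¹ * v = w * y * (w⁻¹ * v) := by group
        _ = w * y * (v * w⁻¹) := by rw [(show Commute w v from hwv).inv_left.eq]
        _ = w * (y * v) * w⁻¹ := by group
        _ = w * (v * y) * w⁻¹ := by rw [hy']
        _ = (w * v) * y * w⁻¹ := by group
        _ = (v * w) * y * w⁻¹ := by rw [hwv]
        _ = v * (w * y * w⁻¹) := by group
    rcases hirr N (h0.le.trans bot_le) inf_le_left hN with e | e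
    · exact hx1 (Subgroup.mem_bot.mp (h0.le (e.le ⟨hx,
        Subgroup.mem_centralizer_singleton_iff.mpr hc.symm⟩)))
    · refine hv1 (Subgroup.mem_bot.mp (hC.le ⟨hv, fun y hy => ?_⟩))
      exact Subgroup.mem_centralizer_singleton_iff.mp (e.ge hy).2
  refine ⟨hC, h0, hirr, ?_, hab, fun x hx => ?_, h.fittingOf_eq_of_E hE, ?_, hfree,
    hu.symm.trans hk, hu, hmod⟩
  · rw [h.card_P, h0, Subgroup.card_bot, mul_one]
  · exact Subgroup.mem_bot.mp (h0.le ⟨(fittingHallOf M).pow_mem hx _, h.pow_mem x hx⟩)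
  · haveI : IsMulCommutative (fittingHallOf M) :=
      ⟨⟨fun a b => Subtype.ext (hab a a.2 b b.2)⟩⟩
    haveI : IsMulCommutative U := ⟨⟨fun a b => Subtype.ext (hUab a a.2 b b.2)⟩⟩
    letI : CommGroup U := { (inferInstance : Group U) with mul_comm := fun a b => mul_comm' a b }
    refine Cfsg.Agent.CNOdd.isCyclic_of_fpf_odd (fittingHallOf_ne_bot_of_typeP h.hP)
      h.U_le_normalizer_P (fun v hv hv1 => ?_) inferInstance
      (h.odd_G.of_dvd_nat U.card_subgroup_dvd_card)
    exact (Subgroup.eq_bot_iff_forall _).mpr fun y hy => hfree v hv hv1 y hy.1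
      (Subgroup.mem_centralizer_singleton_iff.mp hy.2).symm

end CfsgLib.Peterfalvi.Pair
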