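import Cfsg.Agent.Lib.Peterfalvi.Pair.PairIneq
import Cfsg.Agent.Lib.Peterfalvi.Pair.SideFull

/-!
Both sides of a pair of types II, III or IV are full.
-/

set_option autoImplicit false
set_option linter.style.haveILetI false
set_option linter.unusedSectionVars false

namespace CfsgLib.Peterfalvi.Pair

open Cfsg CfsgLib.Char
open CfsgLib.BG.FixedLine (conj_mem_of_le_normalizer mem_normalizer_of_conj)
open scoped commutatorElement

universe u

/-- The numerical defect. -/
noncomputable def defectFun (r u m : ℝ) : ℝ := r * (2 * u + 1) ^ 2 / (4 * u * (m * (r - 1) * u + 1))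

theorem defectFun_le {r u m c : ℝ} (hr : 1 < r) (hu : 0 < u) (hm : 0 ≤ m)
    (h : r * (2 * u + 1) ^ 2 ≤ c * (4 * u * (m * (r - 1) * u + 1))) : defectFun r u m ≤ c := by
  unfold defectFun
  rw [div_le_iff₀ (mul_pos (by linarith) (by
    have := mul_nonneg (mul_nonneg hm (by linarith : (0 : ℝ) ≤ r - 1)) hu.le; linarith))]
  exact h

section Numeric

variable {r u m : ℝ}

theorem bound_three_five (hr : 5 ≤ r) (hu : 7 ≤ u) (hm : 7 ≤ m) :
    defectFun r u m ≤ 208 / 1000 := by
  refine defectFun_le (by linarith) (by linarith) (by linarith) ?_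
  obtain ⟨a, ha, rfl⟩ : ∃ a, 0 ≤ a ∧ r = 5 + a := ⟨r - 5, by linarith, by ring⟩
  obtain ⟨b, hb, rfl⟩ : ∃ b, 0 ≤ b ∧ u = 7 + b := ⟨u - 7, by linarith, by ring⟩
  obtain ⟨e, he, rfl⟩ : ∃ e, 0 ≤ e ∧ m = 7 + e := ⟨m - 7, by linarith, by ring⟩
  nlinarith [mul_nonneg ha hb, mul_nonneg he ha, mul_nonneg he hb, mul_nonneg hb hb,
    mul_nonneg (mul_nonneg ha hb) hb, mul_nonneg (mul_nonneg he hb) hb,
    mul_nonneg (mul_nonneg ha he) hb, mul_nonneg (mul_nonneg (mul_nonneg ha he) hb) hb]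

theorem bound_three_seven (hr : 7 ≤ r) (hu : 7 ≤ u) (hm : 3 ≤ m) :
    defectFun r u m ≤ 443 / 1000 := by
  refine defectFun_le (by linarith) (by linarith) (by linarith) ?_
  obtain ⟨a, ha, rfl⟩ : ∃ a, 0 ≤ a ∧ r = 7 + a := ⟨r - 7, by linarith, by ring⟩
  obtain ⟨b, hb, rfl⟩ : ∃ b, 0 ≤ b ∧ u = 7 + b := ⟨u - 7, by linarith, by ring⟩
  obtain ⟨e, he, rfl⟩ : ∃ e, 0 ≤ e ∧ m = 3 + e := ⟨m - 3, by linarith, by ring⟩
  nlinarith [mul_nonneg ha hb, mul_nonneg he ha, mul_nonneg he hb, mul_nonneg hb hb,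
    mul_nonneg (mul_nonneg ha hb) hb, mul_nonneg (mul_nonneg he hb) hb,
    mul_nonneg (mul_nonneg ha he) hb, mul_nonneg (mul_nonneg (mul_nonneg ha he) hb) hb]

theorem bound_five_three (hr : 3 ≤ r) (hu : 11 ≤ u) (hm : 11 ≤ m) :
    defectFun r u m ≤ 149 / 1000 := by
  refine defectFun_le (by linarith) (by linarith) (by linarith) ?_
  obtain ⟨a, ha, rfl⟩ : ∃ a, 0 ≤ a ∧ r = 3 + a := ⟨r - 3, by linarith, by ring⟩
  obtain ⟨b, hb, rfl⟩ : ∃ b, 0 ≤ b ∧ u = 11 + b := ⟨u - 11, by linarith, by ring⟩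
  obtain ⟨e, he, rfl⟩ : ∃ e, 0 ≤ e ∧ m = 11 + e := ⟨m - 11, by linarith, by ring⟩
  nlinarith [mul_nonneg ha hb, mul_nonneg he ha, mul_nonneg he hb, mul_nonneg hb hb,
    mul_nonneg (mul_nonneg ha hb) hb, mul_nonneg (mul_nonneg he hb) hb,
    mul_nonneg (mul_nonneg ha he) hb, mul_nonneg (mul_nonneg (mul_nonneg ha he) hb) hb]

theorem bound_five_eleven (hr : 11 ≤ r) (hu : 11 ≤ u) (hm : 3 ≤ m) :
    defectFun r u m ≤ 424 / 1000 := by
  refine defectFun_le (by linarith) (by linarith) (by linarith) ?_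
  obtain ⟨a, ha, rfl⟩ : ∃ a, 0 ≤ a ∧ r = 11 + a := ⟨r - 11, by linarith, by ring⟩
  obtain ⟨b, hb, rfl⟩ : ∃ b, 0 ≤ b ∧ u = 11 + b := ⟨u - 11, by linarith, by ring⟩
  obtain ⟨e, he, rfl⟩ : ∃ e, 0 ≤ e ∧ m = 3 + e := ⟨m - 3, by linarith, by ring⟩
  nlinarith [mul_nonneg ha hb, mul_nonneg he ha, mul_nonneg he hb, mul_nonneg hb hb,
    mul_nonneg (mul_nonneg ha hb) hb, mul_nonneg (mul_nonneg he hb) hb,
    mul_nonneg (mul_nonneg ha he) hb, mul_nonneg (mul_nonneg (mul_nonneg ha he) hb) hb]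

theorem bound_r_three (hu : 11 ≤ u) : defectFun 3 u 1 ≤ 1569 / 1000 := by
  refine defectFun_le (by norm_num) (by linarith) (by norm_num) ?_
  nlinarith

theorem bound_r_three' (hu : 15 ≤ u) : defectFun 3 u 1 ≤ 1550 / 1000 := by
  refine defectFun_le (by norm_num) (by linarith) (by norm_num) ?_
  nlinarith

theorem bound_r_five (hr : 5 ≤ r) (hu : 7 ≤ u) : defectFun r u 1 ≤ 1386 / 1000 := by
  refine defectFun_le (by linarith) (by linarith) (by norm_num) ?_
  obtain ⟨a, ha, rfl⟩ : ∃ a, 0 ≤ a ∧ r = 5 + a := ⟨r - 5, by linarith, by ring⟩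
  obtain ⟨b, hb, rfl⟩ : ∃ b, 0 ≤ b ∧ u = 7 + b := ⟨u - 7, by linarith, by ring⟩
  nlinarith [mul_nonneg ha hb, mul_nonneg hb hb, mul_nonneg (mul_nonneg ha hb) hb]

end Numeric

variable {G : Type u} [Group G] [Fintype G] {M K U W M' V : Subgroup G}

theorem defect_le_fun (h : Side M K U W) {m : ℕ}
    (hm : m * (Nat.card W - 1) * h.u' ≤ minCount h) :
    defect h ≤ defectFun (Nat.card W) h.u' m := by
  unfold defect defectFun
  have hu : (0 : ℝ) < h.u' := by have := h.u'_ge; exact_mod_cast (by omega : 0 < h.u')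
  have hr : (1 : ℝ) ≤ (Nat.card W : ℝ) := by exact_mod_cast h.primeW.pos
  have hM : (m : ℝ) * ((Nat.card W : ℝ) - 1) * h.u' ≤ (minCount h : ℝ) := by
    rw [← Nat.cast_one, ← Nat.cast_sub h.primeW.pos, ← Nat.cast_mul, ← Nat.cast_mul]
    exact_mod_cast hm
  have h0 : (0 : ℝ) ≤ (m : ℝ) * ((Nat.card W : ℝ) - 1) * h.u' :=
    mul_nonneg (mul_nonneg (Nat.cast_nonneg _) (by linarith)) hu.le
  refine div_le_div_of_nonneg_left (by positivity) (mul_pos (by linarith) (by linarith)) ?_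
  exact mul_le_mul_of_nonneg_left (by linarith) (by linarith)

namespace Side

variable (h : Side M K U W)
include h

theorem card_E_modEq : Nat.card h.E ≡ 1 [MOD Nat.card K] := by
  classical
  haveI : Fact (Nat.card K).Prime := ⟨h.primeK⟩
  have hQK : K ≤ Subgroup.normalizer (h.Q : Set G) :=
    Coprime.le_normalizer_commutator h.K_le_normalizer_P h.hP.U_normal
  let kM : K → M := fun k => ⟨(k : G)⁻¹, inv_mem (K_le h.hP k.2)⟩
  letI act : MulAction K h.E :=
    { smul := fun k χ => ⟨tw χ.1 (kM k), tw_mem_annih χ.2 (inv_mem (hQK k.2))⟩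
      one_smul := fun χ => Subtype.ext (show tw χ.1 (kM 1) = χ.1 by
        rw [show kM 1 = 1 from Subtype.ext (by simp [kM]), tw_one])
      mul_smul := fun a b χ => Subtype.ext (show tw χ.1 (kM (a * b)) =
        tw (tw χ.1 (kM b)) (kM a) by
        rw [← tw_mul]; congr 1; exact Subtype.ext (by simp [kM])) }
  have hone : MulAction.fixedPoints K h.E = {(1 : h.E)} := by
    ext χ
    simp only [MulAction.mem_fixedPoints, Set.mem_singleton_iff]
    refine ⟨fun hfix => ?_, fun e k => ?_⟩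
    · obtain ⟨⟨x, hx⟩, hx1⟩ := Subgroup.ne_bot_iff_exists_ne_one.mp h.hP.W₁_ne
      replace hx1 : x ≠ 1 := fun e => hx1 (Subtype.ext e)
      set xM : M := ⟨x, K_le h.hP hx⟩
      have hf : ∀ g : fittingOf M,
          χ.1 ⟨(xM : G) * g * (xM : G)⁻¹, mem_fitting_conj M xM g.2⟩ = χ.1 g := by
        intro g
        have e : tw χ.1 (kM ⟨x⁻¹, K.inv_mem hx⟩) = χ.1 :=
          congrArg Subtype.val (hfix ⟨x⁻¹, K.inv_mem hx⟩)
        rw [show kM ⟨x⁻¹, K.inv_mem hx⟩ = xM from Subtype.ext (inv_inv x)] at e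
        exact DFunLike.congr_fun e g
      have hle : fittingOf M ≤ χ.1.ker.map (fittingOf M).subtype := by
        conv_lhs => rw [← h.fittingOf_eq, ← h.Q_sup_P0, sup_assoc]
        refine sup_le (fun z hz => ⟨⟨z, h.fittingHallOf_le_fittingOf (h.Q_le hz)⟩, χ.2 _ hz, rfl⟩)
          (sup_le (fun w hw => ?_) fun w hw => ?_)
        · obtain ⟨e, he, hwe⟩ := exists_eq_mul_conj_inv ((K_le h.hP).trans h.fixed_normal hx)
            (fun v hv => h.fpf_P0 hx hx1 hv) hw
          refine ⟨⟨e, h.fittingHallOf_le_fittingOf he.1⟩ * (⟨(xM : G) * e * (xM : G)⁻¹,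
            mem_fitting_conj M xM (h.fittingHallOf_le_fittingOf he.1)⟩ : fittingOf M)⁻¹, ?_, hwe.symm⟩
          rw [SetLike.mem_coe, MonoidHom.mem_ker, map_mul, map_inv,
            hf ⟨e, h.fittingHallOf_le_fittingOf he.1⟩, mul_inv_cancel]
        · obtain ⟨e, he, hwe⟩ := exists_eq_mul_conj_inv ((le_sup_right.trans h.le_normalizer_C) hx)
            (fun v hv => h.fpf_C hx hx1 hv) hw
          refine ⟨⟨e, h.C_le_fittingOf he⟩ * (⟨(xM : G) * e * (xM : G)⁻¹,
            mem_fitting_conj M xM (h.C_le_fittingOf he)⟩ : fittingOf M)⁻¹, ?_, hwe.symm⟩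
          rw [SetLike.mem_coe, MonoidHom.mem_ker, map_mul, map_inv, hf ⟨e, h.C_le_fittingOf he⟩,
            mul_inv_cancel]
      refine Subtype.ext (MonoidHom.ext fun g => ?_)
      obtain ⟨y, hy, e⟩ := hle g.2
      rw [show g = y from Subtype.ext e.symm]
      exact hy
    · subst e
      exact Subtype.ext (MonoidHom.ext fun _ => rfl)
  have hp : IsPGroup (Nat.card K) K := IsPGroup.of_card (n := 1) (by rw [pow_one])
  have := hp.card_modEq_card_fixedPoints h.E
  rwa [hone, Nat.card_eq_fintype_card (α := ({(1 : h.E)} : Set h.E)), Set.card_singleton] at this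

theorem odd_card_E : Odd (Nat.card h.E) := by
  refine h.odd_G.of_dvd_nat ?_
  have hdvd : Nat.card h.E ∣ Nat.card (fittingOf M) := by
    -- the linear characters trivial on the commutators
    set T : Subgroup G := ⁅fittingOf M, fittingOf M⁆
    have h1 : Nat.card (annih (fittingOf M) T) ∣ Nat.card (fittingOf M) := ⟨Nat.card T,
      (card_annih (Subgroup.commutator_le_self _) fun a ha b hb => by
        have := Subgroup.commutator_mem_commutator ha hb
        rwa [commutatorElement_def] at this).symm⟩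
    refine dvd_trans ?_ h1
    refine Subgroup.card_dvd_of_le fun χ _ x hx => ?_
    have hle : T ≤ χ.ker.map (fittingOf M).subtype := Subgroup.commutator_le.mpr fun a ha b hb =>
      ⟨⁅(⟨a, ha⟩ : fittingOf M), (⟨b, hb⟩ : fittingOf M)⁆, by
        rw [SetLike.mem_coe, MonoidHom.mem_ker, map_commutatorElement, commutatorElement_eq_one_iff_mul_comm]
        exact mul_comm _ _, rfl⟩
    obtain ⟨y, hy, e⟩ := hle hx
    rw [show x = y from Subtype.ext e.symm]
    exact hy
  exact hdvd.trans (Subgroup.card_subgroup_dvd_card _)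

theorem geom_modEq (hr : ¬ Nat.card W ≡ 1 [MOD Nat.card K]) :
    (∑ i ∈ Finset.range (Nat.card K), Nat.card W ^ i) ≡ 1 [MOD Nat.card K] := by
  haveI : Fact (Nat.card K).Prime := ⟨h.primeK⟩
  rw [← ZMod.natCast_eq_natCast_iff] at hr ⊢
  push_cast at hr ⊢
  have hne : (Nat.card W : ZMod (Nat.card K)) - 1 ≠ 0 := sub_ne_zero.mpr hr
  refine mul_right_cancel₀ hne ?_
  rw [geom_sum_mul, ZMod.pow_card, one_mul]

theorem geom_modEq_zero (hr : Nat.card W ≡ 1 [MOD Nat.card K]) :
    Nat.card K ∣ ∑ i ∈ Finset.range (Nat.card K), Nat.card W ^ i := by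
  rw [← ZMod.natCast_eq_natCast_iff] at hr
  rw [← ZMod.natCast_eq_zero_iff]
  push_cast at hr ⊢
  simp [hr]

theorem odd_geom : Odd (∑ i ∈ Finset.range (Nat.card K), Nat.card W ^ i) := by
  have hW : Odd (Nat.card W) := h.odd_G.of_dvd_nat W.card_subgroup_dvd_card
  have hK : Odd (Nat.card K) := h.odd_G.of_dvd_nat K.card_subgroup_dvd_card
  rw [Finset.odd_sum_iff_odd_card_odd, Finset.filter_true_of_mem fun i _ => hW.pow,
    Finset.card_range]
  exact hK

theorem two_mul_le_of_mult {m : ℕ} (hm : 1 ≤ m)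
    (hM : m * (Nat.card W - 1) * h.u' ≤ minCount h) : 2 * h.u' ≤ minCount h := by
  refine le_trans (Nat.mul_le_mul_right _ ?_) hM
  have := h.three_le_W
  calc 2 = 1 * 2 := by norm_num
    _ ≤ m * (Nat.card W - 1) := Nat.mul_le_mul hm (by omega)

/-- Either the side is full or there are many characters with minimal stabiliser. -/
theorem full_or_good : ∃ m : ℕ, m * (Nat.card W - 1) * h.u' ≤ minCount h ∧ 1 ≤ m ∧
    (IsFull h ∨ (2 * Nat.card K + 1 ≤ m) ∨
      (7 ≤ Nat.card W ∧ 2 * Nat.card K + 1 ≤ Nat.card W ∧ 3 ≤ m) ∨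
      (7 ≤ Nat.card W ∧ Nat.card K = 3 ∧ 3 ≤ m) ∨ (7 ≤ Nat.card W ∧ 11 ≤ m)) := by
  obtain ⟨b, hb⟩ := h.odd_G.of_dvd_nat K.card_subgroup_dvd_card
  have hw := h.three_le_K
  by_cases hirr : h.Irred
  · obtain ⟨k, hk⟩ := h.u'_dvd_geom hirr
    refine ⟨k * Nat.card h.E, le_trans (le_of_eq ?_) (h.card_le_minCount hirr), ?_, ?_⟩
    · have h2 : (Nat.card W - 1) * ∑ i ∈ Finset.range (Nat.card K), Nat.card W ^ i =
          Nat.card W ^ Nat.card K - 1 := by
        have := geom_sum_mul_add (Nat.card W - 1) (Nat.card K)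
        simp only [Nat.sub_add_cancel (show 1 ≤ Nat.card W from h.primeW.pos)] at this
        rw [mul_comm]; omega
      rw [← h2, hk]; ring
    · refine Nat.mul_pos (Nat.pos_of_ne_zero fun e => ?_) Nat.card_pos
      rw [e, mul_zero] at hk
      have := hk ▸ h.odd_geom
      exact absurd this (by decide)
    have hodd : Odd (k * Nat.card h.E) :=
      ((hk ▸ h.odd_geom).of_dvd_nat (dvd_mul_left k h.u')).mul h.odd_card_E
    by_cases hr : Nat.card W ≡ 1 [MOD Nat.card K]
    · have hkK : Nat.card K ∣ k := by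
        refine Nat.Coprime.dvd_of_dvd_mul_left ?_ (hk ▸ h.geom_modEq_zero hr)
        exact (Nat.Prime.coprime_iff_not_dvd h.primeK).mpr fun hd => by
          have := h.u'_modEq
          rw [Nat.ModEq, Nat.dvd_iff_mod_eq_zero.mp hd, Nat.one_mod_eq_one.mpr (by omega)] at this
          omega
      have hk0 : 0 < k := Nat.pos_of_ne_zero fun e => by rw [e, zero_mul] at hodd; exact absurd hodd (by decide)
      refine Or.inr (Or.inr (Or.inl ?_))
      have h3 : 3 ≤ k * Nat.card h.E :=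
        hw.trans ((Nat.le_of_dvd hk0 hkK).trans (Nat.le_mul_of_pos_right _ Nat.card_pos))
      have hWK : 2 * Nat.card K + 1 ≤ Nat.card W := by
        obtain ⟨c, hc⟩ := (Nat.modEq_iff_dvd' h.primeW.pos).mp hr.symm
        obtain ⟨d, hd⟩ := h.odd_G.of_dvd_nat W.card_subgroup_dvd_card
        have := h.three_le_W
        rcases Nat.lt_or_ge c 2 with hc2 | hc2
        · interval_cases c <;> omega
        · nlinarith [Nat.sub_add_cancel (show 1 ≤ Nat.card W by omega)]
      exact ⟨by omega, hWK, h3⟩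
    · have hk1 : k ≡ 1 [MOD Nat.card K] := by
        have h1 := h.geom_modEq hr
        rw [hk] at h1
        have h2 := (h.u'_modEq.mul_right k).symm.trans h1
        rwa [one_mul] at h2
      have hm1 : k * Nat.card h.E ≡ 1 [MOD Nat.card K] := by simpa using hk1.mul h.card_E_modEq
      by_cases he : k * Nat.card h.E = 1
      · obtain ⟨h1, h2⟩ := mul_eq_one.mp he
        refine Or.inl (IsFull.of_irred h hirr (Subgroup.card_eq_one.mp h2) ?_ hr)
        rw [hk, h1, mul_one]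
      · refine Or.inr (Or.inl ?_)
        have hpos : 1 ≤ k * Nat.card h.E := hodd.pos
        obtain ⟨c, hc⟩ := (Nat.modEq_iff_dvd' hpos).mp hm1.symm
        obtain ⟨d, hd⟩ := hodd
        rcases Nat.lt_or_ge c 2 with hc2 | hc2
        · interval_cases c <;> omega
        · nlinarith [Nat.sub_add_cancel hpos]
  · obtain ⟨hM, hu, hr7⟩ := h.reducible_bound hirr
    refine ⟨2 ^ (Nat.card K - 1), ?_, Nat.one_le_two_pow, ?_⟩
    · refine le_trans ?_ hM
      calc 2 ^ (Nat.card K - 1) * (Nat.card W - 1) * h.u'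
          = (Nat.card W - 1) * (2 ^ (Nat.card K - 1) * h.u') := by ring
        _ ≤ (Nat.card W - 1) * (Nat.card W - 1) ^ (Nat.card K - 1) := Nat.mul_le_mul_left _ hu
        _ = _ := by rw [← pow_succ', Nat.sub_add_cancel (by omega : 1 ≤ Nat.card K)]
    rcases Nat.lt_or_ge (Nat.card K) 5 with h5 | h5
    · refine Or.inr (Or.inr (Or.inr (Or.inl ⟨hr7, by omega, ?_⟩)))
      calc 3 ≤ 2 ^ 2 := by norm_num
        _ ≤ _ := Nat.pow_le_pow_right two_pos (by omega)
    · refine Or.inr (Or.inr (Or.inr (Or.inr ⟨hr7, ?_⟩)))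
      calc 11 ≤ 2 ^ 4 := by norm_num
        _ ≤ _ := Nat.pow_le_pow_right two_pos (by omega)

end Side

theorem prime_five_le {p : ℕ} (hp : p.Prime) (h3 : 3 ≤ p) (hne : p ≠ 3) : 5 ≤ p := by
  rcases Nat.lt_or_ge p 5 with h | h
  · interval_cases p
    · omega
    · norm_num at hp
  · exact h

/-- A side of a pair is full. -/
theorem isFull_of_pair (h : Side M K U W) (h' : Side M' W V K) : IsFull h := by
  obtain ⟨m, hM, hm1, hcase⟩ := h.full_or_good
  obtain ⟨m', hM', hm1', -⟩ := h'.full_or_good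
  rcases hcase with hfull | hcase
  · exact hfull
  exfalso
  have hM1 : 1 * (Nat.card K - 1) * h'.u' ≤ minCount h' :=
    le_trans (Nat.mul_le_mul_right _ (Nat.mul_le_mul_right _ hm1')) hM'
  have key := two_le_defect_add h h' (h.two_mul_le_of_mult hm1 hM) (h'.two_mul_le_of_mult hm1' hM')
  have e1 := defect_le_fun h hM
  have e2 := defect_le_fun h' hM1
  rw [Nat.cast_one] at e2
  have hr3 := h.three_le_W
  have hw3 := h.three_le_K
  have hu := h.u'_ge
  have hu' := h'.u'_ge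
  have hne := h.prime_ne
  rcases eq_or_ne (Nat.card K) 3 with hw | hw
  · have hr5 := prime_five_le h.primeW hr3 fun e => hne (hw.trans e.symm)
    rw [hw, show ((3 : ℕ) : ℝ) = 3 by norm_num] at e2
    by_cases h7 : 7 ≤ Nat.card W ∧ 3 ≤ m
    · have b1 := bound_three_seven (r := (Nat.card W : ℝ)) (u := h.u') (m := m)
        (by exact_mod_cast h7.1) (by exact_mod_cast (by omega : 7 ≤ h.u')) (by exact_mod_cast h7.2)
      have b2 := bound_r_three' (u := (h'.u' : ℝ)) (by exact_mod_cast (by omega : 15 ≤ h'.u'))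
      linarith
    · have hm7 : 7 ≤ m := by rcases hcase with a | a | a | a <;> omega
      have b1 := bound_three_five (r := (Nat.card W : ℝ)) (u := h.u') (m := m)
        (by exact_mod_cast hr5) (by exact_mod_cast (by omega : 7 ≤ h.u')) (by exact_mod_cast hm7)
      have b2 := bound_r_three (u := (h'.u' : ℝ)) (by exact_mod_cast (by omega : 11 ≤ h'.u'))
      linarith
  · have hw5 := prime_five_le h.primeK hw3 hw
    have b2 := bound_r_five (r := (Nat.card K : ℝ)) (u := h'.u') (by exact_mod_cast hw5)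
      (by exact_mod_cast (by omega : 7 ≤ h'.u'))
    by_cases hm11 : 11 ≤ m
    · have b1 := bound_five_three (r := (Nat.card W : ℝ)) (u := h.u') (m := m)
        (by exact_mod_cast hr3) (by exact_mod_cast (by omega : 11 ≤ h.u')) (by exact_mod_cast hm11)
      linarith
    · have h3 : 11 ≤ Nat.card W ∧ 3 ≤ m := by rcases hcase with a | a | a | a <;> omega
      have b1 := bound_five_eleven (r := (Nat.card W : ℝ)) (u := h.u') (m := m)
        (by exact_mod_cast h3.1) (by exact_mod_cast (by omega : 11 ≤ h.u')) (by exact_mod_cast h3.2)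
      linarith

end CfsgLib.Peterfalvi.Pair
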