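import Cfsg.Agent.Lib.Peterfalvi.Pair.NbrSupport
import Cfsg.Agent.Lib.Peterfalvi.Pair.PairFull
import Cfsg.Agent.Lib.Peterfalvi.Pair.ParityLemma

/-!
The coefficients at the family of a pair of the virtual character attached to a neighbour.
-/

set_option autoImplicit false
set_option linter.style.haveILetI false
set_option linter.unusedSectionVars false

namespace CfsgLib.Peterfalvi.Pair

open Cfsg CfsgLib.Char
open scoped ComplexConjugate CfsgLib.Char Pointwise

universe u

variable {G : Type u} [Group G] [Fintype G] {M K U W M' V L : Subgroup G}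

/-- A maximal subgroup whose elements avoid those attached to a pair. -/
structure Away (M K W M' L : Subgroup G) : Prop where
  hG : IsMinSimpleOddOrder G
  hL : IsCoatom L
  sharp : ∀ g ∈ tilde L, g ∉ conjSharp (fittingOf M)
  sharp' : ∀ g ∈ tilde L, g ∉ conjSharp (fittingOf M')
  ti : ∀ g ∈ tilde L, g ∉ conjSet (CyclicTI.tiPart K W)
  a0 : ∀ g ∈ tilde L, g ∉ conjSet (A0 M K W)
  a0' : ∀ g ∈ tilde L, g ∉ conjSet (A0 M' W K)
  index_le : (sigmaCore L).relIndex L ≤ Nat.card K * Nat.card W
  seven_le : 7 ≤ Nat.card (sigmaCore L)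

theorem tiPart_comm (K W : Subgroup G) : CyclicTI.tiPart K W = CyclicTI.tiPart W K := by
  simp only [CyclicTI.tiPart, sup_comm K W, Set.union_comm (K : Set G)]

theorem Away.symm (hA : Away M K W M' L) : Away M' W K M L :=
  ⟨hA.hG, hA.hL, hA.sharp', hA.sharp, tiPart_comm K W ▸ hA.ti, hA.a0', hA.a0,
    hA.index_le.trans (le_of_eq (Nat.mul_comm _ _)), hA.seven_le⟩

theorem Side.mult (h : Side M K U W) :
    ∃ m : ℕ, 1 ≤ m ∧ m * (Nat.card W - 1) * h.u' ≤ minCount h := by
  obtain ⟨m, hm, h1, -⟩ := h.full_or_good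
  exact ⟨m, h1, hm⟩

theorem Side.two_mul_le (h : Side M K U W) : 2 * h.u' ≤ minCount h := by
  obtain ⟨m, h1, hm⟩ := h.mult
  exact h.two_mul_le_of_mult h1 hm

theorem IsFull.defect_le {h : Side M K U W} (hf : IsFull h) : defect h ≤ 1569 / 1000 := by
  obtain ⟨m, h1, hm⟩ := h.mult
  have hm1 : 1 * (Nat.card W - 1) * h.u' ≤ minCount h :=
    le_trans (Nat.mul_le_mul_right _ (Nat.mul_le_mul_right _ h1)) hm
  refine (defect_le_fun h hm1).trans ?_
  have hu : h.u' = ∑ i ∈ Finset.range (Nat.card K), Nat.card W ^ i := hf.u'_eq.trans hf.card_U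
  have hr := h.three_le_W
  have hu13 : 13 ≤ h.u' := by
    rw [hu]
    refine le_trans ?_ (Finset.sum_le_sum_of_subset (f := fun i => Nat.card W ^ i)
      (Finset.range_subset_range.mpr h.three_le_K))
    simp only [Finset.sum_range_succ, Finset.sum_range_zero, pow_zero, pow_one, zero_add]
    nlinarith
  by_cases h3 : Nat.card W = 3
  · rw [h3]
    simpa using bound_r_three (u := (h.u' : ℝ)) (by exact_mod_cast (by omega : 11 ≤ h.u'))
  · refine le_trans (le_of_eq (by norm_num)) ((bound_r_five (r := (Nat.card W : ℝ))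
      (u := (h.u' : ℝ)) (by exact_mod_cast prime_five_le h.primeW hr h3)
      (by exact_mod_cast (by omega : 7 ≤ h.u'))).trans (by norm_num))

variable {ι : Type u} {β ψ : G → ℂ} {I : Finset ι} {f : ι → G → ℂ} {w : ι → ℕ}
  {η : Lin W → Lin K → G → ℂ} {h : Side M K U W} {h' : Side M' W V K}

section

variable (hA : Away M K W M' L) (hF : LFam L β ψ I f w) (hη : IsGrid K W η)
include hA hF

theorem beta_vanish (hh : Side M K U W) (x : K) (y : W) (hx : x ≠ 1) (hy : y ≠ 1) :
    β ((x : G) * y) = 0 := by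
  refine hF.vanish _ fun hg => hA.ti _ hg ⟨1, ?_⟩
  simpa using CyclicTI.mul_mem_tiPart (CyclicTI.disj_of hh.hP.selfNormalizing) x.2
    (fun e => hx (Subtype.ext e)) y.2 fun e => hy (Subtype.ext e)

include hη

theorem family_orth (hh : Side M K U W) {i : ι} (hi : i ∈ I) (a : Lin W) (b : Lin K) :
    classInner (η a b) (f i) = 0 := by
  classical
  have hirr := hF.irr i hi
  have hcirr := isIrrCharacter_conj hirr
  have hD : classInner (f i - conjFun (f i)) (η a b) = 0 := by
    refine hη.orth_of_norm_two (isGeneralized_sub (isGeneralized_of_isIrr hirr)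
      (isGeneralized_of_isIrr hcirr)) (n := 2) ?_ le_rfl hh.three_le_W hh.three_le_K
      (fun x y hx hy => ?_) a b
    · rw [classInner_sub_left, classInner_sub_right, classInner_sub_right,
        classInner_irr_self hirr, classInner_irr_self hcirr,
        classInner_irr_ne hirr hcirr (hF.conj_ne i hi).symm,
        classInner_irr_ne hcirr hirr (hF.conj_ne i hi)]
      norm_num
    · have hg : (x : G) * y ∉ tilde L := fun hg => hA.ti _ hg ⟨1, by
        simpa using CyclicTI.mul_mem_tiPart (CyclicTI.disj_of hh.hP.selfNormalizing) x.2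
          (fun e => hx (Subtype.ext e)) y.2 fun e => hy (Subtype.ext e)⟩
      exact sub_eq_zero.mpr (hF.sub_vanish i hi _ hg)
  rw [classInner_sub_left, sub_eq_zero] at hD
  by_contra hne
  have hne1 : classInner (f i) (η a b) ≠ 0 := fun e => hne (by
    rw [← classInner_conj_symm, e, map_zero])
  have hne2 : classInner (conjFun (f i)) (η a b) ≠ 0 := hD ▸ hne1
  have key : ∀ {χ : G → ℂ}, IsIrrCharacter G χ → classInner χ (η a b) ≠ 0 →
      χ = η a b ∨ χ = -η a b := fun {χ} hχ h0 => by
    rcases hη.signed a b with e | e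
    · exact Or.inl (by_contra fun hn => h0 (classInner_irr_ne hχ e hn))
    · refine Or.inr (by_contra fun hn => h0 ?_)
      have := classInner_irr_ne hχ e hn
      rwa [classInner_neg_right, neg_eq_zero] at this
  refine hF.conj_ne i hi ?_
  rcases key hirr hne1 with e1 | e1 <;> rcases key (χ := conjFun (f i)) hcirr hne2 with e2 | e2
  · rw [e2, ← e1]
  · exfalso
    have h1 : conjFun (f i) 1 = f i 1 := Coherence.conjFun_one (isCharacter_of_isIrr hirr)
    rw [e2, e1, Pi.neg_apply, neg_eq_iff_add_eq_zero, ← two_mul, mul_eq_zero] at h1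
    exact irr_degree_ne_zero hirr (by rw [e1]; exact h1.resolve_left two_ne_zero)
  · exfalso
    have h1 : conjFun (f i) 1 = f i 1 := Coherence.conjFun_one (isCharacter_of_isIrr hirr)
    rw [e2, e1, Pi.neg_apply, eq_neg_iff_add_eq_zero, ← two_mul, mul_eq_zero] at h1
    exact irr_degree_ne_zero hirr (by
      rw [e1, Pi.neg_apply, h1.resolve_left two_ne_zero, neg_zero])
  · rw [e2, ← e1]

theorem classInner_eta_beta {c : Lin W → Lin K → ℤ}
    (hc : ∀ a b, classInner β (η a b) = c a b) (a : Lin W) (b : Lin K) :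
    classInner (η a b) β = c a b := by
  rw [← classInner_conj_symm, hc, map_intCast]

theorem coeff_one {c : Lin W → Lin K → ℤ} (hc : ∀ a b, classInner β (η a b) = c a b) :
    c 1 1 = 1 := by
  refine Int.cast_injective (α := ℂ) ?_
  rw [← hc, hη.one, hF.one, Int.cast_one]

theorem coeff_rect (hh : Side M K U W) {c : Lin W → Lin K → ℤ}
    (hc : ∀ a b, classInner β (η a b) = c a b) (a : Lin W) (b : Lin K) :
    c a b = c a 1 + c 1 b - 1 := by
  have hR := hη.rect_of_vanish (isClassFunction_of_isGeneralized hF.gen) hc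
    (beta_vanish hA hF hh) a 1 b 1
  rw [coeff_one hA hF hη hc] at hR
  linarith

end

section

variable (hf : IsFull h) (hf' : IsFull h') (hA : Away M K W M' L) (hF : LFam L β ψ I f w)
  (hη : IsGrid K W η)
include hA hF hη

/-- The inequality for a member of the family. -/
theorem slack_ineq {c : Lin W → Lin K → ℤ} (hc : ∀ a b, classInner β (η a b) = c a b)
    {s : ℝ} (hs : s = 1 ∨ s = -1) {a : Lin W} {b : Lin K} (hab : ¬ (a = 1 ∧ b = 1))
    [Fintype K] [Fintype W] :
    (if a = 1 then -(1 : ℝ) / (4 * (minCount h + 1))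
      else (h.u' : ℝ) - (2 * h.u' + 1) ^ 2 / (4 * (minCount h + 1))) / (h.u' * Nat.card K) +
    (if b = 1 then -(1 : ℝ) / (4 * (minCount h' + 1))
      else (h'.u' : ℝ) - (2 * h'.u' + 1) ^ 2 / (4 * (minCount h' + 1))) / (h'.u' * Nat.card W) +
    partW K W (η a b) s / (Nat.card K * Nat.card W) +
    ((Nat.card (sigmaCore L) : ℝ) - 1) / Nat.card L * ((c a b : ℝ) ^ 2 + s * c a b) ≤ 1 := by
  classical
  haveI : Fintype (fittingOf M) := Fintype.ofFinite _
  haveI : Fintype (fittingOf M') := Fintype.ofFinite _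
  obtain ⟨ω, hω⟩ := exists_isOmega h
  obtain ⟨ω', hω'⟩ := exists_isOmega h'
  obtain ⟨d, hd⟩ : ∃ d : ℤ, η a b 1 = d := hη.intVal a b 1 (by simp)
  have hn : classInner (η a b) (η a b) = 1 := by rw [hη.orth, if_pos ⟨rfl, rfl⟩]
  have h1 : classInner (η a b) (fun _ => 1) = 0 := by
    rw [← hη.one, hη.orth, if_neg hab]
  have hS := part_ge hω hη a b hs h.two_mul_le hd
  have hT := part_ge hω' hη.transpose b a hs h'.two_mul_le hd
  have hdec := decomp h h' (hη.isGeneralized a b) hd hn h1 hs (Z := tilde L)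
    (powClosed_tilde hA.hG hA.hL) (one_notMem_tilde hA.hG hA.hL) hA.sharp hA.sharp' hA.ti
  have hL := hF.part (η a b) (hη.isClassFunction a b)
    (fun i hi => family_orth hA hF hη h hi a b) (c a b) (classInner_eta_beta hA hF hη hc a b) s
  have e : (Finset.univ.filter (· ∈ tilde L)) = (tilde L).toFinset := by ext g; simp
  rw [e] at hL
  convert le_trans (add_le_add (add_le_add (add_le_add hS hT) le_rfl) hL) hdec using 0
  congr!

theorem card_L_le : (Nat.card L : ℝ) ≤
    (Nat.card (sigmaCore L) : ℝ) * (Nat.card K * Nat.card W) := by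
  have h1 : (sigmaCore L).relIndex L * Nat.card (sigmaCore L) = Nat.card L := by
    rw [mul_comm, Subgroup.relIndex, ← Subgroup.card_mul_index ((sigmaCore L).subgroupOf L),
      Nat.card_congr (Subgroup.subgroupOfEquivOfLe
        (show sigmaCore L ≤ L from OddLocal.piCoreOf_le _ L)).toEquiv]
  have h2 : Nat.card L ≤ Nat.card (sigmaCore L) * (Nat.card K * Nat.card W) := by
    rw [← h1, mul_comm]
    exact Nat.mul_le_mul_left _ hA.index_le
  exact_mod_cast h2

theorem slack_arith {x t : ℝ} (hx : 2 ≤ x)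
    (hle : ((Nat.card (sigmaCore L) : ℝ) - 1) / Nat.card L * x ≤
      t / (Nat.card K * Nat.card W)) : (12 : ℝ) / 7 ≤ t := by
  have hm : (7 : ℝ) ≤ Nat.card (sigmaCore L) := by exact_mod_cast hA.seven_le
  have hL : (0 : ℝ) < Nat.card L := by exact_mod_cast Nat.card_pos
  have hP : (0 : ℝ) < Nat.card K * Nat.card W :=
    mul_pos (by exact_mod_cast Nat.card_pos) (by exact_mod_cast Nat.card_pos)
  have hc := card_L_le hA hF hη
  rw [div_mul_eq_mul_div, div_le_div_iff₀ hL hP] at hle
  by_contra ht
  push Not at ht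
  nlinarith [mul_le_mul_of_nonneg_left hx
    (mul_nonneg (by linarith : (0 : ℝ) ≤ (Nat.card (sigmaCore L) : ℝ) - 1) hP.le)]

include hf hf'

theorem coeff_off {c : Lin W → Lin K → ℤ} (hc : ∀ a b, classInner β (η a b) = c a b)
    {a : Lin W} (ha : a ≠ 1) {b : Lin K} (hb : b ≠ 1) : c a b = 0 ∨ c a b = -1 := by
  classical
  haveI : Fintype K := Fintype.ofFinite _
  haveI : Fintype W := Fintype.ofFinite _
  by_contra hne
  push Not at hne
  have h0 := slack_ineq (h := h) (h' := h') hA hF hη hc (s := 1) (Or.inl rfl)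
    (fun e : a = 1 ∧ b = 1 => ha e.1)
  rw [if_neg ha, if_neg hb, partW_eq hη ha hb] at h0
  have hx : (2 : ℝ) ≤ (c a b : ℝ) ^ 2 + 1 * c a b := by
    have : (2 : ℤ) ≤ c a b ^ 2 + c a b := by
      rcases le_or_gt (c a b) (-2) with h2 | h2
      · nlinarith
      · have : 1 ≤ c a b := by omega
        nlinarith
    rw [one_mul]
    exact_mod_cast this
  have hu : (0 : ℝ) < h.u' := by have := h.u'_ge; exact_mod_cast (by omega : 0 < h.u')
  have hu' : (0 : ℝ) < h'.u' := by have := h'.u'_ge; exact_mod_cast (by omega : 0 < h'.u')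
  set q : ℝ := (Nat.card K : ℝ) with hq
  set p : ℝ := (Nat.card W : ℝ) with hp
  have hq0 : 0 < q := by rw [hq]; exact_mod_cast Nat.card_pos
  have hp0 : 0 < p := by rw [hp]; exact_mod_cast Nat.card_pos
  have e1 : ((h.u' : ℝ) - (2 * h.u' + 1) ^ 2 / (4 * (minCount h + 1))) / (h.u' * q) =
      (p - defect h) / (q * p) := by
    rw [defect, ← hp]; field_simp
  have e2 : ((h'.u' : ℝ) - (2 * h'.u' + 1) ^ 2 / (4 * (minCount h' + 1))) / (h'.u' * p) =
      (q - defect h') / (q * p) := by
    rw [defect, ← hq]; field_simp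
  rw [e1, e2] at h0
  have e3 : (p - defect h) / (q * p) + (q - defect h') / (q * p) + ((q - 1) * (p - 1) + 1) / (q * p)
      = 1 - (defect h + defect h' - 2) / (q * p) := by
    field_simp; ring
  have key := slack_arith hA hF hη hx (t := defect h + defect h' - 2) (by rw [← hq, ← hp]; linarith)
  linarith [hf.defect_le, hf'.defect_le]

theorem coeff_axis {c : Lin W → Lin K → ℤ} (hc : ∀ a b, classInner β (η a b) = c a b)
    {a : Lin W} (ha : a ≠ 1) : c a 1 = 0 ∨ c a 1 = 1 := by
  classical
  haveI : Fintype K := Fintype.ofFinite _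
  haveI : Fintype W := Fintype.ofFinite _
  by_contra hne
  push Not at hne
  have h0 := slack_ineq (h := h) (h' := h') hA hF hη hc (s := -1) (Or.inr rfl)
    (fun e : a = 1 ∧ (1 : Lin K) = 1 => ha e.1)
  rw [if_neg ha, if_pos rfl] at h0
  have hW : partW K W (η a 1) (-1) = ((Nat.card K : ℝ) - 1) * Nat.card W := by
    have hrow : ∀ x : K, x ≠ 1 → ∑ y : W, (if x ≠ 1 ∧ y ≠ 1 then
        ‖η a 1 ((x : G) * y)‖ ^ 2 + (-1) * (η a 1 ((x : G) * y)).re else 0) = (Nat.card W : ℝ) := by
      intro x hx
      have h1 : ∀ y : W, (if x ≠ 1 ∧ y ≠ 1 then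
          ‖η a 1 ((x : G) * y)‖ ^ 2 + (-1) * (η a 1 ((x : G) * y)).re else 0) =
          (if y ≠ 1 then (1 : ℝ) else 0) - (if y ≠ 1 then (a y : ℂ) else 0).re := fun y => by
        by_cases hy : y = 1
        · simp [hy]
        · rw [if_pos ⟨hx, hy⟩, if_pos hy, if_pos hy, hη.value a 1 x y hx hy, MonoidHom.one_apply,
            Units.val_one, mul_one, Complex.norm_eq_one_of_pow_eq_one (n := Nat.card W)
              (by rw [← Units.val_pow_eq_pow_val, ← map_pow, pow_card_eq_one', map_one,
                Units.val_one]) Nat.card_pos.ne']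
          ring
      rw [Finset.sum_congr rfl fun y _ => h1 y, Finset.sum_sub_distrib, ← Complex.re_sum,
        sum_ne_one a ha, Finset.sum_boole, Finset.filter_ne', Finset.card_erase_of_mem
        (Finset.mem_univ _), Finset.card_univ, Complex.neg_re, Complex.one_re,
        ← Nat.card_eq_fintype_card, Nat.cast_sub Nat.card_pos, Nat.cast_one]
      ring
    rw [partW, ← Finset.add_sum_erase _ _ (Finset.mem_univ (1 : K)),
      Finset.sum_eq_zero fun y _ => if_neg fun e => e.1 rfl, zero_add,
      Finset.sum_congr rfl fun x hx => hrow x (Finset.mem_erase.mp hx).1, Finset.sum_const,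
      Finset.card_erase_of_mem (Finset.mem_univ _), Finset.card_univ, nsmul_eq_mul,
      ← Nat.card_eq_fintype_card, Nat.cast_sub Nat.card_pos, Nat.cast_one]
  rw [hW] at h0
  have hx : (2 : ℝ) ≤ (c a 1 : ℝ) ^ 2 + (-1) * c a 1 := by
    have : (2 : ℤ) ≤ c a 1 ^ 2 - c a 1 := by
      rcases le_or_gt (c a 1) (-1) with h2 | h2
      · nlinarith
      · have : 2 ≤ c a 1 := by omega
        nlinarith
    rw [neg_one_mul, ← sub_eq_add_neg]
    exact_mod_cast this
  have hu : (0 : ℝ) < h.u' := by have := h.u'_ge; exact_mod_cast (by omega : 0 < h.u')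
  have hu7 : (7 : ℝ) ≤ h'.u' := by
    have := h'.u'_ge; have := h'.three_le_K; exact_mod_cast (by omega : 7 ≤ h'.u')
  have hmc : ((Nat.card K : ℝ) - 1) * h'.u' ≤ minCount h' := by
    obtain ⟨m, h1, hm⟩ := h'.mult
    have h2 : (Nat.card K - 1) * h'.u' ≤ minCount h' :=
      le_trans (le_of_eq (by ring)) (le_trans (Nat.mul_le_mul_right _
        (Nat.mul_le_mul_right (k := Nat.card K - 1) h1)) hm)
    rw [← Nat.cast_one, ← Nat.cast_sub Nat.card_pos]
    exact_mod_cast h2
  have hq3 : (3 : ℝ) ≤ Nat.card K := by exact_mod_cast h.three_le_K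
  set q : ℝ := (Nat.card K : ℝ) with hq
  set p : ℝ := (Nat.card W : ℝ) with hp
  set mc : ℝ := (minCount h' : ℝ) with hmc'
  have hq0 : 0 < q := by linarith
  have hp0 : 0 < p := by rw [hp]; exact_mod_cast Nat.card_pos
  have hmc0 : 0 < mc + 1 := by rw [hmc']; positivity
  have e1 : ((h.u' : ℝ) - (2 * h.u' + 1) ^ 2 / (4 * (minCount h + 1))) / (h.u' * q) =
      (p - defect h) / (q * p) := by
    rw [defect, ← hp]; field_simp
  have e2 : -(1 : ℝ) / (4 * (mc + 1)) / (h'.u' * p) =
      -(q / (4 * (mc + 1) * h'.u')) / (q * p) := by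
    field_simp
  rw [e1, e2] at h0
  have hsmall : q / (4 * (mc + 1) * h'.u') ≤ 1 / 100 := by
    rw [div_le_iff₀ (by nlinarith)]
    nlinarith [mul_le_mul_of_nonneg_right hmc (by linarith : (0 : ℝ) ≤ h'.u'),
      mul_le_mul hu7 hu7 (by norm_num) (by linarith : (0 : ℝ) ≤ h'.u')]
  have e3 : (p - defect h) / (q * p) + -(q / (4 * (mc + 1) * h'.u')) / (q * p) +
      ((q - 1) * p) / (q * p) = 1 - (defect h + q / (4 * (mc + 1) * h'.u')) / (q * p) := by
    field_simp; ring
  have key := slack_arith hA hF hη hx (t := defect h + q / (4 * (mc + 1) * h'.u'))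
    (by rw [← hq, ← hp]; linarith)
  linarith [hf.defect_le]

end

section

variable (hA : Away M K W M' L) (hF : LFam L β ψ I f w) (hη : IsGrid K W η)
  {ω : Lin W → Lin K → Lin (fittingOf M ⊔ K : Subgroup G)} (hω : IsOmega h ω)
include hA hF hη hω

theorem theta_tilde {a : Lin W} {g : G} (hg : g ∈ tilde L) : hω.theta a g = 0 :=
  hω.theta_vanish a (hA.a0 g hg)

theorem classInner_theta_beta (a : Lin W) : classInner (hω.theta a) β = 0 := by
  rw [classInner, Finset.sum_eq_zero fun g _ => ?_, mul_zero]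
  by_cases hg : g ∈ tilde L
  · rw [theta_tilde hA hF hη hω hg, zero_mul]
  · rw [hF.vanish g hg, map_zero, mul_zero]

/-- A vanishing coefficient on the axis makes the family small. -/
theorem sum_sq_le_of_zero {c : Lin W → Lin K → ℤ} (hc : ∀ a b, classInner β (η a b) = c a b)
    {a : Lin W} (ha : a ≠ 1) (h0 : c a 1 = 0) :
    Nat.card K * ∑ i ∈ I, w i ^ 2 ≤ h.u' - 1 := by
  classical
  obtain ⟨z, hz, rfl, -⟩ := hF.mem
  have hirr := hF.irr z hz
  set θ := hω.theta a with hθ
  obtain ⟨s, hs, hcs⟩ := hF.conj_sub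
  obtain ⟨k, hk⟩ := exists_int_classInner (hω.isGeneralized_theta a) (isGeneralized_of_isIrr hirr)
  have hz1 : classInner (f z) (fun _ => 1) = 0 := classInner_irr_ne hirr isIrrCharacter_one
    fun e => hF.conj_ne z hz (by rw [e]; funext g; simp [conjFun])
  -- parity
  have hodd : Odd k := by
    have hR' : conjFun (β + (s : ℂ) • f z) = β + (s : ℂ) • f z := by
      have e : conjFun (β + (s : ℂ) • f z) = conjFun β + (s : ℂ) • conjFun (f z) :=
        funext fun g => by simp [conjFun]
      rw [e]
      linear_combination (norm := module) hcs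
    have hd := parity hA.hG.1 (isGeneralized_add (hω.isGeneralized_theta a) (hη.isGeneralized a 1))
      (isGeneralized_add hF.gen (isGeneralized_intCast_smul (isGeneralized_of_isIrr hirr) s))
      (hω.conjFun_theta_sub hη ha) hR' (x := c a 1 + s * k) (a := 1) (b := 1) ?_ ?_ ?_
    · rw [h0, zero_add, one_mul] at hd
      rcases hs with rfl | rfl <;> rw [Int.odd_iff] <;> omega
    · rw [classInner_add_left, classInner_add_right, classInner_add_right, classInner_smul_right,
        classInner_smul_right, classInner_theta_beta hA hF hη hω, hk, family_orth hA hF hη h hz,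
        classInner_eta_beta hA hF hη hc, map_intCast]
      push_cast
      ring
    · rw [classInner_add_left, hω.classInner_theta_one ha, ← hη.one, hη.orth,
        if_neg fun e => ha e.1]
      norm_num
    · rw [classInner_add_left, classInner_smul_left, hF.one, hz1]
      norm_num
  -- another member of the family
  obtain ⟨d, hd⟩ := hη.exists_coeff (hω.isGeneralized_theta a)
  obtain ⟨i, j, hij, hdij⟩ : ∃ i j, ¬ (i = 1 ∧ j = 1) ∧ d i j ≠ 0 := by
    by_contra hall
    push Not at hall
    let e : Lin W → Lin K → ℤ := fun i j =>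
      (if i = 1 ∧ j = 1 then 1 else 0) - (if i = a ∧ j = 1 then 1 else 0)
    have hcl : IsClassFunction G (θ - (η 1 1 - η a 1)) := isClassFunction_of_isGeneralized
      (isGeneralized_sub (hω.isGeneralized_theta a)
        (isGeneralized_sub (hη.isGeneralized 1 1) (hη.isGeneralized a 1)))
    have hcoef : ∀ i j, classInner (θ - (η 1 1 - η a 1)) (η i j) = ((d i j - e i j : ℤ) : ℂ) :=
      fun i j => by
        rw [classInner_sub_left θ, classInner_sub_left (η 1 1), hd, hη.orth, hη.orth]
        simp only [e, Int.cast_sub, Int.cast_ite, Int.cast_one, Int.cast_zero, eq_comm (a := i),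
          eq_comm (a := j)]
    have hR := hη.rect_of_vanish hcl hcoef fun x y hx hy => by
      rw [hθ, Pi.sub_apply, Pi.sub_apply, hω.theta_apply_KW x y hx hy, hη.value 1 1 x y hx hy,
        hη.value a 1 x y hx hy]
      simp
    obtain ⟨b, -, hb, -, -⟩ := exists_two (X := Lin K) (by rw [hη.cardJ]; exact h.three_le_K) 1
    have := hR a 1 b 1
    simp only [e, ha, Ne.symm ha, hb, hall a b (fun e => absurd e ha), hall a 1 (fun e => absurd e ha),
      hall 1 b (fun _ => hb), and_false, false_and, and_self, if_false, if_true] at this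
    have h11 : d 1 1 = 1 := by
      refine Int.cast_injective (α := ℂ) ?_
      rw [← hd, hη.one, hω.classInner_theta_one ha, Int.cast_one]
    omega
  -- Bessel
  let v : Option (Option ι) → G → ℂ := fun o =>
    match o with
    | none => fun _ => 1
    | some none => η i j
    | some (some t) => f t
  have hfone : ∀ t ∈ I, classInner (f t) (fun _ => 1) = 0 := fun t ht =>
    classInner_irr_ne (hF.irr t ht) isIrrCharacter_one fun e =>
      hF.conj_ne t ht (by rw [e]; funext g; simp [conjFun])
  have hηone : classInner (η i j) (fun _ => 1) = 0 := by rw [← hη.one, hη.orth, if_neg hij]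
  have hsym : ∀ {A B : G → ℂ}, classInner A B = 0 → classInner B A = 0 := fun {A B} e => by
    rw [← classInner_conj_symm, e, map_zero]
  set S : Finset (Option (Option ι)) :=
    insert none (insert (some none) (I.image fun t => some (some t))) with hS
  have hb := bessel S (v := v) ?_ ?_ θ
  · rw [hS, Finset.sum_insert (by simp), Finset.sum_insert (by simp),
      Finset.sum_image (fun x _ y _ e => by simpa using e)] at hb
    simp only [v] at hb
    have hsum : ∑ t ∈ I, ‖classInner θ (f t)‖ ^ 2 = (∑ t ∈ I, (w t : ℝ) ^ 2) * (k : ℝ) ^ 2 := by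
      rw [Finset.sum_mul]
      refine Finset.sum_congr rfl fun t ht => ?_
      rw [hF.prop θ (fun g hg => theta_tilde hA hF hη hω hg) t ht, hk, Complex.norm_intCast,
        mul_pow, sq_abs]
    rw [hsum, hω.classInner_theta_one ha, hd i j, norm_one, Complex.norm_intCast, sq_abs] at hb
    have hk1 : (1 : ℝ) ≤ (k : ℝ) ^ 2 := by
      have : (1 : ℤ) ≤ k ^ 2 := by
        have h2 : k ≠ 0 := fun e => by simp [e] at hodd
        have := sq_pos_of_ne_zero h2
        omega
      exact_mod_cast this
    have hd1 : (1 : ℝ) ≤ (d i j : ℝ) ^ 2 := by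
      have : (1 : ℤ) ≤ (d i j) ^ 2 := by
        have := sq_pos_of_ne_zero hdij
        omega
      exact_mod_cast this
    have hsq : (0 : ℝ) ≤ ∑ t ∈ I, (w t : ℝ) ^ 2 := Finset.sum_nonneg fun t _ => sq_nonneg _
    have hn := congrArg Complex.re (hω.classInner_theta_self ha)
    rw [show ((Nat.card K : ℂ)) = ((Nat.card K : ℝ) : ℂ) by norm_cast, Complex.re_ofReal_mul] at hn
    simp only [Complex.sub_re, Complex.add_re, Complex.natCast_re, Complex.one_re, Complex.mul_re,
      Complex.re_ofNat, Complex.im_ofNat, Complex.natCast_im, Complex.ofReal_re, Complex.ofReal_im,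
      mul_zero, sub_zero] at hn
    have hq : (0 : ℝ) ≤ Nat.card K := Nat.cast_nonneg _
    have key : ((Nat.card K * ∑ t ∈ I, w t ^ 2 + 1 : ℕ) : ℝ) ≤ h.u' := by
      push_cast
      nlinarith [mul_le_mul_of_nonneg_left hb hq, mul_le_mul_of_nonneg_left hk1 hsq,
        mul_le_mul_of_nonneg_left hd1 hq]
    have := (Nat.cast_le (α := ℝ)).mp key
    omega
  · intro o ho
    simp only [hS, Finset.mem_insert, Finset.mem_image] at ho
    rcases ho with rfl | rfl | ⟨t, ht, rfl⟩
    · exact classInner_irr_self isIrrCharacter_one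
    · simp only [v]; rw [hη.orth, if_pos ⟨rfl, rfl⟩]
    · exact classInner_irr_self (hF.irr t ht)
  · intro o ho o' ho' hne
    simp only [hS, Finset.mem_insert, Finset.mem_image] at ho ho'
    rcases ho with rfl | rfl | ⟨t, ht, rfl⟩ <;> rcases ho' with rfl | rfl | ⟨t', ht', rfl⟩
    · exact absurd rfl hne
    · exact hsym hηone
    · exact hsym (hfone t' ht')
    · exact hηone
    · exact absurd rfl hne
    · exact family_orth hA hF hη h ht' i j
    · exact hfone t ht
    · exact hsym (family_orth hA hF hη h ht i j)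
    · exact classInner_irr_ne (hF.irr t ht) (hF.irr t' ht') fun e =>
        hne (by rw [hF.inj ht ht' e])

/-- If the coefficients on the axis are all one, the index is large. -/
theorem card_le_index {c : Lin W → Lin K → ℤ} (hc : ∀ a b, classInner β (η a b) = c a b)
    (h1 : ∀ a : Lin W, a ≠ 1 → c a 1 = 1) : Nat.card W ≤ (sigmaCore L).relIndex L := by
  classical
  obtain ⟨z, hz, rfl, -⟩ := hF.mem
  obtain ⟨z', hz', hz'e⟩ := hF.conj_mem
  obtain ⟨s, hs, hcs⟩ := hF.conj_sub
  obtain ⟨k, hk⟩ := exists_int_classInner hF.gen (isGeneralized_of_isIrr (hF.irr z hz))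
  obtain ⟨k', hk'⟩ := exists_int_classInner hF.gen (isGeneralized_of_isIrr (hF.irr z' hz'))
  have hzz : z' ≠ z := fun e => hF.conj_ne z hz (by rw [← hz'e, e])
  have hkk : k' = k + s := by
    refine Int.cast_injective (α := ℂ) ?_
    have e1 : classInner (conjFun β) (f z) = (k' : ℂ) := by
      have := classInner_conjFun β (f z')
      rw [hk', map_intCast, hz'e, Coherence.conjFun_conjFun] at this
      exact this
    have hcz : classInner (conjFun (f z)) (f z) = 0 :=
      classInner_irr_ne (isIrrCharacter_conj (hF.irr z hz)) (hF.irr z hz) (hF.conj_ne z hz)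
    have e2 := congrArg (fun θ => classInner θ (f z)) hcs
    simp only [classInner_sub_left, classInner_smul_left, e1, hk,
      classInner_irr_self (hF.irr z hz),
      hcz, sub_zero, mul_one] at e2
    push_cast
    linear_combination e2
  let v : Lin W ⊕ Bool → G → ℂ := fun o =>
    match o with
    | Sum.inl a => η a 1
    | Sum.inr b => if b then f z else f z'
  have hb := bessel (Finset.univ : Finset (Lin W ⊕ Bool)) (v := v) ?_ ?_ β
  · rw [Fintype.sum_sum_type, Fintype.sum_bool] at hb
    simp only [v, if_true, Bool.false_eq_true, if_false, hc, hk, hk', Complex.norm_intCast,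
      sq_abs] at hb
    rw [Finset.sum_congr rfl (g := fun _ => (1 : ℝ)) fun a _ => by
        rcases eq_or_ne a 1 with rfl | ha
        · rw [coeff_one hA hF hη hc]; simp
        · rw [h1 a ha]; simp,
      Finset.sum_const, Finset.card_univ, hη.cardI, nsmul_eq_mul, mul_one, hF.norm,
      Complex.natCast_re] at hb
    have hk1 : (1 : ℝ) ≤ (k : ℝ) ^ 2 + (k' : ℝ) ^ 2 := by
      have : (1 : ℤ) ≤ k ^ 2 + k' ^ 2 := by
        rw [hkk]; rcases hs with rfl | rfl <;>
          rcases lt_trichotomy k 0 with a | a | a <;> nlinarith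
      exact_mod_cast this
    have : ((Nat.card W : ℕ) : ℝ) ≤ ((sigmaCore L).relIndex L : ℕ) := by
      push_cast at hb ⊢; linarith
    exact_mod_cast this
  · rintro (a | b) -
    · simp only [v]; rw [hη.orth, if_pos ⟨rfl, rfl⟩]
    · cases b
      · exact classInner_irr_self (hF.irr z' hz')
      · exact classInner_irr_self (hF.irr z hz)
  · have hne : f z' ≠ f z := fun e => hzz (hF.inj hz' hz e)
    rintro (a | b) - (a' | b') - hne'
    · simp only [v]; rw [hη.orth, if_neg fun e => hne' (by rw [e.1])]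
    · cases b'
      · exact family_orth hA hF hη h hz' a 1
      · exact family_orth hA hF hη h hz a 1
    · cases b
      · show classInner (f z') (η a' 1) = 0
        rw [← classInner_conj_symm, family_orth hA hF hη h hz' a' 1, map_zero]
      · show classInner (f z) (η a' 1) = 0
        rw [← classInner_conj_symm, family_orth hA hF hη h hz a' 1, map_zero]
    · cases b <;> cases b'
      · exact absurd rfl hne'
      · exact classInner_irr_ne (hF.irr z' hz') (hF.irr z hz) hne
      · exact classInner_irr_ne (hF.irr z hz) (hF.irr z' hz') hne.symm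
      · exact absurd rfl hne'

end

/-- The two alternatives for the neighbour. -/
theorem coeff_cases (hf : IsFull h) (hf' : IsFull h') (hA : Away M K W M' L)
    (hF : LFam L β ψ I f w) (hη : IsGrid K W η) :
    Nat.card K * ∑ i ∈ I, w i ^ 2 ≤ h.u' - 1 ∨
      (Nat.card W ≤ (sigmaCore L).relIndex L ∧ Nat.card W * ∑ i ∈ I, w i ^ 2 ≤ h'.u' - 1) := by
  classical
  obtain ⟨c, hc⟩ := hη.exists_coeff hF.gen
  obtain ⟨ω, hω⟩ := exists_isOmega h
  by_cases hex : ∃ a : Lin W, a ≠ 1 ∧ c a 1 = 0
  · obtain ⟨a, ha, h0⟩ := hex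
    exact Or.inl (sum_sq_le_of_zero hA hF hη hω hc ha h0)
  push Not at hex
  have hone : ∀ a : Lin W, a ≠ 1 → c a 1 = 1 := fun a ha =>
    (coeff_axis hf hf' hA hF hη hc ha).resolve_left (hex a ha)
  refine Or.inr ⟨card_le_index hA hF hη hω hc hone, ?_⟩
  obtain ⟨a, -, ha, -, -⟩ := exists_two (X := Lin W) (by rw [hη.cardI]; exact h.three_le_W) 1
  obtain ⟨b, -, hb, -, -⟩ := exists_two (X := Lin K) (by rw [hη.cardJ]; exact h.three_le_K) 1
  obtain ⟨ω', hω'⟩ := exists_isOmega h'
  refine sum_sq_le_of_zero hA.symm hF hη.transpose hω' (c := fun b a => c a b)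
    (fun b a => hc a b) hb ?_
  have h1 := coeff_axis hf' hf hA.symm hF hη.transpose (c := fun b a => c a b)
    (fun b a => hc a b) hb
  have h2 := coeff_off hf hf' hA hF hη hc ha hb
  have h3 := coeff_rect hA hF hη h hc a b
  have h4 := hone a ha
  omega

end CfsgLib.Peterfalvi.Pair
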