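import Cfsg.Agent.Lib.Peterfalvi.Pair.TypeV.Large
import Cfsg.Agent.Lib.Peterfalvi.Pair.CaseII
import Cfsg.Agent.Lib.Peterfalvi.Pair.CaseIII
import Cfsg.Agent.Lib.Peterfalvi.ExistsTypeP
import Cfsg.Agent.Lib.OddLocal.FittingChain

/-!
There is no minimal simple group of odd order (the odd order theorem, Peterfalvi 14).
-/

set_option autoImplicit false
set_option linter.style.haveILetI false
set_option linter.unusedSectionVars false

namespace CfsgLib.Peterfalvi.Pair

open Cfsg

universe u

variable {G : Type u} [Group G] [Finite G]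

/-- A maximal subgroup with `κ` nonempty and `U ≠ ⊥` has no partner. -/
theorem false_of_partner (hG : IsMinSimpleOddOrder G) {M K U Ms Es Us : Subgroup G} (hM : IsCoatom M)
    (hKU : IsSigmaDecomposition M K U) (hK1 : K ≠ ⊥) (hU : U ≠ ⊥)
    (hp : OddLocal.Partner M K (U ⊔ K) U Ms Es Us) : False := by
  haveI : Fintype G := Fintype.ofFinite G
  set W := sigmaCore M ⊓ Subgroup.centralizer (K : Set G) with hWdef
  have hW1 : W ≠ ⊥ := hp.data.fixed_ne
  have hMs : IsCoatom Ms := hp.pdata.hM
  have hdW : IsSigmaDecomposition Ms W Us :=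
    TypeV.sigmaDecomposition_of hp.pdata hp.cyclic_star
  rcases OddLocal.type_cases hG hMs hdW hW1 with ⟨hUs, -⟩ | ⟨hUs, hF, -⟩ | ⟨hUs, hF, -⟩
  · -- type II on both sides
    have hWp : (Nat.card W).Prime := hp.symm.prime_K hUs
    have hKp : (Nat.card K).Prime := hp.prime_K hU
    have h : Side M K U W := side_of_typeII hG hM hKU hK1 hU hWp
    have h' : Side Ms W Us K := by
      have h2 := side_of_typeII hG hMs hdW hW1 hUs (by rw [hWdef, hp.dual]; exact hKp)
      rwa [hWdef, hp.dual, ← hWdef] at h2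
    have hf := isFull_of_pair h h'
    have hf' := isFull_of_pair h' h
    obtain ⟨L, n⟩ := exists_nbr hf hf' hKU hWdef hp.dual.symm hp.pdata.hall
    obtain ⟨L', n'⟩ := exists_nbr hf' hf hdW hp.dual.symm hWdef hKU.hall
    rcases lt_trichotomy (Nat.card K) (Nat.card W) with hlt | heq | hlt
    · exact false_of_both_nbr hf hf' n n' hlt
    · exact h.prime_ne heq
    · exact false_of_both_nbr hf' hf n' n hlt
  · -- type III or IV
    obtain ⟨-, -, hWp, -⟩ := Cfsg.Agent.S1437.result hG Ms hMs W Us hdW hF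
    have h : Side M K U W := side_of_typeII hG hM hKU hK1 hU hWp
    obtain ⟨V, h'⟩ := side_of_typeIII_IV hG hMs hdW hW1 hF
    rw [hWdef, hp.dual, ← hWdef] at h'
    have hf := isFull_of_pair h h'
    have hf' := isFull_of_pair h' h
    obtain ⟨L, n⟩ := exists_nbr hf hf' hKU hWdef hp.dual.symm hp.pdata.hall
    exact false_of_nbr_typeIII hf hf' n (OddLocal.derived_eq_core hG hMs hdW hW1 hUs).symm
  · -- type V
    subst hUs
    obtain ⟨S, U', K', hTV⟩ := TypeV.exists_tv hG hMs hdW hW1 hF
    exact hTV.contradiction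

end CfsgLib.Peterfalvi.Pair

namespace CfsgLib.Peterfalvi

open Cfsg

universe u

/-- No minimal simple group of odd order exists. -/
theorem not_isMinSimpleOddOrder {G : Type u} [Group G] [Finite G] (hG : IsMinSimpleOddOrder G) :
    False := by
  obtain ⟨M, hM, p, hp⟩ := exists_kappa_nonempty hG
  obtain ⟨K, U, hKU⟩ := OddLocal.exists_sigmaDecomposition hG hM
  have hK1 : K ≠ ⊥ := by
    rintro rfl
    exact OddLocal.kappa_empty_of_bot hG hM hKU p hp
  obtain ⟨Ms, Es, Us, hpar⟩ := OddLocal.exists_kappa_partner hG hM hKU hK1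
  by_cases hU : U = ⊥
  · have hUs : Us ≠ ⊥ := hpar.nonP1.resolve_left fun h => h hU
    have hd := Pair.TypeV.sigmaDecomposition_of hpar.pdata hpar.cyclic_star
    obtain ⟨Ms', Es', Us', hpar'⟩ := OddLocal.exists_kappa_partner hG hpar.pdata.hM hd hpar.data.fixed_ne
    exact Pair.false_of_partner hG hpar.pdata.hM hd hpar.data.fixed_ne hUs hpar'
  · exact Pair.false_of_partner hG hM hKU hK1 hU hpar

end CfsgLib.Peterfalvi
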