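import Cfsg.Agent.Lib.Char.CMValue
import Cfsg.Agent.Lib.Char.Galois
import Cfsg.Agent.Lib.Char.Virtual

/-!
Virtual characters on sets closed under the powers prime to the group order: the squared norm sum
dominates the plain sum.
-/

set_option autoImplicit false
set_option linter.unusedSectionVars false

namespace CfsgLib.Peterfalvi.Pair

open Cfsg CfsgLib.Char
open scoped ComplexConjugate

variable {G : Type*} [Group G] [Fintype G] {f : G → ℂ}

/-- A set of elements closed under the powers prime to the group order. -/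
def PowClosed (S : Set G) : Prop :=
  ∀ g ∈ S, ∀ k : ℕ, k.Coprime (Nat.card G) → g ^ k ∈ S

theorem pow_injective {k : ℕ} (hk : k.Coprime (Nat.card G)) :
    Function.Injective fun g : G => g ^ k :=
  (powCoprime (G := G) hk.symm).injective

theorem PowClosed.mem_iff {S : Set G} (hS : PowClosed S) {k : ℕ} (hk : k.Coprime (Nat.card G))
    {g : G} : g ^ k ∈ S ↔ g ∈ S := by
  classical
  refine ⟨fun h => ?_, fun h => hS g h k hk⟩
  have hb : Set.BijOn (fun g : G => g ^ k) S S :=
    (Set.toFinite S).injOn_iff_bijOn_of_mapsTo (fun x hx => hS x hx k hk) |>.mp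
      ((pow_injective hk).injOn)
  obtain ⟨y, hy, hye⟩ := hb.surjOn h
  exact pow_injective hk hye ▸ hy

theorem PowClosed.compl {S : Set G} (hS : PowClosed S) : PowClosed Sᶜ :=
  fun _ hg _ hk h => hg ((hS.mem_iff hk).mp h)

theorem PowClosed.union {S T : Set G} (hS : PowClosed S) (hT : PowClosed T) :
    PowClosed (S ∪ T) := fun g hg k hk => hg.imp (hS g · k hk) (hT g · k hk)

theorem PowClosed.diff {S T : Set G} (hS : PowClosed S) (hT : PowClosed T) :
    PowClosed (S \ T) := fun g hg k hk => ⟨hS g hg.1 k hk, hT.compl g hg.2 k hk⟩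

/-- The subgroup conjugates form a closed set. -/
theorem powClosed_conj_subgroup (H : Subgroup G) :
    PowClosed {g : G | g ≠ 1 ∧ ∃ y : G, y * g * y⁻¹ ∈ H} := by
  rintro g ⟨hg, y, hy⟩ k hk
  refine ⟨fun h => hg (pow_injective hk (by simpa using h)), y, ?_⟩
  rw [← conj_pow]
  exact H.pow_mem hy k

theorem conjInv_of_isGeneralized (hf : IsGeneralizedCharacter G f) (g : G) :
    f g⁻¹ = conj (f g) := by
  obtain ⟨χ, ψ, hχ, hψ, rfl⟩ := hf
  simp [value_inv_eq_conj hχ, value_inv_eq_conj hψ]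

theorem exists_value_of_isGeneralized (hf : IsGeneralizedCharacter G f) :
    ∃ v : G → QBar, (∀ g, (v g : ℂ) = f g) ∧ (∀ g, IsIntegral ℤ (f g)) ∧
      ∀ ψ : QBar →ₐ[ℚ] ℂ, ∃ k : ℕ, k.Coprime (Nat.card G) ∧ ∀ g, ψ (v g) = f (g ^ k) := by
  obtain ⟨χ, χ', hχ, hχ', rfl⟩ := hf
  refine ⟨fun g => value hχ g - value hχ' g, fun g => by simp,
    fun g => (isIntegral_value hχ g).sub (isIntegral_value hχ' g), fun ψ => ?_⟩
  obtain ⟨k, hk, hψ⟩ := exists_galois_exponent G ψ
  exact ⟨k, hk, fun g => by rw [map_sub, hψ hχ, hψ hχ']; rfl⟩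

open scoped Classical in
/-- On a closed set the number of non-zeros is at most the sum of squared absolute values. -/
theorem card_ne_zero_le (hf : IsGeneralizedCharacter G f) {S : Set G} (hS : PowClosed S) :
    ((S.toFinset.filter fun g => f g ≠ 0).card : ℝ) ≤ ∑ g ∈ S.toFinset, ‖f g‖ ^ 2 := by
  obtain ⟨v, hv, hint, hgal⟩ := exists_value_of_isGeneralized hf
  set s := S.toFinset.filter fun g => f g ≠ 0 with hs
  have hmem : ∀ g, ((v g * v g⁻¹ : QBar) : ℂ) = f g * f g⁻¹ := fun g => by simp [hv]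
  obtain ⟨ψ, hψ⟩ := exists_card_le_sum_embedding s (fun g => v g * v g⁻¹)
    (fun g _ => by rw [hmem]; exact (hint g).mul (hint g⁻¹))
    (fun g hg e => by
      have h := congrArg (Subtype.val : QBar → ℂ) e
      rw [hmem, conjInv_of_isGeneralized hf, ZeroMemClass.coe_zero, Complex.mul_conj,
        Complex.ofReal_eq_zero, Complex.normSq_eq_zero] at h
      exact (Finset.mem_filter.mp hg).2 h)
    (fun g _ ψ => by
      obtain ⟨k, -, hk⟩ := hgal ψ
      exact ⟨Complex.normSq (f (g ^ k)), Complex.normSq_nonneg _, by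
        rw [map_mul, hk, hk, inv_pow, conjInv_of_isGeneralized hf, Complex.mul_conj]⟩)
  obtain ⟨k, hk, hψk⟩ := hgal ψ
  refine hψ.trans ?_
  have hval : ∀ g, (ψ (v g * v g⁻¹)).re = ‖f (g ^ k)‖ ^ 2 := fun g => by
    rw [map_mul, hψk, hψk, inv_pow, conjInv_of_isGeneralized hf, Complex.mul_conj,
      Complex.ofReal_re, Complex.normSq_eq_norm_sq]
  simp only [hval]
  refine (Finset.sum_image (f := fun x => ‖f x‖ ^ 2) ((pow_injective hk).injOn)).ge.trans ?_
  refine Finset.sum_le_sum_of_subset_of_nonneg ?_ (fun x _ _ => sq_nonneg _)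
  intro x hx
  obtain ⟨g, hg, rfl⟩ := Finset.mem_image.mp hx
  exact Set.mem_toFinset.mpr (hS g (Set.mem_toFinset.mp (Finset.mem_filter.mp hg).1) k hk)

open scoped Classical in
/-- On a closed set the absolute value of the sum is at most the sum of squares. -/
theorem norm_sum_le_sum_sq (hf : IsGeneralizedCharacter G f) {S : Set G} (hS : PowClosed S) :
    ‖∑ g ∈ S.toFinset, f g‖ ≤ ∑ g ∈ S.toFinset, ‖f g‖ ^ 2 := by
  refine (norm_sum_le _ _).trans ?_
  have h := card_ne_zero_le hf hS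
  have hpt : ∀ g ∈ S.toFinset, ‖f g‖ ≤ (‖f g‖ ^ 2 + if f g ≠ 0 then 1 else 0) / 2 := by
    intro g _
    by_cases h0 : f g = 0
    · simp [h0]
    · rw [if_pos h0]; nlinarith [sq_nonneg (‖f g‖ - 1)]
  refine (Finset.sum_le_sum hpt).trans ?_
  rw [← Finset.sum_div, Finset.sum_add_distrib, Finset.sum_boole]
  linarith

open scoped Classical in
theorem sum_sq_add_re_nonneg (hf : IsGeneralizedCharacter G f) {S : Set G} (hS : PowClosed S) :
    0 ≤ ∑ g ∈ S.toFinset, ‖f g‖ ^ 2 + (∑ g ∈ S.toFinset, f g).re ∧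
      0 ≤ ∑ g ∈ S.toFinset, ‖f g‖ ^ 2 - (∑ g ∈ S.toFinset, f g).re := by
  have h := (Complex.abs_re_le_norm _).trans (norm_sum_le_sum_sq hf hS)
  rw [abs_le] at h
  exact ⟨by linarith, by linarith⟩

end CfsgLib.Peterfalvi.Pair
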