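import Cfsg.Agent.Lib.Char.TI
import Cfsg.Agent.Lib.Char.Orth

/-!
Sums over the conjugates of a TI set and a bound from below for the norm of a restriction.
-/

set_option autoImplicit false
set_option linter.style.haveILetI false
set_option linter.unusedSectionVars false

namespace CfsgLib.Peterfalvi.Pair

open Cfsg CfsgLib.Char
open scoped ComplexConjugate CfsgLib.Char

universe u

variable {G : Type u} [Group G] [Fintype G]

/-- The elements conjugate into a set. -/
def conjSet (T : Set G) : Set G := {g | ∃ y : G, y * g * y⁻¹ ∈ T}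

theorem conj_mem_conjSet {T : Set G} (g z : G) : z * g * z⁻¹ ∈ conjSet T ↔ g ∈ conjSet T := by
  constructor
  · rintro ⟨y, hy⟩
    exact ⟨y * z, by simpa [mul_assoc] using hy⟩
  · rintro ⟨y, hy⟩
    exact ⟨y * z⁻¹, by simpa [mul_assoc] using hy⟩

open _root_.Classical in
/-- The sum of a class function over the conjugates of a TI set. -/
theorem card_mul_sum_conjSet (H : Subgroup G) [Fintype H] {T : Set G} (hTH : T ⊆ (H : Set G))
    (h1 : (1 : G) ∉ T) (hTI : ∀ g : G, g ∉ H → ∀ t ∈ T, g * t * g⁻¹ ∈ T → t = 1)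
    (hconj : ∀ m ∈ H, ∀ t ∈ T, m * t * m⁻¹ ∈ T) {F : G → ℂ} (hF : IsClassFunction G F) :
    (Nat.card H : ℂ) * ∑ g ∈ (conjSet T).toFinset, F g =
      (Nat.card G : ℂ) * ∑ x : H, if (x : G) ∈ T then F x else 0 := by
  set ψ : H → ℂ := fun x => if (x : G) ∈ T then F x else 0 with hψdef
  have hψ : IsClassFunction H ψ := by
    intro x y
    have hiff : ((y * x * y⁻¹ : H) : G) ∈ T ↔ (x : G) ∈ T := by
      refine ⟨fun h => ?_, fun h => hconj y y.2 x h⟩
      have := hconj (y : G)⁻¹ (inv_mem y.2) _ h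
      simpa [mul_assoc] using this
    simp only [hψdef]
    exact if_congr hiff (by push_cast; exact hF x y) rfl
  have hval : ∀ g, indFun H ψ g = if g ∈ conjSet T then F g else 0 := by
    intro g
    split_ifs with hg
    · obtain ⟨y, hy⟩ := hg
      have hmem := hTH hy
      have := indFun_eq_of_ti H T hTI ψ hψ (fun x hx => if_neg hx) ⟨_, hmem⟩ hy
        (fun e => h1 (by have := congrArg Subtype.val e; simp only [Subgroup.coe_one] at this; exact this ▸ hy))
      rw [← isClassFunction_indFun H ψ g y, ← hF g y, this]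
      exact if_pos hy
    · simp only [indFun]
      rw [Finset.sum_eq_zero fun z _ => ?_, mul_zero]
      by_cases hz : z⁻¹ * g * z ∈ H
      · rw [extendByZero_mem _ _ hz]
        exact if_neg fun hT => hg ⟨z⁻¹, by simpa using hT⟩
      · exact extendByZero_notMem _ _ hz
  have h := frobenius_reciprocity H ψ (χ := fun _ => (1 : ℂ)) (fun _ _ => rfl)
  simp only [classInner, map_one, mul_one] at h
  rw [Finset.sum_congr rfl fun g _ => hval g, ← Finset.sum_filter] at h
  have hfilter : (Finset.univ.filter fun g => g ∈ conjSet T) = (conjSet T).toFinset := by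
    ext g; simp
  rw [hfilter] at h
  have hH : (Nat.card H : ℂ) ≠ 0 := Nat.cast_ne_zero.mpr Nat.card_pos.ne'
  have hG : (Nat.card G : ℂ) ≠ 0 := Nat.cast_ne_zero.mpr Nat.card_pos.ne'
  field_simp at h
  linear_combination h

theorem card_mul_sum_conjSet_real (H : Subgroup G) [Fintype H] {T : Set G}
    [Fintype (conjSet T)] [DecidablePred (· ∈ T)] (hTH : T ⊆ (H : Set G))
    (h1 : (1 : G) ∉ T) (hTI : ∀ g : G, g ∉ H → ∀ t ∈ T, g * t * g⁻¹ ∈ T → t = 1)
    (hconj : ∀ m ∈ H, ∀ t ∈ T, m * t * m⁻¹ ∈ T) {F : G → ℝ}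
    (hF : ∀ g z : G, F (z * g * z⁻¹) = F g) :
    (Nat.card H : ℝ) * ∑ g ∈ (conjSet T).toFinset, F g =
      (Nat.card G : ℝ) * ∑ x : H, if (x : G) ∈ T then F x else 0 := by
  classical
  have h := card_mul_sum_conjSet H hTH h1 hTI hconj (F := fun g => (F g : ℂ))
    (fun g z => by simp [hF g z])
  rw [← Complex.ofReal_inj]
  push_cast
  convert h using 3
  · congr!
  · rw [apply_ite Complex.ofReal, Complex.ofReal_zero]
    congr!

open _root_.Classical in
/-- The values of a class function of `G` on a subgroup against some of its linear characters. -/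
theorem sum_sq_restrict_ge {H : Subgroup G} [Fintype H] {θ : G → ℂ} (S : Finset (H →* ℂˣ))
    (hS : 1 ∉ S) {g : (H →* ℂˣ) → ℤ}
    (hg : ∀ χ ∈ insert 1 S, classInner (fun x : H => θ x) (fun x => (χ x : ℂ)) = g χ) {d : ℤ}
    (hd : θ 1 = d) (s : ℝ) :
    (Nat.card H : ℝ) * ((∑ χ ∈ S, ((g χ : ℝ) - d / Nat.card H) ^ 2) +
        ((g 1 : ℝ) - d / Nat.card H) ^ 2 + s * ((g 1 : ℝ) - d / Nat.card H)) ≤
      ∑ x : H, if (x : G) ≠ 1 then ‖θ x‖ ^ 2 + s * (θ x).re else 0 := by
  set φ : H → ℂ := fun x => if x = 1 then 0 else θ x with hφ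
  set n : ℝ := ((Nat.card H : ℕ) : ℝ) with hn
  have hn0 : (0 : ℝ) < n := by rw [hn]; exact_mod_cast Nat.card_pos
  set c : (H →* ℂˣ) → ℝ := fun χ => (g χ : ℝ) - d / n with hc
  have hcoef : ∀ χ ∈ insert 1 S, classInner φ (fun x => (χ x : ℂ)) = (c χ : ℂ) := by
    intro χ hχ
    have h1 : classInner (fun x : H => θ x - φ x) (fun x => (χ x : ℂ)) = (d : ℂ) / (n : ℂ) := by
      simp only [classInner]
      rw [Fintype.sum_eq_single 1 fun x hx => by simp [hφ, hx]]
      simp [hφ, hd, hn, div_eq_inv_mul]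
    have h2 : classInner φ (fun x => (χ x : ℂ)) =
        classInner (fun x : H => θ x) (fun x => (χ x : ℂ)) - (d : ℂ) / (n : ℂ) := by
      rw [← h1, ← classInner_sub_left]
      congr 1
      funext x; simp
    rw [h2, hg χ hχ, hc]; push_cast; ring
  set T := insert (1 : H →* ℂˣ) S
  set ψ : H → ℂ := ∑ χ ∈ T, (c χ : ℂ) • fun x => (χ x : ℂ) with hψ
  have hlin : ∀ χ : H →* ℂˣ, ∀ χ' : H →* ℂˣ,
      classInner (fun x => (χ x : ℂ)) (fun x => (χ' x : ℂ)) = if χ = χ' then 1 else 0 := by
    intro χ χ'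
    rw [classInner_irr (isIrrCharacter_monoidHom χ) (isIrrCharacter_monoidHom χ')]
    exact if_congr ⟨fun e => MonoidHom.ext fun x => Units.ext (congrFun e x), fun e => by rw [e]⟩
      rfl rfl
  have hφψ : classInner φ ψ = ((∑ χ ∈ T, c χ ^ 2 : ℝ) : ℂ) := by
    rw [hψ, classInner_sum_right]
    push_cast
    refine Finset.sum_congr rfl fun χ hχ => ?_
    rw [classInner_smul_right, hcoef χ hχ, Complex.conj_ofReal, sq]
  have hψψ : classInner ψ ψ = ((∑ χ ∈ T, c χ ^ 2 : ℝ) : ℂ) := by
    rw [hψ, classInner_sum_left]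
    push_cast
    refine Finset.sum_congr rfl fun χ hχ => ?_
    rw [classInner_smul_left, classInner_sum_right, Finset.sum_eq_single_of_mem χ hχ fun χ' _ hne => by
      rw [classInner_smul_right, hlin, if_neg hne.symm, mul_zero]]
    rw [classInner_smul_right, hlin, if_pos rfl, Complex.conj_ofReal, mul_one, sq]
  have hge : (∑ χ ∈ T, c χ ^ 2 : ℝ) ≤ (classInner φ φ).re := by
    have h := classInner_self_re_nonneg (φ - ψ)
    rw [classInner_sub_left, classInner_sub_right, classInner_sub_right,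
      ← classInner_conj_symm φ ψ, hφψ, hψψ, Complex.conj_ofReal] at h
    simp only [Complex.sub_re, Complex.ofReal_re] at h
    linarith
  rw [Finset.sum_insert hS] at hge
  have hone : ∑ x : H, (φ x).re = n * c 1 := by
    have h := congrArg Complex.re (hcoef 1 (Finset.mem_insert_self _ _))
    simp only [classInner, MonoidHom.one_apply, Units.val_one, map_one, mul_one,
      Complex.ofReal_re] at h
    rw [← Complex.ofReal_natCast, ← Complex.ofReal_inv, Complex.re_ofReal_mul, Complex.re_sum,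
      ← hn] at h
    rw [← h]; field_simp
  have hsq : (classInner φ φ).re = n⁻¹ * ∑ x : H, ‖φ x‖ ^ 2 := by
    simp only [classInner, Complex.mul_conj']
    rw [← Complex.ofReal_natCast, ← Complex.ofReal_inv, Complex.re_ofReal_mul, Complex.re_sum,
      ← hn]
    congr 1
    exact Finset.sum_congr rfl fun x _ => by rw [← Complex.ofReal_pow, Complex.ofReal_re]
  rw [hsq, inv_mul_eq_div, le_div_iff₀ hn0] at hge
  have hsum : ∑ x : H, (if (x : G) ≠ 1 then ‖θ x‖ ^ 2 + s * (θ x).re else 0) =
      ∑ x : H, ‖φ x‖ ^ 2 + s * ∑ x : H, (φ x).re := by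
    rw [Finset.mul_sum, ← Finset.sum_add_distrib]
    refine Finset.sum_congr rfl fun x _ => ?_
    by_cases hx : x = 1
    · simp [hφ, hx]
    · have hx' : (x : G) ≠ 1 := fun e => hx (Subtype.ext e)
      simp [hφ, hx, hx']
  rw [hsum, hone]
  simp only [hc] at hge ⊢
  nlinarith

end CfsgLib.Peterfalvi.Pair
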