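import Cfsg.Agent.Lib.Peterfalvi.Pair.PairDisjoint
import Cfsg.Agent.Lib.Peterfalvi.Pair.GaloisClosed
import Cfsg.Agent.Lib.Peterfalvi.Pair.TISum

/-!
The norm of a virtual character split over the two Fitting subgroups and the cyclic TI set.
-/

set_option autoImplicit false
set_option linter.style.haveILetI false
set_option linter.unusedSectionVars false

namespace CfsgLib.Peterfalvi.Pair

open Cfsg CfsgLib.Char
open CfsgLib.BG.FixedLine (conj_mem_of_le_normalizer)
open scoped ComplexConjugate CfsgLib.Char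

universe u

variable {G : Type u} [Group G] [Fintype G]

/-- The weight of the restriction to the nontrivial elements of a subgroup. -/
noncomputable def part (H : Subgroup G) [Fintype H] (θ : G → ℂ) (s : ℝ) : ℝ :=
  open _root_.Classical in
  ∑ x : H, if (x : G) ≠ 1 then ‖θ x‖ ^ 2 + s * (θ x).re else 0

/-- The weight of the restriction to the cyclic TI set. -/
noncomputable def partW (K W : Subgroup G) [Fintype K] [Fintype W] (θ : G → ℂ) (s : ℝ) : ℝ :=
  open _root_.Classical in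
  ∑ x : K, ∑ y : W, if x ≠ 1 ∧ y ≠ 1 then ‖θ ((x : G) * y)‖ ^ 2 + s * (θ ((x : G) * y)).re else 0

/-- The nontrivial elements conjugate into a subgroup. -/
def conjSharp (H : Subgroup G) : Set G := conjSet {g | g ∈ H ∧ g ≠ 1}

theorem powClosed_conjSharp (H : Subgroup G) : PowClosed (conjSharp H) := by
  rintro g ⟨y, hy, hy1⟩ k hk
  refine ⟨y, ?_, ?_⟩ <;> rw [← conj_pow]
  · exact H.pow_mem hy k
  · exact fun e => hy1 (pow_injective hk (by simpa using e))

theorem one_notMem_conjSharp (H : Subgroup G) : (1 : G) ∉ conjSharp H := by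
  rintro ⟨y, -, hy⟩
  exact hy (by group)

theorem powClosed_conjTI {K W : Subgroup G} (hd : K ⊓ W = ⊥)
    (hc : ∀ a ∈ K, ∀ b ∈ W, a * b = b * a) : PowClosed (conjSet (CyclicTI.tiPart K W)) := by
  rintro g ⟨y, hy⟩ k hk
  refine ⟨y, ?_⟩
  rw [← conj_pow]
  obtain ⟨hm, hn⟩ := hy
  rw [Subgroup.coe_mul_of_right_le_normalizer_left _ _
    (fun b hb => CfsgLib.BG.FixedLine.mem_normalizer_of_conj fun a ha => by
      rwa [← hc a ha b hb, mul_inv_cancel_right]), Set.mem_mul] at hm
  obtain ⟨a, ha, b, hb, e⟩ := hm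
  rw [← e, (show Commute a b from hc a ha b hb).mul_pow]
  refine CyclicTI.mul_mem_tiPart hd (K.pow_mem ha k) (fun h => hn (Or.inr ?_)) (W.pow_mem hb k)
    (fun h => hn (Or.inl ?_))
  · rw [← e, pow_injective hk (show a ^ k = (1 : G) ^ k by rw [h, one_pow]), one_mul]; exact hb
  · rw [← e, pow_injective hk (show b ^ k = (1 : G) ^ k by rw [h, one_pow]), mul_one]; exact ha

variable {M K U W M' V : Subgroup G}

/-- An element conjugate into the TI part is not conjugate into a subgroup of order prime to that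
of one of the factors. -/
theorem not_mem_both {H K W : Subgroup G} (hK : (Nat.card K).Prime)
    (hcop : (Nat.card H).Coprime (Nat.card K)) (hcopKW : (Nat.card K).Coprime (Nat.card W))
    (hc : ∀ a ∈ K, ∀ b ∈ W, a * b = b * a) {g : G} (h1 : g ∈ conjSharp H)
    (h2 : g ∈ conjSet (CyclicTI.tiPart K W)) : False := by
  obtain ⟨y, hy, -⟩ := h1
  obtain ⟨z, hm, hn⟩ := h2
  rw [Subgroup.coe_mul_of_right_le_normalizer_left _ _
    (fun b hb => CfsgLib.BG.FixedLine.mem_normalizer_of_conj fun a ha => by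
      rwa [← hc a ha b hb, mul_inv_cancel_right]), Set.mem_mul] at hm
  obtain ⟨a, ha, b, hb, e⟩ := hm
  have ha1 : a ≠ 1 := fun h => hn (Or.inr (by rw [← e, h, one_mul]; exact hb))
  have ho : ∀ t : G, orderOf (t * g * t⁻¹) = orderOf g := fun t =>
    orderOf_injective (MulAut.conj t).toMonoidHom (MulAut.conj t).injective g
  have h3 : Nat.card K ∣ orderOf g := by
    rw [← ho z, ← e, (show Commute a b from hc a ha b hb).orderOf_mul_eq_mul_orderOf_of_coprime
      ((hcopKW.coprime_dvd_left (Subgroup.orderOf_dvd_natCard _ ha)).coprime_dvd_right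
        (Subgroup.orderOf_dvd_natCard _ hb)),
      ((Nat.dvd_prime hK).mp (Subgroup.orderOf_dvd_natCard _ ha)).resolve_left
        fun e' => ha1 (orderOf_eq_one_iff.mp e')]
    exact dvd_mul_right _ _
  exact Nat.not_coprime_of_dvd_of_dvd hK.one_lt
    (h3.trans (ho y ▸ Subgroup.orderOf_dvd_natCard _ hy)) dvd_rfl hcop

theorem sum_subgroup_eq {X M : Subgroup G} [Fintype X] [Fintype M] (hle : X ≤ M) (F : G → ℝ)
    [DecidablePred (· ∈ {g : G | g ∈ X ∧ g ≠ 1})] [DecidableEq G] :
    (∑ x : M, if (x : G) ∈ {g : G | g ∈ X ∧ g ≠ 1} then F x else 0) =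
      ∑ x : X, if (x : G) ≠ 1 then F x else 0 := by
  classical
  rw [← Finset.sum_filter, ← Finset.sum_filter]
  refine (Finset.sum_nbij (fun x : X => (⟨x, hle x.2⟩ : M)) (fun x hx => ?_) (fun x _ y _ e => ?_)
    (fun x hx => ?_) (fun x _ => rfl)).symm
  · simpa using hx
  · exact Subtype.ext (congrArg (fun t : M => (t : G)) e)
  · simp only [Finset.coe_filter, Finset.mem_univ, true_and, Set.mem_setOf_eq] at hx
    exact ⟨⟨x, hx.1⟩, by simpa using hx.2, rfl⟩

theorem sum_tiPart_eq {K W : Subgroup G} [Fintype K] [Fintype W] [Fintype ↥(K ⊔ W)]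
    (hd : K ⊓ W = ⊥) (hc : ∀ a ∈ K, ∀ b ∈ W, a * b = b * a) (F : G → ℝ)
    [DecidablePred (· ∈ CyclicTI.tiPart K W)] [DecidableEq K] [DecidableEq W] :
    (∑ x : ↥(K ⊔ W), if (x : G) ∈ CyclicTI.tiPart K W then F x else 0) =
      ∑ x : K, ∑ y : W, if x ≠ 1 ∧ y ≠ 1 then F ((x : G) * y) else 0 := by
  classical
  rw [← Fintype.sum_prod_type' (fun (x : K) (y : W) => if x ≠ 1 ∧ y ≠ 1 then F ((x : G) * y) else 0)]
  let f : K × W → ↥(K ⊔ W) := fun p => ⟨(p.1 : G) * p.2, Subgroup.mul_mem_sup p.1.2 p.2.2⟩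
  have hf : Function.Bijective f := by
    refine ⟨fun p q e => ?_, fun t => ?_⟩
    · have e' : (p.1 : G) * p.2 = q.1 * q.2 := congrArg Subtype.val e
      have h1 : (q.1 : G)⁻¹ * p.1 = q.2 * (p.2 : G)⁻¹ := by
        calc (q.1 : G)⁻¹ * p.1 = (q.1 : G)⁻¹ * (p.1 * p.2) * (p.2 : G)⁻¹ := by group
          _ = (q.1 : G)⁻¹ * (q.1 * q.2) * (p.2 : G)⁻¹ := by rw [e']
          _ = _ := by group
      have h2 : (q.1 : G)⁻¹ * p.1 ∈ K ⊓ W :=
        ⟨K.mul_mem (K.inv_mem q.1.2) p.1.2, h1 ▸ W.mul_mem q.2.2 (W.inv_mem p.2.2)⟩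
      rw [hd, Subgroup.mem_bot, inv_mul_eq_one] at h2
      refine Prod.ext (Subtype.ext h2.symm) (Subtype.ext ?_)
      rw [← h2] at e'
      exact mul_left_cancel e'
    · have ht : (t : G) ∈ K ⊔ W := t.2
      rw [← SetLike.mem_coe, Subgroup.coe_mul_of_right_le_normalizer_left _ _
        (fun b hb => CfsgLib.BG.FixedLine.mem_normalizer_of_conj fun a ha => by
          rwa [← hc a ha b hb, mul_inv_cancel_right]), Set.mem_mul] at ht
      obtain ⟨a, ha, b, hb, e⟩ := ht
      exact ⟨(⟨a, ha⟩, ⟨b, hb⟩), Subtype.ext e⟩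
  refine (Fintype.sum_bijective f hf _ _ fun p => ?_).symm
  refine if_congr ⟨fun hp => CyclicTI.mul_mem_tiPart hd p.1.2 (fun e => hp.1 (Subtype.ext e))
    p.2.2 (fun e => hp.2 (Subtype.ext e)), fun hp => ⟨?_, ?_⟩⟩ rfl rfl
  · rintro e
    exact hp.2 (Or.inr (by simp [f, e]))
  · rintro e
    exact hp.2 (Or.inl (by simp [f, e]))

/-- Weights of the three parts and of a further closed set. -/
theorem decomp (h : Side M K U W) (h' : Side M' W V K) [Fintype K] [Fintype W]
    [Fintype (fittingOf M)] [Fintype (fittingOf M')] {θ : G → ℂ}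
    (hθ : IsGeneralizedCharacter G θ) {d : ℤ} (hd : θ 1 = d) (hn : classInner θ θ = 1)
    (h1 : classInner θ (fun _ => 1) = 0) {s : ℝ} (hs : s = 1 ∨ s = -1) {Z : Set G}
    [Fintype Z] (hZ : PowClosed Z) (hZ1 : (1 : G) ∉ Z) (hZX : ∀ g ∈ Z, g ∉ conjSharp (fittingOf M))
    (hZX' : ∀ g ∈ Z, g ∉ conjSharp (fittingOf M'))
    (hZW : ∀ g ∈ Z, g ∉ conjSet (CyclicTI.tiPart K W)) :
    part (fittingOf M) θ s / Nat.card M + part (fittingOf M') θ s / Nat.card M' +
        partW K W θ s / (Nat.card K * Nat.card W) +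
        (∑ g ∈ Z.toFinset, (‖θ g‖ ^ 2 + s * (θ g).re)) / Nat.card G ≤ 1 := by
  classical
  haveI : Fintype M := Fintype.ofFinite _
  haveI : Fintype M' := Fintype.ofFinite _
  haveI : Fintype ↥(K ⊔ W) := Fintype.ofFinite _
  set F : G → ℝ := fun g => ‖θ g‖ ^ 2 + s * (θ g).re with hF
  have hθc := isClassFunction_of_isGeneralized hθ
  have hFc : ∀ g z : G, F (z * g * z⁻¹) = F g := fun g z => by simp only [hF, hθc g z]
  have hdW := CyclicTI.disj_of h.hP.selfNormalizing
  have hcW := CyclicTI.comm_of h.hP.selfNormalizing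
  have hcop : (Nat.card K).Coprime (Nat.card W) :=
    (Nat.coprime_primes h.primeK h.primeW).mpr h.prime_ne
  set S₁ := conjSharp (fittingOf M) with hS₁
  set S₂ := conjSharp (fittingOf M') with hS₂
  set S₃ := conjSet (CyclicTI.tiPart K W) with hS₃
  have h13 : ∀ g ∈ S₁, g ∉ S₃ := fun g a b =>
    not_mem_both h.primeK h.card_fittingOf_coprime hcop hcW a b
  have hsym : CyclicTI.tiPart K W = CyclicTI.tiPart W K := by
    simp only [CyclicTI.tiPart, sup_comm K W, Set.union_comm (K : Set G)]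
  have h23 : ∀ g ∈ S₂, g ∉ S₃ := fun g a b =>
    not_mem_both h'.primeK h'.card_fittingOf_coprime hcop.symm
      (fun a ha b hb => (hcW b hb a ha).symm) a (hsym ▸ b)
  have h12 : ∀ g ∈ S₁, g ∉ S₂ := by
    rintro g ⟨y, hy, hy1⟩ ⟨z, hz, -⟩
    exact pair_disjoint h h' hy hy1 (z * y⁻¹) (by simpa [mul_assoc] using hz)
  have h31 : (1 : G) ∉ S₃ := by
    rintro ⟨y, hy, hy'⟩
    exact hy' (Or.inl (by simp))
  -- the rest
  set R : Set G := ({1} ∪ S₁ ∪ S₂ ∪ S₃ ∪ Z)ᶜ with hR
  have hR' : PowClosed R := by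
    refine ((((PowClosed.union ?_ (powClosed_conjSharp _)).union (powClosed_conjSharp _)).union
      (powClosed_conjTI hdW hcW)).union hZ).compl
    intro g hg k _
    simp only [Set.mem_singleton_iff] at hg ⊢
    rw [hg, one_pow]
  have hRnn : 0 ≤ ∑ g ∈ R.toFinset, F g := by
    have := sum_sq_add_re_nonneg hθ hR'
    simp only [hF, Finset.sum_add_distrib, ← Finset.mul_sum, ← Complex.re_sum]
    rcases hs with e | e <;> rw [e]
    · convert this.1 using 1
      rw [one_mul]
      congr!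
    · convert this.2 using 1
      rw [sub_eq_add_neg, neg_one_mul]
      congr!
  have hF1 : 0 ≤ F 1 := by
    have h0 : F 1 = (d : ℝ) ^ 2 + s * d := by simp [hF, hd]
    rw [h0]
    have h3 : (0 : ℤ) ≤ d ^ 2 + d ∧ (0 : ℤ) ≤ d ^ 2 - d := by
      constructor <;> rcases lt_trichotomy d 0 with a | a | a <;> nlinarith
    have h4 : (0 : ℝ) ≤ (d : ℝ) ^ 2 + d ∧ (0 : ℝ) ≤ (d : ℝ) ^ 2 - d := by
      constructor
      · exact_mod_cast h3.1
      · exact_mod_cast h3.2
    rcases hs with e | e <;> rw [e] <;> linarith [h4.1, h4.2]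
  -- the total
  have htot : ∑ g : G, F g = Nat.card G := by
    have hG : (Nat.card G : ℂ) ≠ 0 := Nat.cast_ne_zero.mpr Nat.card_pos.ne'
    have e1 : ∑ g : G, θ g = 0 := by
      simpa [classInner, hG] using h1
    have e2 : ∑ g : G, ((‖θ g‖ ^ 2 : ℝ) : ℂ) = Nat.card G := by
      have := hn
      simp only [classInner, Complex.mul_conj'] at this
      rw [inv_mul_eq_iff_eq_mul₀ hG, mul_one] at this
      push_cast
      exact this
    have e2' : ∑ g : G, ‖θ g‖ ^ 2 = (Nat.card G : ℝ) := by exact_mod_cast e2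
    have e1' : ∑ g : G, (θ g).re = 0 := by rw [← Complex.re_sum, e1, Complex.zero_re]
    simp only [hF, Finset.sum_add_distrib, ← Finset.mul_sum, e1', e2', mul_zero, add_zero]
  have hsplit : ∑ g : G, F g = F 1 + ∑ g ∈ S₁.toFinset, F g + ∑ g ∈ S₂.toFinset, F g +
      ∑ g ∈ S₃.toFinset, F g + ∑ g ∈ Z.toFinset, F g + ∑ g ∈ R.toFinset, F g := by
    have hu : (Finset.univ : Finset G) =
        ({1} ∪ S₁.toFinset ∪ S₂.toFinset ∪ S₃.toFinset ∪ Z.toFinset) ∪ R.toFinset := by
      ext g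
      simp only [Finset.mem_univ, Finset.mem_union, Finset.mem_singleton, Set.mem_toFinset, hR,
        Set.mem_compl_iff, Set.mem_union, Set.mem_singleton_iff, true_iff]
      exact em _
    rw [hu, Finset.sum_union, Finset.sum_union, Finset.sum_union, Finset.sum_union,
      Finset.sum_union, Finset.sum_singleton]
    all_goals
      rw [Finset.disjoint_left]
      intro g hg
      simp only [Finset.mem_union, Finset.mem_singleton, Set.mem_toFinset] at hg ⊢
    · rw [hg]; exact one_notMem_conjSharp _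
    · rcases hg with rfl | hg
      exacts [one_notMem_conjSharp _, h12 g hg]
    · rcases hg with (rfl | hg) | hg
      exacts [h31, h13 g hg, h23 g hg]
    · rcases hg with ((rfl | hg) | hg) | hg
      exacts [hZ1, fun hc => hZX g hc hg, fun hc => hZX' g hc hg, fun hc => hZW g hc hg]
    · intro hc
      simp only [hR, Set.mem_compl_iff, Set.mem_union, Set.mem_singleton_iff] at hc
      exact hc hg
  -- the three parts
  have hp : ∀ {M K U W : Subgroup G} [Fintype M] [Fintype (fittingOf M)], Side M K U W →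
      (Nat.card M : ℝ) * ∑ g ∈ (conjSharp (fittingOf M)).toFinset, F g =
        (Nat.card G : ℝ) * part (fittingOf M) θ s := by
    intro M K U W _ _ h
    have := card_mul_sum_conjSet_real M (T := {g | g ∈ fittingOf M ∧ g ≠ 1})
      (fun g hg => h.fittingOf_le hg.1) (fun hc => hc.2 rfl)
      (fun g hg t ht hgt => absurd (h.ti_mem ht.1 ht.2 hgt.1) hg)
      (fun m hm t ht => ⟨conj_mem_of_le_normalizer (le_normalizer_fittingOf M hm) t ht.1,
        fun e => ht.2 (conj_eq_one_iff.mp e)⟩) hFc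
    rw [sum_subgroup_eq h.fittingOf_le F] at this
    convert this using 2 <;> first | rfl | congr!
  have hp3 : (Nat.card K * Nat.card W : ℝ) * ∑ g ∈ S₃.toFinset, F g =
      (Nat.card G : ℝ) * partW K W θ s := by
    have hcard : Nat.card ↥(K ⊔ W) = Nat.card K * Nat.card W :=
      Coprime.card_sup_of_coprime (fun b hb => CfsgLib.BG.FixedLine.mem_normalizer_of_conj
        fun a ha => by rwa [← hcW a ha b hb, mul_inv_cancel_right]) hcop
    have := card_mul_sum_conjSet_real (K ⊔ W) (T := CyclicTI.tiPart K W) (fun g hg => hg.1)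
      (fun hc => hc.2 (Or.inl (one_mem _))) (CyclicTI.ti h.hP.selfNormalizing)
      (fun m hm t ht => by
        haveI := CyclicTI.commutative_of h.hP.selfNormalizing
        have e : (⟨m, hm⟩ : ↥(K ⊔ W)) * ⟨t, ht.1⟩ = ⟨t, ht.1⟩ * ⟨m, hm⟩ := mul_comm' _ _
        have e' : m * t = t * m := congrArg Subtype.val e
        rwa [e', mul_inv_cancel_right]) hFc
    rw [sum_tiPart_eq hdW hcW F, hcard, Nat.cast_mul] at this
    exact this
  have hG : (0 : ℝ) < Nat.card G := by exact_mod_cast Nat.card_pos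
  have hM : (0 : ℝ) < Nat.card M := by exact_mod_cast Nat.card_pos
  have hM' : (0 : ℝ) < Nat.card M' := by exact_mod_cast Nat.card_pos
  have hKW : (0 : ℝ) < Nat.card K * Nat.card W :=
    mul_pos (by exact_mod_cast Nat.card_pos) (by exact_mod_cast Nat.card_pos)
  have e1 := hp h
  have e2 := hp h'
  rw [← hS₁] at e1
  rw [← hS₂] at e2
  have k1 : part (fittingOf M) θ s / Nat.card M = (∑ g ∈ S₁.toFinset, F g) / Nat.card G := by
    rw [div_eq_div_iff hM.ne' hG.ne']; linarith
  have k2 : part (fittingOf M') θ s / Nat.card M' = (∑ g ∈ S₂.toFinset, F g) / Nat.card G := by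
    rw [div_eq_div_iff hM'.ne' hG.ne']; linarith
  have k3 : partW K W θ s / (Nat.card K * Nat.card W) =
      (∑ g ∈ S₃.toFinset, F g) / Nat.card G := by
    rw [div_eq_div_iff hKW.ne' hG.ne']; linarith
  rw [k1, k2, k3, ← add_div, ← add_div, ← add_div, div_le_one hG, ← htot, hsplit]
  linarith

end CfsgLib.Peterfalvi.Pair
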