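import Mathlib.Algebra.Order.BigOperators.Group.Finset
import Mathlib.Data.Fintype.BigOperators
import Mathlib.Tactic.Linarith
import Mathlib.Tactic.Ring

/-!
Integer matrices `x_i + y_j` of small norm.
-/

set_option autoImplicit false
set_option linter.unusedSectionVars false

namespace CfsgLib.Peterfalvi.Pair

variable {I J : Type*} [Fintype I] [Fintype J] [DecidableEq I] [DecidableEq J]

/-- The rectangle rule. -/
def Rect (c : I → J → ℤ) : Prop :=
  ∀ i i' j j', c i j + c i' j' = c i j' + c i' j

theorem one_le_mul_self {x : ℤ} (hx : x ≠ 0) : 1 ≤ x * x := by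
  rcases lt_or_gt_of_ne hx with h | h <;> nlinarith

theorem exists_two {X : Type*} [Fintype X] [DecidableEq X] (h : 3 ≤ Fintype.card X) (x : X) :
    ∃ y z : X, y ≠ x ∧ z ≠ x ∧ y ≠ z := by
  have hc : 2 ≤ (Finset.univ.erase x).card := by
    rw [Finset.card_erase_of_mem (Finset.mem_univ x), Finset.card_univ]; omega
  obtain ⟨y, hy, z, hz, hyz⟩ := Finset.one_lt_card.mp hc
  exact ⟨y, z, Finset.ne_of_mem_erase hy, Finset.ne_of_mem_erase hz, hyz⟩

/-- A matrix obeying the rectangle rule with norm at most two vanishes. -/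
theorem Rect.eq_zero {c : I → J → ℤ} (hc : Rect c) (hI : 3 ≤ Fintype.card I)
    (hJ : 3 ≤ Fintype.card J) (h : ∑ i, ∑ j, c i j * c i j ≤ 2) (i : I) (j : J) : c i j = 0 := by
  classical
  by_contra h0
  obtain ⟨i₁, i₂, hi₁, hi₂, hii⟩ := exists_two hI i
  obtain ⟨j₁, j₂, hj₁, hj₂, hjj⟩ := exists_two hJ j
  have hsum : ∑ p : I × J, c p.1 p.2 * c p.1 p.2 ≤ 2 := by rwa [Fintype.sum_prod_type]
  have htri : ∀ (i' : I) (j' : J), 1 ≤ c i j' * c i j' + c i' j * c i' j + c i' j' * c i' j' := by
    intro i' j'
    by_contra hlt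
    have h1 := mul_self_nonneg (c i j')
    have h2 := mul_self_nonneg (c i' j)
    have h3 := mul_self_nonneg (c i' j')
    have e1 : c i j' = 0 := by by_contra e; have := one_le_mul_self e; omega
    have e2 : c i' j = 0 := by by_contra e; have := one_le_mul_self e; omega
    have e3 : c i' j' = 0 := by by_contra e; have := one_le_mul_self e; omega
    have := hc i i' j j'
    omega
  have hsub := Finset.sum_le_univ_sum_of_nonneg (f := fun p : I × J => c p.1 p.2 * c p.1 p.2)
    (s := {(i, j), (i, j₁), (i₁, j), (i₁, j₁), (i, j₂), (i₂, j), (i₂, j₂)})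
    fun p => mul_self_nonneg _
  rw [Finset.sum_insert, Finset.sum_insert, Finset.sum_insert, Finset.sum_insert, Finset.sum_insert,
    Finset.sum_insert, Finset.sum_singleton] at hsub
  · have := one_le_mul_self h0
    have := htri i₁ j₁
    have := htri i₂ j₂
    linarith
  all_goals simp [hi₁, hi₂, hj₁, hj₂, hii, hjj, Ne.symm hi₁, Ne.symm hi₂, Ne.symm hj₁, Ne.symm hj₂]

/-- The only matrix of norm at most two differing by such a matrix from a difference in a column. -/
theorem Rect.eq_zero_of_shift {c : I → J → ℤ} (hc : Rect c) (hJ : 3 ≤ Fintype.card J) {a a' : I}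
    (ha : a ≠ a') {b : J} {f : I → J → ℤ}
    (hf : ∀ i j, f i j = c i j + (if i = a ∧ j = b then 1 else 0) -
      (if i = a' ∧ j = b then 1 else 0))
    (h : ∑ i, ∑ j, f i j * f i j ≤ 2) (i : I) (j : J) : c i j = 0 := by
  classical
  have hsum : ∑ j, ∑ i, f i j * f i j ≤ 2 := by rwa [Finset.sum_comm]
  have hcol : ∀ j, f a j * f a j + f a' j * f a' j ≤ ∑ i, f i j * f i j := fun j => by
    have := Finset.sum_le_univ_sum_of_nonneg (f := fun i => f i j * f i j) (s := {a, a'})
      fun i => mul_self_nonneg _
    rwa [Finset.sum_pair ha] at this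
  obtain ⟨j₁, j₂, hj₁, hj₂, hjj⟩ := exists_two hJ b
  set D := c a b - c a' b with hD
  have hother : ∀ j, j ≠ b → f a j - f a' j = D := fun j hj => by
    have := hc a a' j b
    rw [hf, hf]; simp [hj]; omega
  have hb : f a b - f a' b = D + 2 := by
    rw [hf, hf]; simp [ha, ha.symm]; omega
  have h3 := Finset.sum_le_univ_sum_of_nonneg (f := fun j => ∑ i, f i j * f i j) (s := {b, j₁, j₂})
    fun j => Finset.sum_nonneg fun i _ => mul_self_nonneg _
  rw [Finset.sum_insert (by simp [hj₁.symm, hj₂.symm]), Finset.sum_pair hjj] at h3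
  have k0 := hcol b
  have k1 := hcol j₁
  have k2 := hcol j₂
  have e1 := hother j₁ hj₁
  have e2 := hother j₂ hj₂
  have s0 := mul_self_nonneg (f a b + f a' b)
  have s1 := mul_self_nonneg (f a j₁ + f a' j₁)
  have s2 := mul_self_nonneg (f a j₂ + f a' j₂)
  have key : ∀ x y : ℤ, (x - y) * (x - y) ≤ 2 * (x * x + y * y) := fun x y => by
    linarith [mul_self_nonneg (x + y), show (x - y) * (x - y) + (x + y) * (x + y) =
      2 * (x * x + y * y) by ring]
  have hD0 : D = 0 := by
    have q0 := key (f a b) (f a' b)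
    have q1 := key (f a j₁) (f a' j₁)
    have q2 := key (f a j₂) (f a' j₂)
    rw [hb] at q0
    rw [e1] at q1
    rw [e2] at q2
    have hq : (D + 2) * (D + 2) + 2 * (D * D) ≤ 4 := by linarith
    have hlo : -2 < D := by
      by_contra hlt
      have : 4 ≤ D * D := by nlinarith
      linarith [mul_self_nonneg (D + 2)]
    have hhi : D ≤ 0 := by
      by_contra hlt
      have : 9 ≤ (D + 2) * (D + 2) := by nlinarith
      linarith [mul_self_nonneg D]
    rcases eq_or_lt_of_le hhi with h' | h'
    · exact h'
    exfalso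
    have odd_pos : ∀ x y : ℤ, (x - y = 1 ∨ x - y = -1) → 1 ≤ x * x + y * y := by
      intro x y hxy
      have := mul_self_nonneg x
      have := mul_self_nonneg y
      rcases eq_or_ne x 0 with hx | hx
      · have := one_le_mul_self (show y ≠ 0 by omega); linarith
      · have := one_le_mul_self hx; linarith
    have := odd_pos (f a b) (f a' b) (by omega)
    have := odd_pos (f a j₁) (f a' j₁) (by omega)
    have := odd_pos (f a j₂) (f a' j₂) (by omega)
    linarith
  have hfull : 2 ≤ f a b * f a b + f a' b * f a' b := by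
    have q0 := key (f a b) (f a' b)
    rw [hb, hD0] at q0
    linarith
  have hzero : ∀ i j, ¬ (j = b ∧ (i = a ∨ i = a')) → c i j = 0 := by
    intro i j hij
    have hf0 : f i j = 0 := by
      by_contra hne
      have h1 := one_le_mul_self hne
      have h2 : ∑ p : I × J, f p.1 p.2 * f p.1 p.2 ≤ 2 := by rwa [Fintype.sum_prod_type]
      have h4 := Finset.sum_le_univ_sum_of_nonneg (f := fun p : I × J => f p.1 p.2 * f p.1 p.2)
        (s := {(i, j), (a, b), (a', b)}) fun p => mul_self_nonneg _
      rw [Finset.sum_insert, Finset.sum_pair (by simp [ha])] at h4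
      · linarith
      · simp only [Finset.mem_insert, Finset.mem_singleton, Prod.mk.injEq]
        tauto
    have := hf i j
    rw [if_neg (fun e => hij ⟨e.2, Or.inl e.1⟩), if_neg (fun e => hij ⟨e.2, Or.inr e.1⟩)] at this
    omega
  by_cases hij : j = b ∧ (i = a ∨ i = a')
  · obtain ⟨hjb, hi⟩ := hij
    have hz : c a b = 0 := by
      have e3 : f a b = c a b + 1 := by rw [hf]; simp [ha]
      have e4 : f a' b = c a b - 1 := by rw [hf]; simp [ha.symm]; omega
      have hle : f a b * f a b + f a' b * f a' b ≤ 2 := by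
        linarith [mul_self_nonneg (f a j₁), mul_self_nonneg (f a' j₁), mul_self_nonneg (f a j₂),
          mul_self_nonneg (f a' j₂)]
      rw [e3, e4] at hle
      have : c a b * c a b ≤ 0 := by
        linarith [show (c a b + 1) * (c a b + 1) + (c a b - 1) * (c a b - 1) =
          2 * (c a b * c a b) + 2 by ring]
      exact mul_self_eq_zero.mp (le_antisymm this (mul_self_nonneg _))
    rw [hjb]
    rcases hi with rfl | rfl
    · exact hz
    · omega
  · exact hzero i j hij

/-- Rows differing by a column of minus ones in a single row, with norm at most the number of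
columns. -/
theorem delta_shape {c : I → J → ℤ} (hc : Rect c) (hJ : 0 < Fintype.card J) {o a : I} (ha : a ≠ o)
    (hI : 3 ≤ Fintype.card I) (h : ∑ i, ∑ j, c i j * c i j ≤ Fintype.card J)
    (hrow : ∀ i j, i ≠ o → i ≠ a → c a j = c i j - 1) :
    (∀ i j, c i j = if i = a then -1 else 0) ∨
      (Fintype.card I = 3 ∧ ∀ i j, c i j = if i = o ∨ i = a then 0 else 1) := by
  classical
  obtain ⟨i₀, hi₀⟩ : ∃ i₀, i₀ ≠ o ∧ i₀ ≠ a := by
    by_contra hne
    push Not at hne
    have : (Finset.univ : Finset I) ⊆ {o, a} := fun i _ => by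
      simp only [Finset.mem_insert, Finset.mem_singleton]
      by_cases hi : i = o
      · exact Or.inl hi
      · exact Or.inr (hne i hi)
    have := (Finset.card_le_card this).trans Finset.card_le_two
    rw [Finset.card_univ] at this
    omega
  obtain ⟨j₀⟩ : Nonempty J := Fintype.card_pos_iff.mp hJ
  set v : J → ℤ := fun j => c i₀ j with hv
  set s : ℤ := c o j₀ - v j₀ with hs
  have ho : ∀ j, c o j = v j + s := fun j => by have := hc o i₀ j j₀; simp only [hv, hs]; omega
  have hav : ∀ j, c a j = v j - 1 := fun j => hrow i₀ j hi₀.1 hi₀.2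
  have hiv : ∀ i, i ≠ o → i ≠ a → ∀ j, c i j = v j := fun i h1 h2 j => by
    have := hrow i j h1 h2; rw [hav] at this; omega
  set rest : Finset I := (Finset.univ.erase o).erase a with hrest
  have hrc : rest.card = Fintype.card I - 2 := by
    rw [hrest, Finset.card_erase_of_mem (Finset.mem_erase.mpr ⟨ha, Finset.mem_univ _⟩),
      Finset.card_erase_of_mem (Finset.mem_univ _), Finset.card_univ]
    omega
  have hcolsum : ∀ j, ∑ i, c i j * c i j =
      (v j + s) * (v j + s) + ((v j - 1) * (v j - 1) + (rest.card : ℤ) * (v j * v j)) := by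
    intro j
    rw [← Finset.add_sum_erase _ _ (Finset.mem_univ o), ← Finset.add_sum_erase _ _
      (Finset.mem_erase.mpr ⟨ha, Finset.mem_univ a⟩), ← hrest, ho, hav,
      Finset.sum_congr rfl (g := fun _ => v j * v j) (fun i hi => by
        simp only [hrest, Finset.mem_erase] at hi
        rw [hiv i hi.2.1 hi.1]), Finset.sum_const, nsmul_eq_mul]
  have hpos : 1 ≤ rest.card := by omega
  have hone : ∀ j, 1 ≤ ∑ i, c i j * c i j := fun j => by
    rw [hcolsum]
    by_cases hvj : v j = 0
    · rw [hvj]; nlinarith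
    · have := one_le_mul_self hvj
      have : (1 : ℤ) ≤ rest.card := by exact_mod_cast hpos
      nlinarith [mul_self_nonneg (v j + s), mul_self_nonneg (v j - 1)]
  have heq : ∀ j, ∑ i, c i j * c i j = 1 := by
    intro j
    by_contra hne
    have hlt : ∑ _j : J, (1 : ℤ) < ∑ j, ∑ i, c i j * c i j :=
      Finset.sum_lt_sum (fun j _ => hone j) ⟨j, Finset.mem_univ j, lt_of_le_of_ne (hone j) (Ne.symm hne)⟩
    rw [Finset.sum_const, Finset.card_univ, nsmul_one] at hlt
    rw [Finset.sum_comm] at hlt
    omega
  have hcases : ∀ j, (v j = 0 ∧ s = 0) ∨ (rest.card = 1 ∧ v j = 1 ∧ s = -1) := by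
    intro j
    have he := heq j
    rw [hcolsum] at he
    have h1 := mul_self_nonneg (v j + s)
    have h2 := mul_self_nonneg (v j - 1)
    by_cases hvj : v j = 0
    · rw [hvj] at he
      simp at he
      exact Or.inl ⟨hvj, he⟩
    · have h3 := one_le_mul_self hvj
      have h4 : (1 : ℤ) ≤ rest.card := by exact_mod_cast hpos
      have hr1 : (rest.card : ℤ) * (v j * v j) = 1 := by nlinarith
      have h5 : (v j + s) * (v j + s) = 0 ∧ (v j - 1) * (v j - 1) = 0 := by constructor <;> linarith
      rw [mul_self_eq_zero, mul_self_eq_zero] at h5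
      have hv1 : v j = 1 := by omega
      rw [hv1] at hr1
      refine Or.inr ⟨?_, hv1, by omega⟩
      exact_mod_cast (by linarith : (rest.card : ℤ) = 1)
  by_cases hs0 : s = 0
  · left
    intro i j
    have hvj : v j = 0 := by rcases hcases j with h | h <;> omega
    by_cases hia : i = a
    · rw [if_pos hia, hia, hav, hvj]; rfl
    · rw [if_neg hia]
      by_cases hio : i = o
      · rw [hio, ho, hvj, hs0]; rfl
      · rw [hiv i hio hia, hvj]
  · right
    have hall : ∀ j, rest.card = 1 ∧ v j = 1 ∧ s = -1 := fun j =>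
      (hcases j).resolve_left fun h => hs0 h.2
    refine ⟨by have := (hall j₀).1; omega, fun i j => ?_⟩
    by_cases hia : i = a
    · rw [if_pos (Or.inr hia), hia, hav, (hall j).2.1]; rfl
    · by_cases hio : i = o
      · rw [if_pos (Or.inl hio), hio, ho, (hall j).2.1, (hall j).2.2]; rfl
      · rw [if_neg (by tauto), hiv i hio hia, (hall j).2.1]

/-- A matrix with a one in the corner and norm at most the number of rows: either a single column
of ones, or constant along the first row. -/
theorem corner_shape {c : I → J → ℤ} (hc : Rect c) (hJ : 3 ≤ Fintype.card J) {o : I} {e : J}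
    (h1 : c o e = 1) (h : ∑ i, ∑ j, c i j * c i j ≤ Fintype.card I) :
    (∀ i j, c i j = if j = e then 1 else 0) ∨ ∀ j, c o j = 1 := by
  classical
  refine or_iff_not_imp_right.mpr fun hne => ?_
  push Not at hne
  obtain ⟨j₁, hj₁⟩ := hne
  have hrowpos : ∀ i, 1 ≤ ∑ j, c i j * c i j := fun i => by
    by_contra hlt
    have hz : ∀ j, c i j = 0 := fun j => by
      by_contra hj
      have := one_le_mul_self hj
      have := Finset.single_le_sum (f := fun j => c i j * c i j) (fun j _ => mul_self_nonneg _)
        (Finset.mem_univ j)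
      omega
    have := hc i o j₁ e
    rw [hz, hz] at this
    omega
  have hrow : ∀ i, ∑ j, c i j * c i j = 1 := by
    intro i
    by_contra hni
    have hlt : ∑ _i : I, (1 : ℤ) < ∑ i, ∑ j, c i j * c i j :=
      Finset.sum_lt_sum (fun i _ => hrowpos i) ⟨i, Finset.mem_univ i, lt_of_le_of_ne (hrowpos i) (Ne.symm hni)⟩
    rw [Finset.sum_const, Finset.card_univ, nsmul_one] at hlt
    omega
  obtain ⟨j₂, j₃, hj₂, hj₃, hjj⟩ := exists_two hJ e
  have ho : ∀ j, j ≠ e → c o j = 0 := fun j hj => by
    by_contra hne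
    have := one_le_mul_self hne
    have h2 := Finset.sum_le_univ_sum_of_nonneg (f := fun j => c o j * c o j) (s := {e, j})
      fun j => mul_self_nonneg _
    rw [Finset.sum_pair hj.symm, h1] at h2
    have := hrow o
    omega
  intro i j
  have hoff : ∀ j, j ≠ e → c i j = c i e - 1 := fun j hj => by
    have := hc i o j e
    rw [ho j hj, h1] at this
    omega
  have hie : c i e = 1 := by
    by_contra hne
    have := one_le_mul_self (x := c i e - 1) (by omega)
    have h2 := Finset.sum_le_univ_sum_of_nonneg (f := fun j => c i j * c i j) (s := {j₂, j₃})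
      fun j => mul_self_nonneg _
    rw [Finset.sum_pair hjj, hoff _ hj₂, hoff _ hj₃] at h2
    have := hrow i
    omega
  by_cases hje : j = e
  · rw [if_pos hje, hje, hie]
  · rw [if_neg hje, hoff j hje, hie]; rfl

end CfsgLib.Peterfalvi.Pair
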