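import Cfsg.Agent.Lib.Peterfalvi.Pair.Grid
import Cfsg.Agent.Lib.Peterfalvi.Pair.Matrix

/-!
Coefficients of a virtual character at the family of a cyclic TI set.
-/

set_option autoImplicit false
set_option linter.style.haveILetI false
set_option linter.unusedSectionVars false

namespace CfsgLib.Peterfalvi.Pair

open Cfsg CfsgLib.Char
open scoped ComplexConjugate CfsgLib.Char

universe u

variable {G : Type u} [Group G] [Fintype G] {Wc Wk : Subgroup G}
  {η : Lin Wk → Lin Wc → G → ℂ}

/-- The projection of `f` on the family with given coefficients. -/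
noncomputable def proj (η : Lin Wk → Lin Wc → G → ℂ) (c : Lin Wk → Lin Wc → ℤ) : G → ℂ :=
  ∑ p : Lin Wk × Lin Wc, ((c p.1 p.2 : ℤ) : ℂ) • η p.1 p.2

namespace IsGrid

variable (hη : IsGrid Wc Wk η)
include hη

theorem exists_coeff {f : G → ℂ} (hf : IsGeneralizedCharacter G f) :
    ∃ c : Lin Wk → Lin Wc → ℤ, ∀ a b, classInner f (η a b) = c a b :=
  ⟨fun a b => (exists_int_classInner hf (hη.isGeneralized a b)).choose,
    fun a b => (exists_int_classInner hf (hη.isGeneralized a b)).choose_spec⟩

theorem classInner_proj (c : Lin Wk → Lin Wc → ℤ) (a : Lin Wk) (b : Lin Wc) :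
    classInner (proj η c) (η a b) = c a b := by
  classical
  rw [proj, classInner_sum_left, Fintype.sum_eq_single (a, b) fun p hp => by
    rw [classInner_smul_left, hη.orth, if_neg (fun e => hp (Prod.ext e.1 e.2)), mul_zero]]
  rw [classInner_smul_left, hη.orth, if_pos ⟨rfl, rfl⟩, mul_one]

theorem classInner_sub_proj {f : G → ℂ} {c : Lin Wk → Lin Wc → ℤ}
    (hc : ∀ a b, classInner f (η a b) = c a b) (a : Lin Wk) (b : Lin Wc) :
    classInner (f - proj η c) (η a b) = 0 := by
  rw [classInner_sub_left, hc, hη.classInner_proj, sub_self]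

theorem isGeneralized_sub_proj {f : G → ℂ} (hf : IsGeneralizedCharacter G f)
    (c : Lin Wk → Lin Wc → ℤ) : IsGeneralizedCharacter G (f - proj η c) := by
  refine isGeneralized_sub hf ?_
  rw [proj]
  exact isGeneralized_sum _ _ fun p _ =>
    isGeneralized_intCast_smul (hη.isGeneralized p.1 p.2) _

theorem sq_sub_proj {f : G → ℂ} {c : Lin Wk → Lin Wc → ℤ}
    (hc : ∀ a b, classInner f (η a b) = c a b) :
    classInner (f - proj η c) (f - proj η c) =
      classInner f f - ((∑ a, ∑ b, c a b * c a b : ℤ) : ℂ) := by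
  have h1 : classInner (f - proj η c) (proj η c) = 0 := by
    rw [proj, classInner_sum_right]
    refine Finset.sum_eq_zero fun p _ => ?_
    rw [classInner_smul_right, ← proj, hη.classInner_sub_proj hc, mul_zero]
  have h2 : classInner (proj η c) f = ((∑ a, ∑ b, c a b * c a b : ℤ) : ℂ) := by
    rw [proj, classInner_sum_left, ← Fintype.sum_prod_type' (fun a b => c a b * c a b)]
    push_cast
    refine Finset.sum_congr rfl fun p _ => ?_
    rw [classInner_smul_left, ← classInner_conj_symm, hc, map_intCast]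
  rw [classInner_sub_right, h1, sub_zero, classInner_sub_left, h2]

/-- The norm bounds the coefficients, strictly when there is a component off the family. -/
theorem sum_sq_le {f : G → ℂ} {c : Lin Wk → Lin Wc → ℤ}
    (hc : ∀ a b, classInner f (η a b) = c a b) {n : ℤ} (hn : classInner f f = n) :
    ∑ a, ∑ b, c a b * c a b ≤ n := by
  have h := classInner_self_re_nonneg (f - proj η c)
  rw [hη.sq_sub_proj hc, hn] at h
  have : ((∑ a, ∑ b, c a b * c a b : ℤ) : ℝ) ≤ n := by simpa [sub_nonneg] using h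
  exact_mod_cast this

theorem sum_sq_lt {f g : G → ℂ} {c : Lin Wk → Lin Wc → ℤ}
    (hc : ∀ a b, classInner f (η a b) = c a b) {n : ℤ} (hn : classInner f f = n)
    (hg : ∀ a b, classInner g (η a b) = 0) (hfg : classInner f g ≠ 0) :
    ∑ a, ∑ b, c a b * c a b < n := by
  refine lt_of_le_of_ne (hη.sum_sq_le hc hn) fun e => hfg ?_
  have h0 : f - proj η c = 0 := by
    refine eq_zero_of_classInner_self ?_
    rw [hη.sq_sub_proj hc, hn, e, sub_self]
  rw [sub_eq_zero.mp h0, proj, classInner_sum_left]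
  refine Finset.sum_eq_zero fun p _ => ?_
  rw [classInner_smul_left, ← classInner_conj_symm, hg, map_zero, mul_zero]

theorem eq_proj {f : G → ℂ} {c : Lin Wk → Lin Wc → ℤ}
    (hc : ∀ a b, classInner f (η a b) = c a b)
    (hn : classInner f f = ((∑ a, ∑ b, c a b * c a b : ℤ) : ℂ)) : f = proj η c :=
  sub_eq_zero.mp (eq_zero_of_classInner_self (by rw [hη.sq_sub_proj hc, hn, sub_self]))

theorem rect_of_vanish {f : G → ℂ} (hf : IsClassFunction G f) {c : Lin Wk → Lin Wc → ℤ}
    (hc : ∀ a b, classInner f (η a b) = c a b)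
    (h0 : ∀ (x : Wc) (y : Wk), x ≠ 1 → y ≠ 1 → f ((x : G) * y) = 0) : Rect c := by
  intro a a' b b'
  have h := fun a b => hη.rect f hf h0 a b
  have : ((c a b + c a' b' : ℤ) : ℂ) = ((c a b' + c a' b : ℤ) : ℂ) := by
    push_cast
    rw [← hc, ← hc, ← hc, ← hc, h a b, h a' b', h a b', h a' b]
    ring
  exact_mod_cast this

theorem cardI : Fintype.card (Lin Wk) = Nat.card Wk := by
  rw [← Nat.card_eq_fintype_card, hη.cardK]

theorem cardJ : Fintype.card (Lin Wc) = Nat.card Wc := by
  rw [← Nat.card_eq_fintype_card, hη.cardC]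

/-- A virtual character of norm at most two vanishing on the cyclic TI set is orthogonal to the
family. -/
theorem orth_of_norm_two {f : G → ℂ} (hf : IsGeneralizedCharacter G f) {n : ℤ}
    (hn : classInner f f = n) (hn2 : n ≤ 2) (hI : 3 ≤ Nat.card Wk) (hJ : 3 ≤ Nat.card Wc)
    (h0 : ∀ (x : Wc) (y : Wk), x ≠ 1 → y ≠ 1 → f ((x : G) * y) = 0) (a : Lin Wk) (b : Lin Wc) :
    classInner f (η a b) = 0 := by
  classical
  obtain ⟨c, hc⟩ := hη.exists_coeff hf
  rw [hc, (hη.rect_of_vanish (isClassFunction_of_isGeneralized hf) hc h0).eq_zero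
    (by rw [hη.cardI]; exact hI) (by rw [hη.cardJ]; exact hJ)
    ((hη.sum_sq_le hc hn).trans hn2) a b, Int.cast_zero]

/-- A norm two virtual character agreeing with a difference in a column is that difference. -/
theorem eq_sub_of_norm_two {f : G → ℂ} (hf : IsGeneralizedCharacter G f) {n : ℤ}
    (hn : classInner f f = n) (hn2 : n ≤ 2) (hJ : 3 ≤ Nat.card Wc) {a a' : Lin Wk} (ha : a ≠ a')
    (b : Lin Wc)
    (h0 : ∀ (x : Wc) (y : Wk), x ≠ 1 → y ≠ 1 →
      f ((x : G) * y) = ((a y : ℂ) - (a' y : ℂ)) * (b x : ℂ)) :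
    f = η a b - η a' b := by
  classical
  obtain ⟨c, hc⟩ := hη.exists_coeff hf
  set θ := f - (η a b - η a' b) with hθ
  let e : Lin Wk → Lin Wc → ℤ := fun i j =>
    (if i = a ∧ j = b then 1 else 0) - (if i = a' ∧ j = b then 1 else 0)
  have hinner : ∀ i j, classInner (η a b - η a' b) (η i j) = e i j := fun i j => by
    rw [classInner_sub_left, hη.orth, hη.orth]
    simp only [e, Int.cast_sub, Int.cast_ite, Int.cast_one, Int.cast_zero]
    exact congrArg₂ (· - ·) (if_congr (and_congr eq_comm eq_comm) rfl rfl)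
      (if_congr (and_congr eq_comm eq_comm) rfl rfl)
  have hθc : ∀ i j, classInner θ (η i j) = ((c i j - e i j : ℤ) : ℂ) := fun i j => by
    rw [hθ, classInner_sub_left, hc, hinner]
    push_cast [e]
    ring
  have hR : Rect fun i j => c i j - e i j := hη.rect_of_vanish
    (isClassFunction_of_isGeneralized (isGeneralized_sub hf
      (isGeneralized_sub (hη.isGeneralized a b) (hη.isGeneralized a' b)))) hθc fun x y hx hy => by
      simp only [hθ, Pi.sub_apply, h0 x y hx hy, hη.value _ _ x y hx hy]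
      ring
  have hz := Rect.eq_zero_of_shift hR (by rw [hη.cardJ]; exact hJ) ha (b := b) (f := c)
    (fun i j => by simp only [e]; ring) ((hη.sum_sq_le hc hn).trans hn2)
  have hce : c = e := funext fun i => funext fun j => sub_eq_zero.mp (hz i j)
  have hsum : ∑ i, ∑ j, c i j * c i j = 2 := by
    rw [hce, ← Fintype.sum_prod_type' (fun i j => e i j * e i j),
      Fintype.sum_eq_add (a, b) (a', b) (fun h => ha (congrArg Prod.fst h)) fun p hp => by
        have h1 : ¬ (p.1 = a ∧ p.2 = b) := fun h => hp.1 (Prod.ext h.1 h.2)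
        have h2 : ¬ (p.1 = a' ∧ p.2 = b) := fun h => hp.2 (Prod.ext h.1 h.2)
        simp [e, h1, h2]]
    simp [e, ha, Ne.symm ha]
  have hn' : n = 2 := le_antisymm hn2 (hsum ▸ hη.sum_sq_le hc hn)
  rw [hη.eq_proj hc (by rw [hn, hn', hsum]), proj,
    Fintype.sum_eq_add (a, b) (a', b) (fun h => ha (congrArg Prod.fst h)) fun p hp => by
      have h1 : ¬ (p.1 = a ∧ p.2 = b) := fun h => hp.1 (Prod.ext h.1 h.2)
      have h2 : ¬ (p.1 = a' ∧ p.2 = b) := fun h => hp.2 (Prod.ext h.1 h.2)
      simp [hce, e, h1, h2]]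
  simp [hce, e, ha, Ne.symm ha, sub_eq_add_neg]

end IsGrid

end CfsgLib.Peterfalvi.Pair
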