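import Cfsg.Agent.Lib.Peterfalvi.SetA
import Cfsg.Agent.Lib.Peterfalvi.Rho
import Cfsg.Agent.Lib.Peterfalvi.Pair.SideFull
import Cfsg.Agent.Lib.OddLocal.TildeCount
import Cfsg.Agent.S1525

/-!
The characters of `G` attached to a Frobenius maximal subgroup with empty `κ`.
-/

set_option autoImplicit false
set_option linter.style.haveILetI false
set_option linter.unusedSectionVars false

namespace CfsgLib.Peterfalvi.Pair

open Cfsg CfsgLib.Char
open scoped ComplexConjugate CfsgLib.Char Pointwise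

universe u

variable {G : Type u} [Group G] [Fintype G] {L : Subgroup G}

/-- The elements attached to the kernel. -/
abbrev tilde (L : Subgroup G) : Set G := tildeOf L ((sigmaCore L : Set G) \ {1})

/-- A coherent family of irreducible characters and the virtual character it is attached to. -/
structure LFam {ι : Type u} (L : Subgroup G) (β ψ : G → ℂ) (I : Finset ι) (f : ι → G → ℂ)
    (w : ι → ℕ) : Prop where
  mem : ∃ i ∈ I, f i = ψ ∧ w i = 1
  irr : ∀ i ∈ I, IsIrrCharacter G (f i)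
  conj_ne : ∀ i ∈ I, conjFun (f i) ≠ f i
  conj_mem : ∃ i ∈ I, f i = conjFun ψ
  inj : Set.InjOn f I
  sub_vanish : ∀ i ∈ I, ∀ g, g ∉ tilde L → f i g = conjFun (f i) g
  deg : (sigmaCore L).relIndex L * (∑ i ∈ I, w i ^ 2) + 1 = Nat.card (sigmaCore L)
  prop : ∀ θ : G → ℂ, (∀ g ∈ tilde L, θ g = 0) → ∀ i ∈ I,
    ‖classInner θ (f i)‖ = (w i : ℝ) * ‖classInner θ ψ‖
  gen : IsGeneralizedCharacter G β
  norm : classInner β β = (((sigmaCore L).relIndex L + 1 : ℕ) : ℂ)
  one : classInner β (fun _ => 1) = 1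
  conj_sub : ∃ s : ℤ, (s = 1 ∨ s = -1) ∧ conjFun β - β = (s : ℂ) • (ψ - conjFun ψ)
  vanish : ∀ g, g ∉ tilde L → β g = 0
  part : ∀ θ : G → ℂ, IsClassFunction G θ → (∀ i ∈ I, classInner θ (f i) = 0) → ∀ c : ℤ,
    classInner θ β = c → ∀ s : ℝ, ∀ [DecidablePred (· ∈ tilde L)],
    ((Nat.card (sigmaCore L) : ℝ) - 1) / Nat.card L * ((c : ℝ) ^ 2 + s * c) ≤
      (∑ g ∈ Finset.univ.filter (· ∈ tilde L), (‖θ g‖ ^ 2 + s * (θ g).re)) / Nat.card G

theorem dade_conjFun {A : Set G} {R : G → Subgroup G} (α : L → ℂ) :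
    dadeIsometry A L R (conjFun α) = conjFun (dadeIsometry A L R α) := by
  funext g
  simp only [conjFun, dadeIsometry]
  split_ifs <;> simp

theorem indFun_normal_apply_const {H : Type*} [Group H] [Fintype H] (N : Subgroup H) [N.Normal]
    (c : ℂ) (n : N) : indFun N (fun _ => c) (n : H) = (N.index : ℂ) * c := by
  rw [indFun_apply_of_normal]
  simp only [Finset.sum_const, Finset.card_univ, nsmul_eq_mul]
  rw [← Nat.card_eq_fintype_card, ← N.card_mul_index, Nat.cast_mul]
  have hN : (Nat.card N : ℂ) ≠ 0 := Nat.cast_ne_zero.mpr Nat.card_pos.ne'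
  field_simp

theorem exists_lfam (hG : IsMinSimpleOddOrder G) (hL : IsCoatom L) (hκ : kappa L = ∅)
    (hfrob : ∀ x ∈ fittingHallOf L, x ≠ 1 →
      L ⊓ Subgroup.centralizer ({x} : Set G) ≤ fittingHallOf L) :
    ∃ (β ψ : G → ℂ) (ι : Type u) (I : Finset ι) (f : ι → G → ℂ) (w : ι → ℕ),
      LFam L β ψ I f w := by
  classical
  haveI : Fintype L := Fintype.ofFinite _
  have hI := weakTypeI_of_kappa hG hL hκ
  have hcore := fittingHallOf_eq_of_kappa hG hL hκ
  set K := fittingHall L with hKdef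
  letI : Fintype K := Fintype.ofFinite K
  have hmk : ∀ x : L, x ∈ K ↔ (x : G) ∈ sigmaCore L := fun x => by
    rw [← hcore, mem_fittingHallOf_iff]
  have hC : ∀ k ∈ K, k ≠ 1 → ∀ y : L, y * k = k * y → y ∈ K := by
    intro k hk hk1 y hy
    rw [← mem_fittingHallOf_iff]
    exact hfrob k ((mem_fittingHallOf_iff k).mpr hk) (fun e => hk1 (Subtype.ext e))
      ⟨y.2, Subgroup.mem_centralizer_singleton_iff.mpr (congrArg Subtype.val hy)⟩
  have hA : ∀ y : L, (y : G) ∈ setA L ↔ y ∈ K ∧ y ≠ 1 := setA_eq_of_frobenius hfrob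
  have hAeq : setA L = (sigmaCore L : Set G) \ {1} := by
    ext a
    constructor
    · intro ha
      obtain ⟨h1, h2⟩ := (hA ⟨a, setA_subset L ha⟩).mp ha
      exact ⟨(hmk _).mp h1, fun e => h2 (Subtype.ext e)⟩
    · intro ha
      exact (hA ⟨a, OddLocal.piCoreOf_le _ L ha.1⟩).mpr
        ⟨(hmk _).mpr ha.1, fun e => ha.2 (congrArg Subtype.val e)⟩
  obtain ⟨hirr, -, τ₁, hτ₁, hτ⟩ := kappaEmpty_frobenius_coherent hG hL hκ hfrob
  set τ := dadeIsometry (setA L) L (supportR L) with hτdef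
  set S := inducedIrrAbove K ⊥ with hSdef
  have hD : DadeHypothesis (setA L) L (supportR L) :=
    dadeHypothesis_of_tame (tame_setA hG hL hκ) subset_rfl (setA_subset L) (one_notMem_setA L)
      fun _ hm _ ha => conj_mem_setA hm ha
  have htilde : ∀ g, g ∈ tilde L ↔
      ∃ a : L, (a : G) ∈ setA L ∧ ∃ x : G, ∃ r ∈ supportR L (a : G), x * g * x⁻¹ = (a : G) * r := by
    intro g
    constructor
    · rintro ⟨a, ha, r, hr, y, rfl⟩
      exact ⟨⟨a, OddLocal.piCoreOf_le _ L ha.1⟩, hAeq.ge ha, y⁻¹, r, hr, by group⟩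
    · rintro ⟨a, ha, x, r, hr, e⟩
      exact ⟨a, hAeq.le ha, r, hr, x⁻¹, by rw [← e]; group⟩
  have hsupp : ∀ (α : L → ℂ) g, g ∉ tilde L → τ α g = 0 := fun α g hg =>
    dade_value_zero fun h => hg ((htilde g).mpr h)
  have hSeq : S = {χ : L → ℂ | IsIrrCharacter L χ ∧ ∃ h ∈ K, χ h ≠ χ 1} :=
    (SibleyTIFN.nonconstant_eq K hC).symm
  have hvan : ∀ α ∈ zspanOn S {1}ᶜ, IsClassFunction L α ∧
      ∀ y : L, (y : G) ∉ setA L → α y = 0 := by
    intro α hα
    obtain ⟨hz, hα1⟩ := Coherence.mem_zspanOn_iff.mp hα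
    obtain ⟨hαg, hαK⟩ := SibleyTI.zspan_props L K hC hz
    refine ⟨isClassFunction_of_isGeneralized hαg, fun y hy => ?_⟩
    rcases eq_or_ne y 1 with rfl | hy1
    · exact hα1
    · exact hαK y fun hK => hy ((hA y).mpr ⟨hK, hy1⟩)
  -- the index set
  set J : Finset (IrrCharacter L) :=
    Finset.univ.filter fun χ : IrrCharacter L => ∃ z : L, z ∈ K ∧ (χ : L → ℂ) z ≠ (χ : L → ℂ) 1
    with hJ
  have hmemS : ∀ χ ∈ J, (χ : L → ℂ) ∈ S := fun χ hχ => by
    rw [hSeq]; exact ⟨χ.2, (Finset.mem_filter.mp hχ).2⟩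
  have hmemJ : ∀ φ ∈ S, ∃ χ ∈ J, (χ : L → ℂ) = φ := fun φ hφ => by
    rw [hSeq] at hφ
    exact ⟨⟨φ, hφ.1⟩, Finset.mem_filter.mpr ⟨Finset.mem_univ _, hφ.2⟩, rfl⟩
  -- the signed images
  have hsig : ∀ χ : IrrCharacter L, ∃ (φ : G → ℂ) (ε : ℤ), χ ∈ J →
      IsIrrCharacter G φ ∧ (ε = 1 ∨ ε = -1) ∧ τ₁ χ = (ε : ℂ) • φ := by
    intro χ
    by_cases hχ : χ ∈ J
    swap
    · exact ⟨0, 1, fun h => absurd h hχ⟩
    have hz := Coherence.subset_zspan (hmemS χ hχ)
    obtain ⟨ε, hε, ⟨ν, hν⟩, he⟩ := exists_of_norm_one (hτ₁.2.2.2 _ hz)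
      (by rw [hτ₁.2.2.1 _ hz _ hz, classInner_irr_self χ.2])
    rcases hε with rfl | rfl
    · exact ⟨ν, 1, fun _ => ⟨hν, Or.inl rfl, by simpa using he⟩⟩
    · exact ⟨ν, -1, fun _ => ⟨hν, Or.inr rfl, by simpa using he⟩⟩
  choose f ε hf using hsig
  have hss : ∀ χ ∈ J, (ε χ : ℂ) * (ε χ : ℂ) = 1 := fun χ hχ => by
    rcases (hf χ hχ).2.1 with e | e <;> rw [e] <;> simp
  have hinj : Set.InjOn f J := by
    intro χ hχ χ' hχ' e
    by_contra hne
    have h1 := hτ₁.2.2.1 _ (Coherence.subset_zspan (hmemS χ hχ)) _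
      (Coherence.subset_zspan (hmemS χ' hχ'))
    rw [classInner_irr_ne χ.2 χ'.2 (fun e' => hne (Subtype.ext e')), (hf χ hχ).2.2,
      (hf χ' hχ').2.2, e, classInner_smul_left, classInner_smul_right,
      classInner_irr_self (hf χ' hχ').1, map_intCast, mul_one] at h1
    rcases (hf χ hχ).2.1 with a | a <;> rcases (hf χ' hχ').2.1 with b | b <;>
      rw [a, b] at h1 <;> norm_num at h1
  -- conjugates
  have hcj : ∀ χ ∈ J, ∃ χ' ∈ J, (χ' : L → ℂ) = conjFun (χ : L → ℂ) := by
    intro χ hχ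
    obtain ⟨k, hk, hne⟩ := (Finset.mem_filter.mp hχ).2
    exact ⟨⟨_, isIrrCharacter_conj χ.2⟩, Finset.mem_filter.mpr ⟨Finset.mem_univ _, k, hk,
      fun e => hne ((starRingEnd ℂ).injective e)⟩, rfl⟩
  have hKtop : K < ⊤ := lt_top_iff_ne_top.mpr hI.1.2.2.2.1
  have hoddL : Odd (Nat.card L) := Odd.of_dvd_nat hG.1 (Subgroup.card_subgroup_dvd_card L)
  have hdiff : ∀ χ ∈ J, ∀ χ' ∈ J, (χ' : L → ℂ) = conjFun (χ : L → ℂ) →
      conjFun (f χ) ≠ f χ ∧ f χ' = conjFun (f χ) ∧ ε χ' = ε χ ∧
      τ ((χ : L → ℂ) - (χ' : L → ℂ)) = (ε χ : ℂ) • (f χ - conjFun (f χ)) := by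
    intro χ hχ χ' hχ' e
    have hne : (χ' : L → ℂ) ≠ χ := e ▸ SibleyTI.conj_ne L K hC hoddL hKtop (hmemS χ hχ)
    have hne' : f χ' ≠ f χ := fun e' => hne (congrArg Subtype.val (hinj hχ' hχ e'))
    have hz : (χ : L → ℂ) - (χ' : L → ℂ) ∈ zspanOn S {1}ᶜ :=
      Coherence.sub_mem_zspanOn (hmemS χ hχ) (hmemS χ' hχ')
        (by rw [e]; exact (Coherence.conjFun_one (isCharacter_of_isIrr χ.2)).symm)
    have h1 : τ ((χ : L → ℂ) - (χ' : L → ℂ)) = (ε χ : ℂ) • f χ - (ε χ' : ℂ) • f χ' := by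
      rw [← hτ _ hz, Coherence.map_sub_of_isometry hτ₁ (Coherence.subset_zspan (hmemS χ hχ))
        (Coherence.subset_zspan (hmemS χ' hχ'))
        (Coherence.zspan_zsmul _ (Coherence.subset_zspan (hmemS χ' hχ'))),
        (hf χ hχ).2.2, (hf χ' hχ').2.2]
    have hcf : IsIrrCharacter G (conjFun (f χ)) := isIrrCharacter_conj (hf χ hχ).1
    have hcf' : IsIrrCharacter G (conjFun (f χ')) := isIrrCharacter_conj (hf χ' hχ').1
    have h2 : conjFun (τ ((χ : L → ℂ) - (χ' : L → ℂ))) = -τ ((χ : L → ℂ) - (χ' : L → ℂ)) := by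
      rw [hτdef, ← dade_conjFun]
      funext g
      simp only [dadeIsometry, Pi.neg_apply]
      split_ifs
      · simp [e, conjFun]
      · simp
    rw [h1] at h2
    have h3 := congrArg (fun θ : G → ℂ => classInner θ (f χ)) h2
    simp only [show conjFun ((ε χ : ℂ) • f χ - (ε χ' : ℂ) • f χ') =
      (ε χ : ℂ) • conjFun (f χ) - (ε χ' : ℂ) • conjFun (f χ') from funext fun g => by simp [conjFun],
      show -((ε χ : ℂ) • f χ - (ε χ' : ℂ) • f χ') = (ε χ' : ℂ) • f χ' - (ε χ : ℂ) • f χ by abel,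
      classInner_sub_left, classInner_smul_left, classInner_irr_self (hf χ hχ).1,
      classInner_irr_ne (hf χ' hχ').1 (hf χ hχ).1 hne', mul_zero, zero_sub, mul_one] at h3
    have hcne : conjFun (f χ) ≠ f χ := by
      intro ec
      have hone := irr_real_of_odd hG.1 ⟨f χ, (hf χ hχ).1⟩
        fun g => Complex.conj_eq_iff_im.mp (congrFun ec g)
      have h4 := Coherence.conjFun_conjFun (f χ')
      have h5 : classInner (conjFun (f χ')) (f χ) = 0 := by
        refine classInner_irr_ne hcf' (hf χ hχ).1 fun e' => hne' ?_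
        rw [← h4, e', ec]
      rw [ec, classInner_irr_self (hf χ hχ).1, h5, mul_zero, mul_one, sub_zero] at h3
      rcases (hf χ hχ).2.1 with a | a <;> rw [a] at h3 <;> norm_num at h3
    rw [classInner_irr_ne hcf (hf χ hχ).1 hcne, mul_zero, zero_sub] at h3
    have h6 : conjFun (f χ') = f χ := by
      by_contra hne2
      rw [classInner_irr_ne hcf' (hf χ hχ).1 hne2, mul_zero, neg_zero] at h3
      rcases (hf χ hχ).2.1 with a | a <;> rw [a] at h3 <;> norm_num at h3
    have h7 : f χ' = conjFun (f χ) := by rw [← h6, Coherence.conjFun_conjFun]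
    rw [h6, classInner_irr_self (hf χ hχ).1, mul_one, neg_inj] at h3
    have h8 : ε χ' = ε χ := Int.cast_injective h3
    exact ⟨hcne, h7, h8, by rw [h1, h7, h8, smul_sub]⟩
  -- degrees
  set e := (sigmaCore L).relIndex L with hedef
  set m := Nat.card (sigmaCore L) with hmdef
  have hKm : Nat.card K = m := by
    rw [hmdef, ← hcore, fittingHallOf, Subgroup.card_map_of_injective L.subtype_injective]
  have hKe : K.index = e := by
    rw [hedef, ← hcore, Subgroup.relIndex, fittingHallOf, Subgroup.subgroupOf,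
      Subgroup.comap_map_eq_self_of_injective L.subtype_injective]
  have hepos : 0 < e := hKe ▸ Nat.pos_of_ne_zero Subgroup.index_ne_zero_of_finite
  have hdeg : ∀ χ : IrrCharacter L, ∃ d : ℕ, χ ∈ J → (χ : L → ℂ) 1 = ((e * d : ℕ) : ℂ) := by
    intro χ
    by_cases hχ : χ ∈ J
    swap
    · exact ⟨0, fun h => absurd h hχ⟩
    obtain ⟨θ, h0, -, -, he⟩ := hmemS χ hχ
    obtain ⟨d, hd⟩ := exists_nat_degree (isCharacter_of_isIrr h0)
    exact ⟨d, fun _ => by rw [he, indFun_one, hKe, hd, Nat.cast_mul]⟩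
  choose w hw using hdeg
  have hsum : e * (∑ χ ∈ J, w χ ^ 2) + 1 = m := by
    have h1 := sum_degree_mul_irr (G := L) 1
    rw [if_pos rfl, ← Finset.sum_filter_add_sum_filter_not Finset.univ
      (fun ψ : IrrCharacter L => ∃ z : L, z ∈ K ∧ (ψ : L → ℂ) z ≠ (ψ : L → ℂ) 1)] at h1
    have h2 := TIKernel.sum_sq_constant K
    rw [Finset.sum_ite, Finset.sum_const_zero, zero_add] at h2
    rw [h2, ← hJ, Finset.sum_congr rfl (g := fun χ => (((e * w χ) ^ 2 : ℕ) : ℂ)) fun χ hχ => by
      rw [hw χ hχ]; push_cast; ring, ← Nat.cast_sum, ← Nat.cast_add] at h1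
    have h3 := Nat.cast_injective h1
    rw [← K.card_mul_index, hKm, hKe] at h3
    simp only [mul_pow, ← Finset.mul_sum] at h3
    refine Nat.eq_of_mul_eq_mul_left hepos ?_
    rw [mul_comm m e] at h3
    rw [← h3]
    ring
  -- a character of least degree
  haveI : Nontrivial K := (Subgroup.nontrivial_iff_ne_bot K).mpr hI.1.2.2.1
  haveI : Group.IsNilpotent K := fittingHall_isNilpotent
  obtain ⟨θ, hθ1, -⟩ := exists_lin_ne_one (⊥ : Subgroup K) bot_ne_top
  set lam : K → ℂ := fun k => ((θ k : ℂˣ) : ℂ) with hlam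
  have hlam_irr : IsIrrCharacter K lam := isIrrCharacter_monoidHom θ
  have hζS : indFun K lam ∈ S := ⟨lam, hlam_irr, fun e' => hθ1 (MonoidHom.ext fun k =>
    Units.ext (congrFun e' k)), fun a ha => by
      rw [show a = 1 from Subtype.ext (Subgroup.mem_bot.mp ha)], rfl⟩
  obtain ⟨z, hz, hzeq⟩ := hmemJ _ hζS
  have hz1 : (z : L → ℂ) 1 = (e : ℂ) := by
    rw [hzeq, indFun_one, ← hKe]; simp [hlam]
  have hwz : w z = 1 := by
    have := (hw z hz).symm.trans hz1
    exact Nat.eq_of_mul_eq_mul_left hepos ((Nat.cast_injective this).trans (mul_one e).symm)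
  obtain ⟨z', hz', hz'eq⟩ := hcj z hz
  -- the base function
  set α₀ : L → ℂ := indFun K (fun _ => 1) - (z : L → ℂ) with hα₀
  have hone : IsIrrCharacter K (fun _ => 1) := isIrrCharacter_one
  have hα₀g : IsGeneralizedCharacter L α₀ := isGeneralized_sub
    (isGeneralized_indFun K (isGeneralized_of_isIrr hone)) (isGeneralized_of_isIrr z.2)
  have hα₀c := isClassFunction_of_isGeneralized hα₀g
  have hα₀1 : α₀ 1 = 0 := by
    rw [hα₀, Pi.sub_apply, indFun_one, hz1, hKe]; simp
  have hα₀A : ∀ y : L, (y : G) ∉ setA L → α₀ y = 0 := by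
    intro y hy
    rcases eq_or_ne y 1 with rfl | hy1
    · exact hα₀1
    · have hyK : y ∉ K := fun hK => hy ((hA y).mpr ⟨hK, hy1⟩)
      rw [hα₀, Pi.sub_apply, indFun_notMem_of_normal K _ hyK, hzeq,
        indFun_notMem_of_normal K _ hyK, sub_zero]
  have hzone : classInner (z : L → ℂ) (fun _ => 1) = 0 := by
    refine classInner_irr_ne z.2 isIrrCharacter_one fun e' => ?_
    obtain ⟨g, -, hg⟩ := SetLike.exists_of_lt hKtop
    have h1 := congrFun e' g
    rw [hzeq, indFun_notMem_of_normal K lam hg] at h1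
    exact zero_ne_one h1
  have hi1 : classInner (indFun K (fun _ => (1 : ℂ))) (fun _ => 1) = 1 := by
    rw [frobenius_reciprocity K _ (fun _ _ => rfl), classInner_irr_self hone]
  have hα₀one : classInner α₀ (fun _ => 1) = 1 := by
    rw [hα₀, classInner_sub_left, hi1, hzone, sub_zero]
  have hiz : classInner (indFun K (fun _ => (1 : ℂ))) (z : L → ℂ) = 0 := by
    rw [frobenius_reciprocity K _ (isClassFunction_of_isCharacter (isCharacter_of_isIrr z.2)),
      hzeq]
    by_contra hne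
    obtain ⟨k, hk, hkne⟩ := (Finset.mem_filter.mp hz).2
    refine hkne ?_
    have hne' : classInner (fun n : K => (z : L → ℂ) n) (fun _ => 1) ≠ 0 := fun e' => hne (by
      rw [← hzeq, ← classInner_conj_symm, e', map_zero])
    have h1 := clifford_invariant K z.2 hone (fun g => rfl) hne'
    exact (congrFun h1 ⟨k, hk⟩).trans (congrFun h1 1).symm
  have hii : classInner (indFun K (fun _ => (1 : ℂ))) (indFun K (fun _ => 1)) = (e : ℂ) := by
    rw [frobenius_reciprocity K _ (isClassFunction_indFun _ _),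
      show (fun n : K => indFun K (fun _ => (1 : ℂ)) (n : L)) = (fun _ => (e : ℂ)) from funext fun n => by
        rw [indFun_normal_apply_const K (1 : ℂ) n, hKe, mul_one],
      classInner]
    simp [← Nat.card_eq_fintype_card]
    field_simp
  set β := τ α₀ with hβdef
  refine ⟨β, f z, IrrCharacter L, J, f, w, ?_⟩
  refine
    { mem := ⟨z, hz, rfl, hwz⟩
      irr := fun i hi => (hf i hi).1
      conj_ne := fun i hi => ?_
      conj_mem := ⟨z', hz', (hdiff z hz z' hz' hz'eq).2.1⟩
      inj := hinj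
      sub_vanish := fun i hi g hg => ?_
      deg := hsum
      prop := fun θ hθ i hi => ?_
      gen := isGeneralized_dade hD hα₀g hα₀A
      norm := ?_
      one := ?_
      conj_sub := ⟨ε z, (hf z hz).2.1, ?_⟩
      vanish := fun g hg => hsupp α₀ g hg
      part := fun θ hθc hc0 c hcc s => ?_ }
  · obtain ⟨i', hi', hie⟩ := hcj i hi
    exact (hdiff i hi i' hi' hie).1
  · obtain ⟨i', hi', hie⟩ := hcj i hi
    have h1 := congrFun (hdiff i hi i' hi' hie).2.2.2 g
    rw [hsupp _ g hg] at h1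
    have h2 : (ε i : ℂ) ≠ 0 := fun e' => by simpa [e'] using hss i hi
    simp only [Pi.smul_apply, Pi.sub_apply, smul_eq_mul] at h1
    exact sub_eq_zero.mp ((mul_eq_zero.mp h1.symm).resolve_left h2)
  · have hα : (e : ℤ) • (i : L → ℂ) - ((e * w i : ℕ) : ℤ) • (z : L → ℂ) ∈ zspanOn S {1}ᶜ := by
      refine Coherence.mem_zspanOn_iff.mpr ⟨Coherence.zspan_sub
        (Coherence.zspan_zsmul _ (Coherence.subset_zspan (hmemS i hi)))
        (Coherence.zspan_zsmul _ (Coherence.subset_zspan (hmemS z hz))), ?_⟩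
      simp [hz1, hw i hi]; ring
    have h0 : classInner θ (τ ((e : ℤ) • (i : L → ℂ) - ((e * w i : ℕ) : ℤ) • (z : L → ℂ))) = 0 := by
      rw [classInner, Finset.sum_eq_zero fun g _ => ?_, mul_zero]
      by_cases hg : g ∈ tilde L
      · rw [hθ g hg, zero_mul]
      · rw [hsupp _ g hg, map_zero, mul_zero]
    rw [← hτ _ hα, Coherence.map_sub_of_isometry hτ₁
      (Coherence.zspan_zsmul _ (Coherence.subset_zspan (hmemS i hi)))
      (Coherence.zspan_zsmul _ (Coherence.subset_zspan (hmemS z hz)))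
      (Coherence.zspan_zsmul _ (Coherence.zspan_zsmul _ (Coherence.subset_zspan (hmemS z hz)))),
      hτ₁.2.1 _ (Coherence.subset_zspan (hmemS i hi)), hτ₁.2.1 _ (Coherence.subset_zspan (hmemS z hz)),
      (hf i hi).2.2, (hf z hz).2.2, ← Int.cast_smul_eq_zsmul ℂ, ← Int.cast_smul_eq_zsmul ℂ,
      smul_smul, smul_smul, classInner_sub_right, classInner_smul_right, classInner_smul_right] at h0
    simp only [Int.cast_natCast, Int.cast_mul, Nat.cast_mul, map_mul, map_natCast, map_intCast] at h0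
    have he0 : (e : ℂ) ≠ 0 := Nat.cast_ne_zero.mpr hepos.ne'
    have h1 : (ε i : ℂ) * classInner θ (f i) = (w i : ℂ) * ((ε z : ℂ) * classInner θ (f z)) :=
      mul_left_cancel₀ he0 (by linear_combination h0)
    have h2 := congrArg (fun t : ℂ => ‖t‖) h1
    have hn : ∀ j ∈ J, ‖(ε j : ℂ)‖ = 1 := fun j hj => by
      rcases (hf j hj).2.1 with a | a <;> rw [a] <;> simp
    simp only [norm_mul, hn i hi, hn z hz, Complex.norm_natCast, one_mul] at h2
    exact h2
  · rw [hβdef, dade_isometry hD hα₀c hα₀A hα₀c, hα₀, classInner_sub_left, classInner_sub_right,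
      classInner_sub_right, hii, hiz, classInner_irr_self z.2]
    rw [show classInner (z : L → ℂ) (indFun K fun _ => 1) = 0 by
      rw [← classInner_conj_symm, hiz, map_zero]]
    push_cast
    ring
  · rw [hβdef, dade_adjoint hD hα₀c hα₀A (ψ := fun _ => 1) (fun _ _ => rfl) fun a ha => ?_,
      hα₀one]
    rw [finsum_mem_eq_toFinset_sum, Finset.sum_const, nsmul_eq_mul, mul_one, Set.toFinset_card,
      ← Nat.card_eq_fintype_card]
    exact (inv_mul_cancel₀ (Nat.cast_ne_zero.mpr Nat.card_pos.ne')).symm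
  · rw [hβdef, ← (hdiff z hz z' hz' hz'eq).2.2.2, hτdef, ← dade_conjFun]
    funext g
    simp only [dadeIsometry, Pi.sub_apply]
    split_ifs with h
    · rw [hz'eq, hα₀]
      simp only [conjFun, Pi.sub_apply, map_sub]
      have : conj (indFun K (fun _ => (1 : ℂ)) (Classical.choose h)) =
          indFun K (fun _ => 1) (Classical.choose h) := by
        have h1 : IsCharacter L (indFun K (fun _ => (1 : ℂ))) :=
          isCharacter_indFun K (isCharacter_of_isIrr hone)
        simp only [indFun, map_mul, map_inv₀, map_natCast, map_sum]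
        refine congrArg _ (Finset.sum_congr rfl fun x _ => ?_)
        by_cases hx : x⁻¹ * Classical.choose h * x ∈ K
        · rw [extendByZero_mem K _ hx, map_one]
        · rw [extendByZero_notMem K _ hx, map_zero]
      rw [this]; ring
    · simp
  -- the weight
  · intro hdec
    set ρ : L → ℂ := fun a => if (a : G) ∈ setA L then
      (Nat.card (supportR L (a : G)) : ℂ)⁻¹ *
        ∑ᶠ u ∈ (supportR L (a : G) : Set G), θ ((a : G) * u) else 0 with hρ
    have hρA : ∀ a : L, (a : G) ∈ setA L → ρ a = (Nat.card (supportR L (a : G)) : ℂ)⁻¹ *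
        ∑ᶠ u ∈ (supportR L (a : G) : Set G), θ ((a : G) * u) := fun a ha => if_pos ha
    have hρc : IsClassFunction L ρ := by
      intro a m
      by_cases ha : (a : G) ∈ setA L
      · have ha' : ((m * a * m⁻¹ : L) : G) ∈ setA L := conj_mem_setA m.2 ha
        rw [hρA _ ha', hρA _ ha]
        simp only [Subgroup.coe_mul, Subgroup.coe_inv]
        rw [dade_card_H hD ha m.2, finsum_mem_eq_toFinset_sum, finsum_mem_eq_toFinset_sum]
        congr 1
        refine (Finset.sum_nbij' (fun u => (m : G) * u * (m : G)⁻¹) (fun u => (m : G)⁻¹ * u * m)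
          ?_ ?_ ?_ ?_ ?_).symm
        · intro u hu
          rw [Set.mem_toFinset, SetLike.mem_coe] at hu ⊢
          exact dade_conj_H hD ha m.2 hu
        · intro u hu
          rw [Set.mem_toFinset, SetLike.mem_coe] at hu ⊢
          have := dade_conj_H hD (conj_mem_setA m.2 ha) (inv_mem m.2) hu
          simpa [mul_assoc] using this
        · intro u _; group
        · intro u _; group
        · intro u _
          rw [show (m : G) * a * (m : G)⁻¹ * ((m : G) * u * (m : G)⁻¹) =
            (m : G) * ((a : G) * u) * (m : G)⁻¹ by group, hθc]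
      · have ha' : ((m * a * m⁻¹ : L) : G) ∉ setA L := fun h1 => ha (by
          simpa [mul_assoc] using conj_mem_setA (inv_mem m.2) h1)
        simp only [hρ]
        rw [if_neg ha, if_neg ha']
    -- `ρ` is constant on the kernel
    have hperp : ∀ χ ∈ J, classInner (τ₁ (χ : L → ℂ)) θ = 0 := fun χ hχ => by
      rw [(hf χ hχ).2.2, classInner_smul_left, ← classInner_conj_symm, hc0 χ hχ, map_zero, mul_zero]
    have hprop : ∀ χ ψ : L → ℂ, IsIrrCharacter L χ → IsIrrCharacter L ψ → NontrivOn K χ →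
        NontrivOn K ψ → ψ 1 * classInner ρ χ = χ 1 * classInner ρ ψ := by
      intro χ ψ hχ hψ hχK hψK
      obtain ⟨a, ha⟩ := exists_nat_degree (isCharacter_of_isIrr hχ)
      obtain ⟨b, hb⟩ := exists_nat_degree (isCharacter_of_isIrr hψ)
      have hχS : χ ∈ S := hSeq.ge ⟨hχ, hχK⟩
      have hψS : ψ ∈ S := hSeq.ge ⟨hψ, hψK⟩
      obtain ⟨i, hi, rfl⟩ := hmemJ χ hχS
      obtain ⟨j, hj, rfl⟩ := hmemJ ψ hψS
      have hα : (b : ℤ) • (i : L → ℂ) - (a : ℤ) • (j : L → ℂ) ∈ zspanOn S {1}ᶜ := by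
        refine Coherence.mem_zspanOn_iff.mpr ⟨Coherence.zspan_sub
          (Coherence.zspan_zsmul _ (Coherence.subset_zspan hχS))
          (Coherence.zspan_zsmul _ (Coherence.subset_zspan hψS)), ?_⟩
        simp [ha, hb]; ring
      have h0 : classInner (τ ((b : ℤ) • (i : L → ℂ) - (a : ℤ) • (j : L → ℂ))) θ = 0 := by
        rw [← hτ _ hα, Coherence.map_sub_of_isometry hτ₁
          (Coherence.zspan_zsmul _ (Coherence.subset_zspan hχS))
          (Coherence.zspan_zsmul _ (Coherence.subset_zspan hψS))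
          (Coherence.zspan_zsmul _ (Coherence.zspan_zsmul _ (Coherence.subset_zspan hψS))),
          hτ₁.2.1 _ (Coherence.subset_zspan hχS), hτ₁.2.1 _ (Coherence.subset_zspan hψS),
          ← Int.cast_smul_eq_zsmul ℂ, ← Int.cast_smul_eq_zsmul ℂ, classInner_sub_left,
          classInner_smul_left, classInner_smul_left, hperp i hi, hperp j hj]
        simp
      rw [dade_adjoint hD (hvan _ hα).1 (hvan _ hα).2 hθc hρA, ← Int.cast_smul_eq_zsmul ℂ,
        ← Int.cast_smul_eq_zsmul ℂ, classInner_sub_left, classInner_smul_left,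
        classInner_smul_left, Int.cast_natCast, Int.cast_natCast] at h0
      have h1 := congrArg (starRingEnd ℂ) h0
      simp only [map_sub, map_mul, map_natCast, map_zero, classInner_conj_symm] at h1
      rw [ha, hb]
      linear_combination h1
    have hconst : ∀ a : L, (a : G) ∈ setA L → ρ a = (c : ℂ) := by
      intro a ha
      have h1 : classInner β θ = conj (ρ a) := by
        rw [hβdef, dade_adjoint hD hα₀c hα₀A hθc hρA]
        have h2 : classInner α₀ ρ = conj (ρ a) * classInner α₀ (fun _ => 1) := by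
          simp only [classInner, Finset.mul_sum]
          refine Finset.sum_congr rfl fun y _ => ?_
          by_cases hy : (y : G) ∈ setA L
          · rw [const_of_orth hρc hprop ((hA y).mp hy).1 ((hA y).mp hy).2 ((hA a).mp ha).1
              ((hA a).mp ha).2]
            simp only [map_one]; ring
          · rw [hα₀A y hy]; ring
        rw [h2, hα₀one, mul_one]
      rw [← classInner_conj_symm, hcc, map_intCast] at h1
      have h3 := congrArg (starRingEnd ℂ) h1
      simpa using h3.symm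
    -- the number of elements
    set F := Finset.univ.filter fun a : L => (a : G) ∈ setA L with hF
    have hFc : (F.card : ℝ) = (m : ℝ) - 1 := by
      have h1 : F = (Finset.univ.filter fun a : L => a ∈ K).erase 1 := by
        ext a
        rw [hF, Finset.mem_filter, Finset.mem_erase, Finset.mem_filter, hA a]
        tauto
      rw [h1, Finset.card_erase_of_mem (Finset.mem_filter.mpr ⟨Finset.mem_univ _, K.one_mem⟩),
        ← Fintype.card_subtype, ← Nat.card_eq_fintype_card, hKm,
        Nat.cast_sub (hKm ▸ Nat.card_pos), Nat.cast_one]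
    -- the linear part
    set one_A : L → ℂ := fun a => if (a : G) ∈ setA L then 1 else 0 with honeA
    have hlin : (∑ g ∈ Finset.univ.filter (· ∈ tilde L), (θ g).re) / (Nat.card G : ℝ) =
        ((m : ℝ) - 1) / Nat.card L * (c : ℝ) := by
      have hcl : IsClassFunction L one_A := fun a b => by
        by_cases ha : (a : G) ∈ setA L
        · simp only [honeA]
          rw [if_pos ha, if_pos (show ((b * a * b⁻¹ : L) : G) ∈ setA L from conj_mem_setA b.2 ha)]
        · simp only [honeA]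
          rw [if_neg ha, if_neg fun h1 : ((b * a * b⁻¹ : L) : G) ∈ setA L => ha (by
            simpa [mul_assoc] using conj_mem_setA (inv_mem b.2) h1)]
      have hdA : ∀ g, τ one_A g = if g ∈ tilde L then 1 else 0 := by
        intro g
        by_cases hg : g ∈ tilde L
        · obtain ⟨a, ha, x, r, hr, e'⟩ := (htilde g).mp hg
          rw [if_pos hg, hτdef, dade_value hD hcl ha hr e', honeA]
          exact if_pos ha
        · rw [if_neg hg, hsupp _ g hg]
      have h1 := dade_adjoint hD hcl (fun a ha => if_neg ha) hθc hρA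
      rw [← hτdef] at h1
      simp only [classInner, hdA] at h1
      simp only [ite_mul, one_mul, zero_mul, ← Finset.sum_filter, honeA, ← hF] at h1
      rw [Finset.sum_congr rfl fun a ha => show conj (ρ a) = (c : ℂ) by
        rw [hconst a (Finset.mem_filter.mp ha).2, map_intCast], Finset.sum_const, nsmul_eq_mul] at h1
      have h2 := congrArg Complex.re h1
      simp only [show ((Nat.card G : ℂ))⁻¹ = (((Nat.card G : ℝ))⁻¹ : ℝ) by push_cast; rfl,
        show ((Nat.card L : ℂ))⁻¹ * ((F.card : ℂ) * (c : ℂ)) =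
          (((Nat.card L : ℝ))⁻¹ * ((F.card : ℝ) * (c : ℝ)) : ℝ) by push_cast; rfl,
        Complex.re_ofReal_mul, Complex.ofReal_re, Complex.re_sum, Complex.conj_re] at h2
      rw [div_eq_inv_mul, h2, hFc]
      ring
    -- the quadratic part
    have hquad : ((m : ℝ) - 1) / Nat.card L * (c : ℝ) ^ 2 ≤
        (∑ g ∈ Finset.univ.filter (· ∈ tilde L), ‖θ g‖ ^ 2) / (Nat.card G : ℝ) := by
      have h1 := Cfsg.Agent.S1525.result (setA L) L (supportR L) hD θ hθc ρ hρA
      have hset : ({g : G | ∃ a ∈ setA L, ∃ u ∈ supportR L a, ∃ x : G, x * g * x⁻¹ = a * u} : Set G).toFinset =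
          Finset.univ.filter (· ∈ tilde L) := by
        ext g
        rw [Set.mem_toFinset, Finset.mem_filter, htilde g]
        constructor
        · rintro ⟨a, ha, r, hr, x, e'⟩
          exact ⟨Finset.mem_univ _, ⟨a, setA_subset L ha⟩, ha, x, r, hr, e'⟩
        · rintro ⟨-, a, ha, x, r, hr, e'⟩
          exact ⟨a, ha, r, hr, x, e'⟩
      rw [finsum_mem_eq_toFinset_sum, finsum_mem_eq_toFinset_sum, hset, Set.toFinset_setOf, ← hF,
        Finset.sum_congr rfl fun a ha => show ‖ρ a‖ ^ 2 = (c : ℝ) ^ 2 by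
          rw [hconst a (Finset.mem_filter.mp ha).2, Complex.norm_intCast, sq_abs],
        Finset.sum_const, nsmul_eq_mul, hFc, ← div_eq_inv_mul, ← div_eq_inv_mul] at h1
      rw [div_mul_eq_mul_div]
      exact h1
    rw [Finset.sum_add_distrib, ← Finset.mul_sum, add_div, mul_div_assoc, hlin, hmdef]
    rw [hmdef] at hquad
    linarith [mul_add (((Nat.card (sigmaCore L) : ℝ) - 1) / Nat.card L) ((c : ℝ) ^ 2) (s * c)]

end CfsgLib.Peterfalvi.Pair
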