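import Cfsg.Agent.Lib.Peterfalvi.Pair.LinConj
import Cfsg.Agent.Lib.Char.Constituents

/-!
Induction of linear characters of `F(M)` to `M`.
-/

set_option autoImplicit false
set_option linter.style.haveILetI false
set_option linter.unusedSectionVars false

namespace CfsgLib.Peterfalvi.Pair

open Cfsg CfsgLib.Char
open scoped ComplexConjugate CfsgLib.Char

universe u

variable {G : Type u} [Group G] [Fintype G]

/-- A linear character as a function with complex values. -/
def cl {H : Subgroup G} (χ : Lin H) : H → ℂ := fun x => (χ x : ℂ)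

theorem cl_one {H : Subgroup G} (χ : Lin H) : cl χ 1 = 1 := by simp [cl]

theorem cl_inj {H : Subgroup G} {χ χ' : Lin H} (e : cl χ = cl χ') : χ = χ' :=
  MonoidHom.ext fun x => Units.ext (congrFun e x)

theorem conjFun_cl {H : Subgroup G} (χ : Lin H) : conjFun (cl χ) = cl χ⁻¹ := by
  funext x
  simp only [conjFun, cl, MonoidHom.inv_apply, Units.val_inv_eq_inv_val]
  rw [Complex.inv_eq_conj]
  exact Complex.norm_eq_one_of_pow_eq_one (n := Nat.card H)
    (by rw [← Units.val_pow_eq_pow_val, ← map_pow, pow_card_eq_one', map_one, Units.val_one])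
    Nat.card_pos.ne'

/-- Induction to `M` from a subgroup of `G`. -/
noncomputable def toM (M : Subgroup G) [Fintype M] {H : Subgroup G} (ψ : H → ℂ) : M → ℂ :=
  indFun (H.subgroupOf M) fun x => ψ ⟨((x : M) : G), Subgroup.mem_subgroupOf.mp x.2⟩

variable {M : Subgroup G} [Fintype M]

theorem indFun_toM {H : Subgroup G} (hH : H ≤ M) (ψ : H → ℂ) :
    indFun M (toM M ψ) = indFun H ψ := indFun_trans H M hH ψ

theorem toM_sub {H : Subgroup G} (ψ ψ' : H → ℂ) : toM M (ψ - ψ') = toM M ψ - toM M ψ' := by
  rw [toM, toM, toM, ← indFun_sub]; rfl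

theorem toM_one_apply {H : Subgroup G} (ψ : H → ℂ) :
    toM M ψ 1 = ((H.relIndex M : ℕ) : ℂ) * ψ 1 := by
  rw [toM, indFun_one]; rfl

theorem fittingOf_le_self (M : Subgroup G) : fittingOf M ≤ M := Subgroup.map_subtype_le _

theorem normal_fittingM (M : Subgroup G) : ((fittingOf M).subgroupOf M).Normal :=
  (Subgroup.normal_subgroupOf_iff_le_normalizer (fittingOf_le_self M)).mpr
    (le_normalizer_fittingOf M)

/-- The character of `F(M)` seen in `M`. -/
def thM (M : Subgroup G) (χ : Lin (fittingOf M)) : (fittingOf M).subgroupOf M → ℂ :=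
  fun x => cl χ ⟨((x : M) : G), Subgroup.mem_subgroupOf.mp x.2⟩

theorem isIrr_thM (χ : Lin (fittingOf M)) : IsIrrCharacter _ (thM M χ) :=
  isIrrCharacter_monoidHom
    (χ.comp (Subgroup.subgroupOfEquivOfLe (fittingOf_le_self M)).toMonoidHom)

theorem thM_inj {χ χ' : Lin (fittingOf M)} (e : thM M χ = thM M χ') : χ = χ' :=
  cl_inj (funext fun x => congrFun e ⟨⟨x, fittingOf_le_self M x.2⟩, x.2⟩)

theorem conjBy_thM (χ : Lin (fittingOf M)) (m : M) :
    haveI := normal_fittingM M
    conjBy ((fittingOf M).subgroupOf M) (thM M χ) m = thM M (tw χ m) := rfl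

theorem inertia_thM (χ : Lin (fittingOf M)) :
    haveI := normal_fittingM M
    inertia ((fittingOf M).subgroupOf M) (thM M χ) = linStab χ := by
  haveI := normal_fittingM M
  refine Subgroup.ext fun m => ?_
  rw [mem_inertia, conjBy_thM, mem_linStab]
  exact ⟨thM_inj, fun e => by rw [e]⟩

/-- Inner products of characters induced from `F(M)`. -/
theorem classInner_toM_toM (χ χ' : Lin (fittingOf M)) [Decidable (∃ m, tw χ' m = χ)] :
    classInner (toM M (cl χ)) (toM M (cl χ')) = if ∃ m, tw χ' m = χ then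
      (Nat.card (linStab χ') : ℂ) / (Nat.card (fittingOf M) : ℂ) else 0 := by
  classical
  haveI := normal_fittingM M
  haveI : Fintype ↥((fittingOf M).subgroupOf M) := Fintype.ofFinite _
  have h := classInner_indFun_indFun ((fittingOf M).subgroupOf M) (isIrr_thM χ') (isIrr_thM χ)
  rw [show toM M (cl χ) = indFun _ (thM M χ) from rfl,
    show toM M (cl χ') = indFun _ (thM M χ') from rfl, h, inertia_thM,
    Nat.card_congr (Subgroup.subgroupOfEquivOfLe (fittingOf_le_self M)).toEquiv]
  refine if_congr ?_ rfl rfl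
  rw [mem_orbit]
  refine exists_congr fun m => ?_
  rw [conjBy_thM]
  exact ⟨thM_inj, fun e => by rw [e]⟩

theorem isClassFunction_toM {H : Subgroup G} (ψ : H → ℂ) : IsClassFunction M (toM M ψ) :=
  isClassFunction_indFun _ _

theorem isGeneralized_toM {H : Subgroup G} (hH : H ≤ M) {χ : Lin H} :
    IsGeneralizedCharacter M (toM M (cl χ)) :=
  isGeneralized_indFun _ (isGeneralized_of_isIrr (isIrrCharacter_monoidHom
    (χ.comp (Subgroup.subgroupOfEquivOfLe hH).toMonoidHom)))

theorem conjFun_toM {H : Subgroup G} (χ : Lin H) :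
    conjFun (toM M (cl χ)) = toM M (cl χ⁻¹) := by
  classical
  have he : ∀ x : M, conjFun (toM M (cl χ)) x = toM M (conjFun (cl χ)) x := fun x => by
    simp only [conjFun, toM, indFun, map_mul, map_inv₀, map_natCast, map_sum]
    congr 1
    refine Finset.sum_congr rfl fun g _ => ?_
    by_cases hg : g⁻¹ * x * g ∈ H.subgroupOf M
    · rw [extendByZero_mem _ _ hg, extendByZero_mem _ _ hg]
    · rw [extendByZero_notMem _ _ hg, extendByZero_notMem _ _ hg, map_zero]
  rw [funext he, conjFun_cl]

end CfsgLib.Peterfalvi.Pair
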