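import Cfsg.Agent.Lib.Peterfalvi.Pair.Coeff
import Cfsg.Agent.Lib.OddOrder.FieldFromFpf
import Cfsg.Agent.S1472
import Cfsg.Agent.S1546

/-!
The orders attached to the neighbour of a full side, and the final field configuration.
-/

set_option autoImplicit false
set_option linter.style.haveILetI false
set_option linter.unusedSectionVars false

namespace CfsgLib.Peterfalvi.Pair

open Cfsg CfsgLib.Char
open CfsgLib.BG.FixedLine (conj_mem_of_le_normalizer mem_normalizer_of_conj)
open scoped Pointwise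

universe u

variable {G : Type u} [Group G] [Fintype G] {M K U W M' V L : Subgroup G}
  {h : Side M K U W} {h' : Side M' W V K}

/-- The field configuration. -/
theorem card_W_le_card_K (hf : IsFull h) (hf' : IsFull h') {y : G} (hy : y ∈ fittingHallOf M')
    (hN : ∀ x ∈ W, y * x * y⁻¹ ∈ Subgroup.normalizer (U : Set G)) : Nat.card W ≤ Nat.card K := by
  classical
  haveI : Fact (Nat.card W).Prime := ⟨h.primeW⟩
  haveI : Fact (Nat.card K).Prime := ⟨h.primeK⟩
  set p := Nat.card W with hp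
  set q := Nat.card K with hq
  set P := fittingHallOf M with hP
  haveI : IsMulCommutative P := ⟨⟨fun a b => Subtype.ext (hf.abel a a.2 b b.2)⟩⟩
  haveI : IsMulCommutative (fittingHallOf M') :=
    ⟨⟨fun a b => Subtype.ext (hf'.abel a a.2 b b.2)⟩⟩
  haveI : IsMulCommutative U := by
    haveI := hf.cyclic
    exact ⟨⟨fun a b => IsCyclic.commGroup.mul_comm a b⟩⟩
  have hp2 : p ≠ 2 := by have := h.three_le_W; omega
  have hq2 : q ≠ 2 := by have := h.three_le_K; omega
  have hgeom : Nat.card U = (p ^ q - 1) / (p - 1) := by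
    rw [hf.card_U, Nat.geomSum_eq h.primeW.two_le]
  have hmod : p % q ≠ 1 := fun e => hf.not_modEq (by
    rw [Nat.ModEq, Nat.one_mod_eq_one.mpr (by have := h.three_le_K; omega)]; exact e)
  have hco := ((Cfsg.Agent.S1546.result p q h.primeW h.primeK hp2 hq2).2.2 hmod).1
  have hUp : Nat.card U * (p - 1) = p ^ q - 1 := by
    rw [hgeom, Nat.div_mul_cancel (Nat.sub_one_dvd_pow_sub_one p q)]
  have hU1 : Nat.card U ≠ 1 := fun e => h.U_ne (Subgroup.card_eq_one.mp e)
  obtain ⟨F, _, _, f, ψ, hF, hbij, hadd, hψ, hmul, hinj, hP₀⟩ :=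
    CfsgLib.FieldFromFpf.exists_field (p := p) (q := q) U P h.U_le_normalizer_P
      (fun a ha ha1 x hx e => hf.free a ha ha1 x hx (mul_inv_eq_iff_eq_mul.mp e))
      hf.card_P (hgeom ▸ hco) hU1 ⟨p - 1, hUp.symm⟩ hf.expo (P₀ := W) (W_le h.hP) rfl
  refine Cfsg.Agent.S1472.result p q hco F hF P U (fittingHallOf M') f ψ hbij hadd
    h.U_le_normalizer_P hψ hmul hinj hUp inferInstance ?_ (fun x hx e => ?_) y hy
    (fun x hx e => hN x (hP₀ x hx e))
  · rw [hf'.card_P]
    exact ((Nat.coprime_primes h.primeK h.primeW).mpr h.prime_ne).pow_left _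
  · exact le_normalizer_fittingHallOf M' (K_le h'.hP (hP₀ x hx e))

theorem geom_modEq_one (p n : ℕ) : (∑ i ∈ Finset.range (n + 1), p ^ i) ≡ 1 [MOD p] := by
  rw [Finset.sum_range_succ', pow_zero]
  nth_rw 2 [← zero_add 1]
  refine Nat.ModEq.add_right _ (Nat.modEq_zero_iff_dvd.mpr ?_)
  exact Finset.dvd_sum fun i _ => dvd_pow_self p (Nat.succ_ne_zero i)

theorem IsFull.u'_modEq_one (hf : IsFull h) : h.u' ≡ 1 [MOD 2 * (Nat.card K * Nat.card W)] := by
  have hK : Odd (Nat.card K) := h.odd_G.of_dvd_nat K.card_subgroup_dvd_card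
  have hW : Odd (Nat.card W) := h.odd_G.of_dvd_nat W.card_subgroup_dvd_card
  have h2 : Nat.Coprime 2 (Nat.card K * Nat.card W) := Nat.coprime_two_left.mpr (hK.mul hW)
  refine (Nat.modEq_and_modEq_iff_modEq_mul h2).mp ⟨?_, ?_⟩
  · rw [Nat.ModEq, hf.u'_eq]
    exact Nat.odd_iff.mp (h.odd_G.of_dvd_nat U.card_subgroup_dvd_card)
  · refine (Nat.modEq_and_modEq_iff_modEq_mul
      ((Nat.coprime_primes h.primeK h.primeW).mpr h.prime_ne)).mp ⟨h.u'_modEq, ?_⟩
    rw [hf.u'_eq, hf.card_U, ← Nat.sub_add_cancel h.primeK.pos]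
    exact geom_modEq_one _ _

namespace Nbr

variable (n : Nbr M K U W M' L)
include n

theorem core_eq : fittingHallOf L = sigmaCore L := fittingHallOf_eq_of_kappa n.hG n.hL n.kappa

theorem relIndex_eq_card : (sigmaCore L).relIndex L = Nat.card ↥(L ⊓ M') := by
  rw [← n.core_eq]
  exact OddLocal.relIndex_right_of_isComplIn n.compl

theorem card_L : Nat.card L = Nat.card (sigmaCore L) * (sigmaCore L).relIndex L := by
  rw [Subgroup.relIndex, ← Subgroup.card_mul_index ((sigmaCore L).subgroupOf L),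
    Nat.card_congr (Subgroup.subgroupOfEquivOfLe
      (show sigmaCore L ≤ L from OddLocal.piCoreOf_le _ L)).toEquiv]

theorem u_dvd : Nat.card U ∣ Nat.card (sigmaCore L) :=
  n.core_eq ▸ Subgroup.card_dvd_of_le n.U_le

theorem odd_m : Odd (Nat.card (sigmaCore L)) :=
  n.hG.1.of_dvd_nat (sigmaCore L).card_subgroup_dvd_card

theorem index_cases (h : Side M K U W) (hf' : IsFull h') :
    (sigmaCore L).relIndex L = Nat.card K ∧ L ⊓ M' = K ∨
      (sigmaCore L).relIndex L = Nat.card K * Nat.card W ∧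
        ∃ y ∈ fittingHallOf M', L ⊓ M' = K ⊔ MulAut.conj y • W := by
  rw [n.relIndex_eq_card]
  rcases n.cases with e | ⟨y, hy, e⟩
  · exact Or.inl ⟨by rw [e], e⟩
  · refine Or.inr ⟨?_, y, hy, e⟩
    rw [e, Coprime.card_sup_of_coprime, Coprime.card_conj_smul]
    · refine fun a ha => mem_normalizer_of_conj fun k hk => ?_
      obtain ⟨w, hw, rfl⟩ := ha
      simp only [MulDistribMulAction.toMonoidEnd_apply, MulDistribMulAction.toMonoidHom_apply,
        MulAut.smul_def, MulAut.conj_apply]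
      have hyk : Commute y k := hf'.abel y hy k (W_le h'.hP hk)
      rw [show y * w * y⁻¹ * k * (y * w * y⁻¹)⁻¹ = y * w * (y⁻¹ * k * y) * w⁻¹ * y⁻¹ by group,
        mul_assoc y⁻¹ k y, hyk.symm.eq, inv_mul_cancel_left, mul_assoc y w k,
        CyclicTI.comm_of h'.hP.selfNormalizing w hw k hk,
        show y * (k * w) * w⁻¹ * y⁻¹ = y * k * y⁻¹ by group, hyk.eq, mul_inv_cancel_right]
      exact hk
    · rw [Coprime.card_conj_smul]
      exact (Nat.coprime_primes h.primeK h.primeW).mpr h.prime_ne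

variable (hf : IsFull h) (hf' : IsFull h')
include hf hf'

theorem away : Away M K W M' L where
  hG := n.hG
  hL := n.hL
  sharp := fun _ hg => n.not_mem_conjSharp hf hf' hg
  sharp' := fun _ hg => n.not_mem_conjSharp' hf hf' hg
  ti := fun _ hg => n.not_mem_conjTI hf hf' hg
  a0 := fun _ hg => n.not_mem_conjA0 hf hf' hg
  a0' := fun _ hg => n.not_mem_conjA0' hf hf' hg
  index_le := by
    rcases n.index_cases h hf' with ⟨e, -⟩ | ⟨e, -⟩ <;> rw [e]
    exact Nat.le_mul_of_pos_right _ Nat.card_pos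
  seven_le := by
    refine le_trans ?_ (Nat.le_of_dvd Nat.card_pos n.u_dvd)
    rw [← hf.u'_eq]
    have := h.u'_ge; have := h.three_le_K; omega

/-- If the index is `|K|`, the core is larger than `U`. -/
theorem ne_card_U (he : (sigmaCore L).relIndex L = Nat.card K) :
    Nat.card (sigmaCore L) ≠ Nat.card U := fun hm => by
  have hU : fittingHallOf L = U :=
    (Subgroup.eq_of_le_of_card_ge n.U_le (by rw [n.core_eq, hm])).symm
  rcases n.index_cases h hf' with ⟨-, e⟩ | ⟨e, -⟩
  · have hLM : L ≤ M := fun x hx => by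
      obtain ⟨a, ha, b, hb, rfl⟩ := n.compl.2.2.2 x hx
      rw [e] at ha
      rw [hU] at hb
      exact mul_mem (K_le h.hP ha) (CfsgLib.Peterfalvi.Pair.U_le h.hP hb)
    have hLeq : L = M := (eq_or_lt_of_le hLM).resolve_right fun hlt => h.hM.1 (n.hL.2 M hlt)
    have h1 := n.card_L
    rw [hm, he, hLeq, h.card_M] at h1
    have h2 : 1 < Nat.card (fittingHallOf M) := by
      rw [hf.card_P]; exact Nat.one_lt_pow h.primeK.ne_zero h.primeW.one_lt
    have h3 : 0 < Nat.card U * Nat.card K := Nat.mul_pos Nat.card_pos Nat.card_pos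
    nlinarith
  · rw [he] at e
    have := h.primeW.one_lt
    have := h.primeK.pos
    nlinarith

/-- If the core is `U` then `|W| ≤ |K|`. -/
theorem card_le_of_eq_card_U (hm : Nat.card (sigmaCore L) = Nat.card U) :
    Nat.card W ≤ Nat.card K := by
  have hU : fittingHallOf L = U :=
    (Subgroup.eq_of_le_of_card_ge n.U_le (by rw [n.core_eq, hm])).symm
  rcases n.index_cases h hf' with ⟨he, -⟩ | ⟨-, y, hy, e⟩
  · exact absurd hm (n.ne_card_U hf hf' he)
  · refine card_W_le_card_K hf hf' hy fun x hx => ?_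
    have hxL : y * x * y⁻¹ ∈ L :=
      ((le_sup_right : MulAut.conj y • W ≤ K ⊔ MulAut.conj y • W).trans e.ge ⟨x, hx, rfl⟩).1
    have := le_normalizer_fittingHallOf L hxL
    rwa [hU] at this

/-- The family bound forces the core to be `U`. -/
theorem eq_card_U_of_small {S : ℕ}
    (hdeg : (sigmaCore L).relIndex L * S + 1 = Nat.card (sigmaCore L))
    (hS : Nat.card K * S ≤ h.u' - 1) : Nat.card (sigmaCore L) = Nat.card U := by
  have hud := n.u_dvd
  obtain ⟨k, hk⟩ := hud
  have hu := hf.u'_eq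
  have hu1 : 7 ≤ h.u' := by have := h.u'_ge; have := h.three_le_K; omega
  have hk0 : k ≠ 0 := by rintro rfl; simp at hdeg hk; omega
  rcases n.index_cases h hf' with ⟨he, -⟩ | ⟨he, -⟩ <;> rw [he] at hdeg
  · refine le_antisymm ?_ (Nat.le_of_dvd Nat.card_pos n.u_dvd)
    omega
  · -- `k ≡ 1 [MOD 2 q p]`
    set q := Nat.card K with hq
    set p := Nat.card W with hp
    have h1 : h.u' * k ≡ 1 [MOD 2 * (q * p)] := by
      refine (Nat.modEq_and_modEq_iff_modEq_mul (Nat.coprime_two_left.mpr ?_)).mp ⟨?_, ?_⟩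
      · exact (h.odd_G.of_dvd_nat K.card_subgroup_dvd_card).mul
          (h.odd_G.of_dvd_nat W.card_subgroup_dvd_card)
      · rw [Nat.ModEq, hu, ← hk]
        exact Nat.odd_iff.mp n.odd_m
      · rw [hu, ← hk, ← hdeg]
        show q * p * S + 1 ≡ 1 [MOD q * p]
        simp [Nat.ModEq, Nat.add_mod]
    have h2 : k ≡ 1 [MOD 2 * (q * p)] := by
      have := (hf.u'_modEq_one.mul_right k).symm.trans h1
      rwa [one_mul] at this
    have hk1 : k < p + 1 := by
      by_contra hge
      push Not at hge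
      have h3 : h.u' * (p + 1) ≤ h.u' * k := Nat.mul_le_mul_left _ hge
      have h4 : q * p * S ≤ p * (h.u' - 1) := by
        calc q * p * S = p * (q * S) := by ring
          _ ≤ _ := Nat.mul_le_mul_left _ hS
      have h5 : p * (h.u' - 1) + p = p * h.u' := by
        rw [← Nat.mul_succ, show (h.u' - 1).succ = h.u' by omega]
      rw [hu] at h3 h5 h4
      have h6 : Nat.card U * (p + 1) = p * Nat.card U + Nat.card U := by ring
      omega
    have hlt : k < 2 * (q * p) := by
      have := h.three_le_K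
      have := h.three_le_W
      nlinarith
    rw [Nat.ModEq, Nat.mod_eq_of_lt hlt, Nat.mod_eq_of_lt (by omega)] at h2
    rw [hk, h2, mul_one]

end Nbr

/-- The outcome for the neighbour when `|K| < |W|`. -/
theorem Nbr.outcome (n : Nbr M K U W M' L) (hf : IsFull h) (hf' : IsFull h')
    (hlt : Nat.card K < Nat.card W) :
    (sigmaCore L).relIndex L = Nat.card K * Nat.card W ∧
      Nat.card (sigmaCore L) - 1 ≤ Nat.card K * (h'.u' - 1) := by
  classical
  obtain ⟨β, ψ, ι, I, f, w, hF⟩ := exists_lfam n.hG n.hL n.kappa n.frob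
  obtain ⟨η, hη⟩ := exists_grid h.hP.selfNormalizing
    (h.odd_G.of_dvd_nat K.card_subgroup_dvd_card) (h.odd_G.of_dvd_nat W.card_subgroup_dvd_card)
  have hdeg := hF.deg
  rcases coeff_cases hf hf' (n.away hf hf') hF hη with hA | ⟨hpe, hB⟩
  · exact absurd (n.card_le_of_eq_card_U hf hf' (n.eq_card_U_of_small hf hf' hdeg hA))
      (not_le.mpr hlt)
  · rcases n.index_cases h hf' with ⟨he, -⟩ | ⟨he, -⟩
    · rw [he] at hpe
      exact absurd hpe (not_le.mpr hlt)
    · refine ⟨he, ?_⟩
      rw [← hdeg, he, Nat.add_sub_cancel, mul_assoc]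
      exact Nat.mul_le_mul_left _ hB

end CfsgLib.Peterfalvi.Pair
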