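import Cfsg.Agent.Lib.Peterfalvi.Pair.SideCells
import Cfsg.Agent.Lib.Peterfalvi.Pair.Decomp

/-!
The virtual characters induced from `1 - ω` on `F(M) K`.
-/

set_option autoImplicit false
set_option linter.style.haveILetI false
set_option linter.unusedSectionVars false

namespace CfsgLib.Peterfalvi.Pair

open Cfsg CfsgLib.Char
open CfsgLib.BG.FixedLine (conj_mem_of_le_normalizer)
open scoped ComplexConjugate CfsgLib.Char

universe u

variable {G : Type u} [Group G] [Fintype G] {M K U W : Subgroup G} {h : Side M K U W}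
  {ω : Lin W → Lin K → Lin (fittingOf M ⊔ K : Subgroup G)}

theorem indFun_vanish {H : Subgroup G} {T : Set G} {ψ : H → ℂ}
    (hψ : ∀ x : H, (x : G) ∉ T → ψ x = 0) {g : G} (hg : g ∉ conjSet T) : indFun H ψ g = 0 := by
  simp only [indFun]
  rw [Finset.sum_eq_zero fun z _ => ?_, mul_zero]
  by_cases hz : z⁻¹ * g * z ∈ H
  · rw [extendByZero_mem _ _ hz]
    exact hψ _ fun hc => hg ⟨z⁻¹, by simpa using hc⟩
  · exact extendByZero_notMem _ _ hz

theorem sum_unitsHom_eq_zero {H : Type*} [Group H] [Fintype H] {φ : H →* ℂˣ} (hφ : φ ≠ 1) :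
    ∑ x : H, (φ x : ℂ) = 0 :=
  sum_hom_units_eq_zero ((Units.coeHom ℂ).comp φ) fun e => hφ (MonoidHom.ext fun x =>
    Units.ext (by simpa using DFunLike.congr_fun e x))

theorem conjFun_indFun_cl {H : Subgroup G} (φ : Lin H) :
    conjFun (indFun H (cl φ)) = indFun H (cl φ⁻¹) := by
  classical
  rw [← conjFun_cl]
  funext g
  simp only [conjFun, indFun, map_mul, map_sum, map_inv₀, map_natCast]
  congr 1
  refine Finset.sum_congr rfl fun x _ => ?_
  by_cases hx : x⁻¹ * g * x ∈ H
  · rw [extendByZero_mem H _ hx, extendByZero_mem H _ hx]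
    rfl
  · rw [extendByZero_notMem H _ hx, extendByZero_notMem H _ hx, map_zero]

namespace IsOmega

variable (hω : IsOmega h ω)
include hω

theorem omega_one : ω 1 1 = 1 := by
  refine MonoidHom.ext fun t => ?_
  have ht : (t : G) ∈ ((fittingOf M ⊔ K : Subgroup G) : Set G) := t.2
  rw [Subgroup.coe_mul_of_right_le_normalizer_left _ _
    ((K_le h.hP).trans (le_normalizer_fittingOf M)), Set.mem_mul] at ht
  obtain ⟨z, hz, k, hk, hzk⟩ := ht
  have e : t = ⟨z, Subgroup.mem_sup_left hz⟩ * ⟨k, Subgroup.mem_sup_right hk⟩ :=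
    Subtype.ext hzk.symm
  rw [e, map_mul, hω.value 1 1 ⟨k, hk⟩ 1 ⟨k, _⟩ (by simp), ← hω.lam_apply 1 1 ⟨z, hz⟩, hω.lam_one]
  simp

theorem toM_one_on [Fintype M] (t : M) (ht : (t : G) ∈ fittingOf M ⊔ K)
    [Decidable ((t : G) ∈ fittingOf M)] :
    toM M (cl (1 : Lin (fittingOf M ⊔ K))) t =
      if (t : G) ∈ fittingOf M then (h.u' : ℂ) else 1 := by
  classical
  set T := (fittingOf M ⊔ K).subgroupOf M with hT
  have hcard : (Nat.card M : ℂ) = (Nat.card T : ℂ) * h.u' := by
    rw [← relIndex_L hω, ← Nat.cast_mul, Subgroup.relIndex, Subgroup.card_mul_index]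
  have hF : ∀ {z g : M}, (z : G) ∈ fittingOf M → g⁻¹ * z * g ∈ T := fun {z g} hz =>
    Subgroup.mem_subgroupOf.mpr (Subgroup.mem_sup_left (by
      simpa using conj_mem_of_le_normalizer (le_normalizer_fittingOf M (inv_mem g.2)) _ hz))
  have hval : ∀ g : M, extendByZero T (fun _ => (1 : ℂ)) (g⁻¹ * t * g) =
      if g⁻¹ * t * g ∈ T then 1 else 0 := fun g => by
    by_cases hg : g⁻¹ * t * g ∈ T
    · rw [extendByZero_mem _ _ hg, if_pos hg]
    · rw [extendByZero_notMem _ _ hg, if_neg hg]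
  have hone : toM M (cl (1 : Lin (fittingOf M ⊔ K))) t =
      (Nat.card T : ℂ)⁻¹ * ((Finset.univ.filter fun g : M => g⁻¹ * t * g ∈ T).card : ℂ) := by
    simp only [toM, indFun, cl, MonoidHom.one_apply, Units.val_one]
    rw [Finset.sum_congr rfl fun g _ => hval g, Finset.sum_boole]
  have hT0 : (Nat.card T : ℂ) ≠ 0 := Nat.cast_ne_zero.mpr Nat.card_pos.ne'
  split_ifs with htF
  · rw [hone, Finset.filter_true_of_mem fun g _ => hF htF, Finset.card_univ,
      ← Nat.card_eq_fintype_card, hcard, inv_mul_cancel_left₀ hT0]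
  · -- the fixed points
    obtain ⟨e, he, x, hx, y, hy, hx1, hey⟩ := h.exists_conj_KW ht htF
    have hkey : (Finset.univ.filter fun g : M => g⁻¹ * t * g ∈ T) =
        Finset.univ.filter fun g : M => g ∈ T := by
      refine Finset.filter_congr fun g _ => ⟨fun hg => ?_, fun hg =>
        T.mul_mem (T.mul_mem (T.inv_mem hg) (Subgroup.mem_subgroupOf.mpr ht)) hg⟩
      set e' : M := ⟨e, h.fittingOf_le he⟩
      obtain ⟨k, u, z, hk, hu, hz, hgd⟩ := h.exists_decomp (e' * g)
      set xM : M := ⟨x, K_le h.hP hx⟩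
      set yM : M := ⟨y, fittingHallOf_le M (W_le h.hP hy)⟩
      have hyF : (yM : G) ∈ fittingOf M := h.fittingHallOf_le_fittingOf (W_le h.hP hy)
      have ht' : e' * t * e'⁻¹ = xM * yM := Subtype.ext hey
      have h1 : (e' * g)⁻¹ * xM * (e' * g) ∈ T := by
        have h0 : (e' * g)⁻¹ * (xM * yM) * (e' * g) ∈ T := by
          rw [← ht']
          simpa [mul_assoc] using hg
        have := T.mul_mem h0 (T.inv_mem (hF (g := e' * g) hyF))
        simpa [mul_assoc] using this
      have h2 : u⁻¹ * xM * u ∈ T := by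
        have hzx : z⁻¹ * xM * z = xM * ((xM⁻¹ * z⁻¹ * xM) * z) := by group
        have hk' : k ∈ T := Subgroup.mem_subgroupOf.mpr (Subgroup.mem_sup_right hk)
        have h3 : u⁻¹ * (z⁻¹ * xM * z) * u ∈ T := by
          have := T.mul_mem (T.mul_mem hk' (hgd ▸ h1)) (T.inv_mem hk')
          simpa [mul_assoc] using this
        rw [hzx] at h3
        have h4 : u⁻¹ * ((xM⁻¹ * z⁻¹ * xM) * z) * u ∈ T := by
          refine hF ?_
          have hzi : ((z⁻¹ : M) : G) ∈ fittingOf M := (fittingOf M).inv_mem hz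
          refine (fittingOf M).mul_mem ?_ hz
          simpa using conj_mem_of_le_normalizer
            (le_normalizer_fittingOf M (inv_mem (K_le h.hP hx))) _ hzi
        have := T.mul_mem h3 (T.inv_mem h4)
        simpa [mul_assoc] using this
      have h5 : (u : G)⁻¹ * (x * (u : G) * x⁻¹) ∈ fittingOf M ⊔ K := by
        have := mul_mem (Subgroup.mem_subgroupOf.mp h2) (inv_mem (Subgroup.mem_sup_right (S := fittingOf M) hx))
        simpa [xM, mul_assoc] using this
      have h6 : x * (u : G) * x⁻¹ ∈ U := conj_mem_of_le_normalizer (h.hP.U_normal hx) _ hu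
      have hC : (u : G)⁻¹ * (x * (u : G) * x⁻¹) ∈ h.C :=
        h.inclusion_eq (fittingOf M).one_mem (U.mul_mem (U.inv_mem hu) h6) K.one_mem (by simpa using h5)
      have hCu : (u : G) ∈ h.C := by
        have h7 : (u : G)⁻¹ ∈ h.C := by
          refine h.fpf_quot hx hx1 (U.inv_mem hu) ?_
          simpa [mul_assoc] using hC
        simpa using h.C.inv_mem h7
      have h8 : e' * g ∈ T := Subgroup.mem_subgroupOf.mpr (by
        rw [hgd]
        push_cast
        exact mul_mem (mul_mem (Subgroup.mem_sup_left hz)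
          (Subgroup.mem_sup_left (h.C_le_fittingOf hCu))) (Subgroup.mem_sup_right hk))
      have he' : e' ∈ T := Subgroup.mem_subgroupOf.mpr (Subgroup.mem_sup_left he)
      simpa using T.mul_mem (T.inv_mem he') h8
    rw [hone, hkey, show (Finset.univ.filter fun g : M => g ∈ T).card = Nat.card T by
      rw [Nat.card_eq_fintype_card, Fintype.card_subtype], inv_mul_cancel₀ hT0]

theorem classInner_mu_one [Fintype M] {a : Lin W} (ha : a ≠ 1) :
    classInner (hω.mu a 1) (toM M (cl (1 : Lin (fittingOf M ⊔ K)))) = 0 ∧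
      (Nat.card K : ℂ) * classInner (toM M (cl (1 : Lin (fittingOf M ⊔ K))))
        (toM M (cl (1 : Lin (fittingOf M ⊔ K)))) = h.u' + Nat.card K - 1 := by
  classical
  set T := (fittingOf M ⊔ K).subgroupOf M with hT
  haveI : Fintype T := Fintype.ofFinite _
  haveI : Fintype (fittingOf M) := Fintype.ofFinite _
  set F := Finset.univ.filter fun t : T => ((t : M) : G) ∈ fittingOf M with hF
  have hres : ∀ t : T, toM M (cl (1 : Lin (fittingOf M ⊔ K))) (t : M) =
      1 + if ((t : M) : G) ∈ fittingOf M then ((h.u' : ℂ) - 1) else 0 := fun t => by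
    rw [toM_one_on hω (t : M) (Subgroup.mem_subgroupOf.mp t.2)]
    split_ifs <;> ring
  have hFsum : ∀ φ : Lin (fittingOf M ⊔ K),
      ∑ t ∈ F, cl φ ⟨((t : M) : G), Subgroup.mem_subgroupOf.mp t.2⟩ =
        ∑ x : fittingOf M, cl φ ⟨x, Subgroup.mem_sup_left x.2⟩ := by
    intro φ
    refine (Finset.sum_nbij (fun x : fittingOf M =>
      (⟨⟨x, h.fittingOf_le x.2⟩, Subgroup.mem_subgroupOf.mpr (Subgroup.mem_sup_left x.2)⟩ : T))
      (fun x _ => ?_) (fun x _ y _ e => ?_) (fun t ht => ?_) fun x _ => rfl).symm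
    · simp [hF]
    · exact Subtype.ext (congrArg (fun t : T => ((t : M) : G)) e)
    · simp only [hF, Finset.coe_filter, Finset.mem_univ, true_and, Set.mem_setOf_eq] at ht
      exact ⟨⟨_, ht⟩, by simp, rfl⟩
  have hFcard : (F.card : ℂ) = Nat.card (fittingOf M) := by
    have := hFsum 1
    simpa [cl, Nat.card_eq_fintype_card] using this
  have hTcard : Nat.card T = Nat.card (fittingOf M) * Nat.card K := by
    rw [hT, Nat.card_congr (Subgroup.subgroupOfEquivOfLe h.L_le).toEquiv,
      Coprime.card_sup_of_coprime ((K_le h.hP).trans (le_normalizer_fittingOf M))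
        h.card_fittingOf_coprime]
  have hrec : ∀ φ : Lin (fittingOf M ⊔ K),
      classInner (toM M (cl φ)) (toM M (cl (1 : Lin (fittingOf M ⊔ K)))) =
        (Nat.card T : ℂ)⁻¹ * (∑ t : T, cl φ ⟨((t : M) : G), Subgroup.mem_subgroupOf.mp t.2⟩ +
          ((h.u' : ℂ) - 1) * ∑ x : fittingOf M, cl φ ⟨x, Subgroup.mem_sup_left x.2⟩) := by
    intro φ
    rw [show toM M (cl φ) = indFun T (fun t : T => cl φ ⟨((t : M) : G), Subgroup.mem_subgroupOf.mp t.2⟩)
      from rfl, frobenius_reciprocity T _ (isClassFunction_toM _), classInner, ← hFsum φ,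
      Finset.sum_filter]
    congr 1
    rw [Finset.mul_sum, ← Finset.sum_add_distrib]
    refine Finset.sum_congr rfl fun t _ => ?_
    rw [hres t]
    split_ifs <;> simp <;> ring
  refine ⟨?_, ?_⟩
  · show classInner (toM M (cl (ω a 1))) _ = 0
    rw [hrec]
    have e1 : ∑ t : T, cl (ω a 1) ⟨((t : M) : G), Subgroup.mem_subgroupOf.mp t.2⟩ = 0 := by
      set φ : T →* ℂˣ := (ω a 1).comp (Subgroup.subgroupOfEquivOfLe h.L_le).toMonoidHom with hφ
      have hφ1 : φ ≠ 1 := fun e => by
        refine hω.lam_ne_one ha (MonoidHom.ext fun x => ?_)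
        exact DFunLike.congr_fun e
          ⟨⟨x, h.fittingOf_le x.2⟩, Subgroup.mem_subgroupOf.mpr (Subgroup.mem_sup_left x.2)⟩
      exact sum_unitsHom_eq_zero hφ1
    have e2 : ∑ x : fittingOf M, cl (ω a 1) ⟨x, Subgroup.mem_sup_left x.2⟩ = 0 :=
      sum_unitsHom_eq_zero (hω.lam_ne_one ha)
    rw [e1, e2]
    simp
  · rw [hrec]
    simp only [cl, MonoidHom.one_apply, Units.val_one, Finset.sum_const, Finset.card_univ,
      nsmul_eq_mul, mul_one, ← Nat.card_eq_fintype_card, hTcard, Nat.cast_mul]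
    have h1 : (Nat.card (fittingOf M) : ℂ) ≠ 0 := Nat.cast_ne_zero.mpr Nat.card_pos.ne'
    have h2 : (Nat.card K : ℂ) ≠ 0 := Nat.cast_ne_zero.mpr Nat.card_pos.ne'
    field_simp
    ring

/-- The virtual character attached to `a`. -/
noncomputable abbrev theta (_ : IsOmega h ω) (a : Lin W) : G → ℂ := ind (ω 1 1) - ind (ω a 1)

theorem theta_eq (a : Lin W) : hω.theta a = indFun (fittingOf M ⊔ K) (cl (ω 1 1) - cl (ω a 1)) :=
  (indFun_cl_sub _ _).symm

theorem theta_vanish (a : Lin W) {g : G} (hg : g ∉ conjSet (A0 M K W)) : hω.theta a g = 0 := by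
  rw [theta_eq]
  haveI : Fintype M := Fintype.ofFinite _
  exact indFun_vanish (fun x hx => hω.vanish_sub 1 a 1 x hx) hg

theorem isGeneralized_theta (a : Lin W) : IsGeneralizedCharacter G (hω.theta a) :=
  isGeneralized_sub (isGeneralized_ind _) (isGeneralized_ind _)

theorem classInner_theta_one {a : Lin W} (ha : a ≠ 1) :
    classInner (hω.theta a) (fun _ => 1) = 1 := by
  haveI : Fintype ↥(fittingOf M ⊔ K) := Fintype.ofFinite _
  rw [classInner_sub_left, ind, ind, frobenius_reciprocity _ _ (fun _ _ => rfl),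
    frobenius_reciprocity _ _ (fun _ _ => rfl), omega_one hω]
  have e : ω a 1 ≠ 1 := fun e => hω.lam_ne_one ha (by rw [IsOmega.lam, e, MonoidHom.one_comp])
  simp only [classInner, cl, map_one, mul_one, sum_unitsHom_eq_zero e, mul_zero, sub_zero,
    MonoidHom.one_apply, Units.val_one, Finset.sum_const, Finset.card_univ, nsmul_eq_mul,
    ← Nat.card_eq_fintype_card]
  exact inv_mul_cancel₀ (Nat.cast_ne_zero.mpr Nat.card_pos.ne')

theorem classInner_theta_self {a : Lin W} (ha : a ≠ 1) :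
    (Nat.card K : ℂ) * classInner (hω.theta a) (hω.theta a) = h.u' + 2 * Nat.card K - 1 := by
  classical
  haveI : Fintype M := Fintype.ofFinite _
  rw [theta_eq, classInner_indFun_A0 h h.L_le h.L_le (hω.vanish_sub 1 a 1) (hω.vanish_sub 1 a 1),
    toM_sub, classInner_sub_left, classInner_sub_right, classInner_sub_right, omega_one hω]
  obtain ⟨h0, h1⟩ := classInner_mu_one hω ha
  have h0' : classInner (toM M (cl (1 : Lin (fittingOf M ⊔ K)))) (hω.mu a 1) = 0 := by
    rw [← classInner_conj_symm, h0, map_zero]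
  rw [show toM M (cl (ω a 1)) = hω.mu a 1 from rfl, h0, h0', hω.classInner_mu_mu ha ha,
    if_pos ⟨rfl, rfl⟩]
  linear_combination h1

theorem theta_apply_KW {a : Lin W} (x : K) (y : W) (hx : x ≠ 1) (hy : y ≠ 1) :
    hω.theta a ((x : G) * y) = 1 - (a y : ℂ) := by
  haveI : Fintype M := Fintype.ofFinite _
  have hx1 : (x : G) ≠ 1 := fun e => hx (Subtype.ext e)
  have hy1 : (y : G) ≠ 1 := fun e => hy (Subtype.ext e)
  have hm : (x : G) * y ∈ M := mul_mem (K_le h.hP x.2) (fittingHallOf_le M (W_le h.hP y.2))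
  rw [theta_eq, indFun_A0_apply h h.L_le (hω.vanish_sub 1 a 1) ⟨(x : G) * y, hm⟩
    (Or.inr ⟨1, one_mem _, x, x.2, y, y.2, hx1, hy1, by simp⟩),
    hω.toM_apply_KW _ (fun s t => by simp [cl, mul_assoc]) x.2 y.2 hx1 hy1 hm,
    Pi.sub_apply, cl, cl, hω.value 1 1 x y _ rfl, hω.value a 1 x y _ rfl]
  simp

theorem conjFun_theta_sub {η : Lin W → Lin K → G → ℂ} (hη : IsGrid K W η) {a : Lin W}
    (ha : a ≠ 1) : conjFun (hω.theta a + η a 1) = hω.theta a + η a 1 := by
  have hc : ∀ φ : Lin (fittingOf M ⊔ K), conjFun (ind φ) = ind φ⁻¹ := fun φ => by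
    exact conjFun_indFun_cl φ
  have h1 : conjFun (hω.theta a + η a 1) = conjFun (ind (ω 1 1)) - conjFun (ind (ω a 1)) +
      conjFun (η a 1) := funext fun g => by simp [theta, conjFun]
  have h2 := ind_omega_sub hω hη ha (a' := a⁻¹)
    (fun e => ha (MonoidHom.ext fun y => inv_eq_one.mp (DFunLike.congr_fun e y))) 1
  have hi := hω.inv a 1
  rw [show (1 : Lin K)⁻¹ = 1 from MonoidHom.ext fun _ => inv_one] at hi
  have hj := hη.conjEq a 1
  rw [show (1 : Lin K)⁻¹ = 1 from MonoidHom.ext fun _ => inv_one] at hj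
  rw [h1, hc, hc, ← hj, ← hi, omega_one hω,
    show (1 : Lin (fittingOf M ⊔ K : Subgroup G))⁻¹ = 1 from MonoidHom.ext fun _ => inv_one]
  show _ = ind (ω 1 1) - ind (ω a 1) + η a 1
  rw [omega_one hω]
  linear_combination h2

end IsOmega

end CfsgLib.Peterfalvi.Pair
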