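import Cfsg.Agent.Lib.Peterfalvi.Pair.Neighbour
import Cfsg.Agent.Lib.Peterfalvi.Pair.LFamily
import Cfsg.Agent.Lib.Peterfalvi.Pair.SideTheta

/-!
The elements attached to the neighbour are of order prime to the orders of the two cyclic factors.
-/

set_option autoImplicit false
set_option linter.style.haveILetI false
set_option linter.unusedSectionVars false

namespace CfsgLib.Peterfalvi.Pair

open Cfsg CfsgLib.Char
open scoped Pointwise

universe u

variable {G : Type u} [Group G] [Fintype G] {M K U W M' V L : Subgroup G}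

theorem supportR_congr {x y : G}
    (e : Subgroup.centralizer ({x} : Set G) = Subgroup.centralizer ({y} : Set G)) :
    supportR L x = supportR L y := by
  simp only [supportR]
  split_ifs with h1 h2 h2
  · congr! 4
    simp only [e]
  · exact absurd (e ▸ h1) h2
  · exact absurd (e ▸ h2) h1
  · rfl

theorem centralizer_pow {x : G} {k : ℕ} (hk : k.Coprime (Nat.card G)) :
    Subgroup.centralizer ({x ^ k} : Set G) = Subgroup.centralizer ({x} : Set G) := by
  ext z
  simp only [Subgroup.mem_centralizer_singleton_iff]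
  refine ⟨fun h => ?_, fun h => ((show Commute z x from h).pow_right k).eq⟩
  have h1 : (z * x * z⁻¹) ^ k = x ^ k := by rw [conj_pow, h, mul_inv_cancel_right]
  exact mul_inv_eq_iff_eq_mul.mp (pow_injective hk h1)

theorem one_notMem_tilde (hG : IsMinSimpleOddOrder G) (hL : IsCoatom L) : (1 : G) ∉ tilde L := by
  rintro ⟨a, ⟨ha, ha1⟩, r, hr, y, e⟩
  obtain ⟨hc, hcase⟩ := OddLocal.support_cases hG hL ha ha1 hr
  have h1 : a * r = 1 := conj_eq_one_iff.mp e.symm
  have h2 : r ∈ L := by
    rw [eq_inv_of_mul_eq_one_right h1]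
    exact inv_mem (OddLocal.piCoreOf_le _ L ha)
  rcases hcase with rfl | ⟨N, hN, hrN⟩
  · exact ha1 (by simpa using h1)
  · obtain ⟨-, -, hd, -⟩ := hN.centralizer_compl
    have h3 : r = 1 := Subgroup.mem_bot.mp (hd.le ⟨⟨h2,
      Subgroup.mem_centralizer_singleton_iff.mpr hc.symm.eq⟩,
      hrN, Subgroup.mem_centralizer_singleton_iff.mpr hc.symm.eq⟩)
    exact ha1 (by simpa [h3] using h1)

theorem powClosed_tilde (hG : IsMinSimpleOddOrder G) (hL : IsCoatom L) : PowClosed (tilde L) := by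
  rintro g ⟨a, ⟨ha, ha1⟩, r, hr, y, rfl⟩ k hk
  refine ⟨a ^ k, ⟨pow_mem ha k, fun e => ha1 (pow_injective hk (by simpa using e))⟩, r ^ k, ?_, y, ?_⟩
  · rw [supportR_congr (centralizer_pow hk)]
    exact pow_mem hr k
  · rw [conj_pow, (OddLocal.support_cases hG hL ha ha1 hr).1.mul_pow]

theorem conj_mem_tilde_iff (g z : G) : z * g * z⁻¹ ∈ tilde L ↔ g ∈ tilde L := by
  refine ⟨fun h => ?_, fun h => OddLocal.conj_mem_tilde h⟩
  simpa [mul_assoc] using OddLocal.conj_mem_tilde (g := z⁻¹) h

variable {h : Side M K U W} {h' : Side M' W V K}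

namespace Nbr

variable (n : Nbr M K U W M' L) (hf : IsFull h) (hf' : IsFull h')
include n hf hf'

/-- No element attached to the neighbour has order divisible by `|W|` or `|K|`. -/
theorem not_mem_tilde {g : G} (hd : Nat.card W ∣ orderOf g ∨ Nat.card K ∣ orderOf g) :
    g ∉ tilde L := by
  rintro ⟨a, ⟨ha, ha1⟩, r, hr, y, rfl⟩
  obtain ⟨hc, -⟩ := OddLocal.support_cases n.hG n.hL ha ha1 hr
  have ho : orderOf (y * (a * r) * y⁻¹) = orderOf (a * r) :=
    orderOf_injective (MulAut.conj y).toMonoidHom (MulAut.conj y).injective _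
  have hca : Commute a (a * r) := (Commute.refl a).mul_right hc
  rw [ho] at hd
  have hcop : (orderOf a).Coprime (Nat.card K * Nat.card W) := n.coprime.coprime_dvd_left (by
    rw [fittingHallOf_eq_of_kappa n.hG n.hL n.kappa]
    exact Subgroup.orderOf_dvd_natCard _ ha)
  have hkey : ∀ {X : Subgroup G} {i j l : ℕ}, orderOf a ∣ Nat.card X * i → Nat.card X = j ^ l →
      (orderOf a).Coprime j → (orderOf a).Coprime i → False := fun {X i j l} h1 h2 h3 h4 => by
    refine ha1 (orderOf_eq_one_iff.mp (Nat.eq_one_of_dvd_coprimes ?_ dvd_rfl h1))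
    exact Nat.Coprime.mul_right (h2 ▸ Nat.Coprime.pow_right l h3) h4
  rcases hd with hd | hd
  · exact hkey (hf.orderOf_dvd_of_commute hd hca) hf.card_P
      (hcop.coprime_dvd_right (dvd_mul_left _ _)) (hcop.coprime_dvd_right (dvd_mul_right _ _))
  · exact hkey (hf'.orderOf_dvd_of_commute hd hca) hf'.card_P
      (hcop.coprime_dvd_right (dvd_mul_right _ _)) (hcop.coprime_dvd_right (dvd_mul_left _ _))

omit hf' in
theorem W_dvd_of_conjSharp {g : G} (hg : g ∈ conjSharp (fittingOf M)) :
    Nat.card W ∣ orderOf g := by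
  obtain ⟨y, hy, hy1⟩ := hg
  haveI : Fact (Nat.card W).Prime := ⟨h.primeW⟩
  rw [← orderOf_injective (MulAut.conj y).toMonoidHom (MulAut.conj y).injective g]
  exact dvd_of_eq (orderOf_eq_prime (hf.expo _ (hf.fitting_eq.le hy)) hy1).symm

theorem not_mem_conjSharp {g : G} (hg : g ∈ tilde L) : g ∉ conjSharp (fittingOf M) := fun hc =>
  n.not_mem_tilde hf hf' (Or.inl (W_dvd_of_conjSharp n hf hc)) hg

theorem not_mem_conjSharp' {g : G} (hg : g ∈ tilde L) : g ∉ conjSharp (fittingOf M') := fun hc => by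
  obtain ⟨y, hy, hy1⟩ := hc
  haveI : Fact (Nat.card K).Prime := ⟨h.primeK⟩
  refine n.not_mem_tilde hf hf' (Or.inr ?_) hg
  rw [← orderOf_injective (MulAut.conj y).toMonoidHom (MulAut.conj y).injective g]
  exact dvd_of_eq (orderOf_eq_prime (hf'.expo _ (hf'.fitting_eq.le hy)) hy1).symm

theorem not_mem_conjTI {g : G} (hg : g ∈ tilde L) : g ∉ conjSet (CyclicTI.tiPart K W) := by
  rintro ⟨y, hy, hn⟩
  have hc := CyclicTI.comm_of h.hP.selfNormalizing
  rw [Subgroup.coe_mul_of_right_le_normalizer_left _ _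
    (fun b hb => CfsgLib.BG.FixedLine.mem_normalizer_of_conj fun a ha => by
      rwa [← hc a ha b hb, mul_inv_cancel_right]), Set.mem_mul] at hy
  obtain ⟨a, ha, b, hb, e⟩ := hy
  refine n.not_mem_tilde hf hf' (Or.inr ?_) hg
  rw [← orderOf_injective (MulAut.conj y).toMonoidHom (MulAut.conj y).injective g]
  show Nat.card K ∣ orderOf (y * g * y⁻¹)
  rw [← e]
  exact h.orderOf_mul ha hb fun h1 => hn (Or.inr (by rw [← e, h1, one_mul]; exact hb))

theorem not_mem_conjA0 {g : G} (hg : g ∈ tilde L) : g ∉ conjSet (A0 M K W) := by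
  rintro ⟨y, hy | ⟨m, -, x, hx, z, hz, hx1, -, e⟩⟩
  · exact n.not_mem_conjSharp hf hf' hg ⟨y, hy⟩
  · refine n.not_mem_tilde hf hf' (Or.inr ?_) hg
    rw [← orderOf_injective (MulAut.conj y).toMonoidHom (MulAut.conj y).injective g]
    show Nat.card K ∣ orderOf (y * g * y⁻¹)
    rw [e, show orderOf (m * (x * z) * m⁻¹) = orderOf (x * z) from
      orderOf_injective (MulAut.conj m).toMonoidHom (MulAut.conj m).injective _]
    exact h.orderOf_mul hx hz hx1

theorem not_mem_conjA0' {g : G} (hg : g ∈ tilde L) : g ∉ conjSet (A0 M' W K) := by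
  rintro ⟨y, hy | ⟨m, -, x, hx, z, hz, hx1, -, e⟩⟩
  · exact n.not_mem_conjSharp' hf hf' hg ⟨y, hy⟩
  · refine n.not_mem_tilde hf hf' (Or.inl ?_) hg
    rw [← orderOf_injective (MulAut.conj y).toMonoidHom (MulAut.conj y).injective g]
    show Nat.card W ∣ orderOf (y * g * y⁻¹)
    rw [e, show orderOf (m * (x * z) * m⁻¹) = orderOf (x * z) from
      orderOf_injective (MulAut.conj m).toMonoidHom (MulAut.conj m).injective _]
    exact h'.orderOf_mul hx hz hx1

end Nbr

end CfsgLib.Peterfalvi.Pair
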