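import Cfsg.Agent.Lib.Peterfalvi.Pair.PairFull
import Cfsg.Agent.Lib.Peterfalvi.Structure
import Cfsg.Agent.S1416
import Cfsg.Agent.S1435

/-!
The maximal subgroup containing the normalizer of a Sylow subgroup of `U`, for a full side.
-/

set_option autoImplicit false
set_option linter.style.haveILetI false
set_option linter.unusedSectionVars false

namespace CfsgLib.Peterfalvi.Pair

open Cfsg CfsgLib.Char
open CfsgLib.BG.FixedLine (conj_mem_of_le_normalizer mem_normalizer_of_conj)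
open scoped Pointwise

universe u

variable {G : Type u} [Group G] [Fintype G] {M K U W M' V L : Subgroup G}

namespace IsFull

variable {h : Side M K U W} (hf : IsFull h)
include hf

/-- The centralizer of a nontrivial element of `M_F` lies in `M` and has order dividing `|M_F| w`. -/
theorem centralizer_data {x g : G} (hx : x ∈ fittingHallOf M) (hx1 : x ≠ 1) (hc : g * x = x * g) :
    g ∈ M ∧ orderOf g ∣ Nat.card (fittingHallOf M) * Nat.card K := by
  have hgM : g ∈ M := h.centralizer_le (hf.fitting_eq.ge hx) hx1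
    (Subgroup.mem_centralizer_singleton_iff.mpr hc)
  refine ⟨hgM, ?_⟩
  have hn : M ≤ Subgroup.normalizer (⁅M, M⁆ : Subgroup G) := le_normalizer_derived M
  haveI : (⁅M, M⁆.subgroupOf M).Normal :=
    (Subgroup.normal_subgroupOf_iff_le_normalizer (Subgroup.commutator_le_self M)).mpr hn
  have hi : (⁅M, M⁆.subgroupOf M).index = Nat.card K :=
    OddLocal.relIndex_left_of_isComplIn h.hP.W₁_compl
  have hgD : g ^ Nat.card K ∈ ⁅M, M⁆ := by
    have := Subgroup.pow_index_mem (⁅M, M⁆.subgroupOf M) (⟨g, hgM⟩ : M)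
    rw [hi] at this
    exact this
  obtain ⟨a, ha, v, hv, hav⟩ := h.hP.U_compl.2.2.2 _ hgD
  have hv1 : v = 1 := by
    by_contra hv1
    refine hx1 (hf.free v hv hv1 x hx ?_)
    have e : v = a⁻¹ * g ^ Nat.card K := by rw [hav]; group
    rw [e]
    exact ((show Commute a x from hf.abel a ha x hx).inv_left.mul_left
      (Commute.pow_left (show Commute g x from hc) _)).eq
  rw [hv1, mul_one] at hav
  refine orderOf_dvd_of_pow_eq_one ?_
  rw [mul_comm, pow_mul, hav]
  exact orderOf_dvd_iff_pow_eq_one.mp (Subgroup.orderOf_dvd_natCard _ ha)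

theorem isPGroup : IsPGroup (Nat.card W) (fittingHallOf M) := fun x =>
  ⟨1, Subtype.ext (by rw [SubgroupClass.coe_pow, pow_one]; exact hf.expo x x.2)⟩

theorem card_coprime_index : (Nat.card U * Nat.card K).Coprime (Nat.card W) := by
  haveI : Fact (Nat.card W).Prime := ⟨h.primeW⟩
  refine Nat.Coprime.mul_left ?_ ((Nat.coprime_primes h.primeK h.primeW).mpr h.prime_ne)
  exact (h.coprime_P_U.coprime_dvd_left (Subgroup.card_dvd_of_le (W_le h.hP))).symm

/-- An element of order `|W|` is conjugate into `M_F`. -/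
theorem exists_conj_mem {z : G} (hz : orderOf z = Nat.card W) :
    ∃ g : G, g * z * g⁻¹ ∈ fittingHallOf M := by
  haveI : Fact (Nat.card W).Prime := ⟨h.primeW⟩
  have hσ : Nat.card W ∈ Cfsg.sigma M := by
    refine OddLocal.isPi_piCoreOf _ M _ h.primeW ?_
    exact (Subgroup.card_dvd_of_le ((W_le h.hP).trans
      (OddLocal.fittingHallOf_le_sigmaCore h.hG h.hM)))
  obtain ⟨g, hg⟩ := OddLocal.exists_conj_le hσ (Q := Subgroup.zpowers z)
    (IsPGroup.of_card (n := 1) (by rw [Nat.card_zpowers, hz, pow_one]))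
  have hm : g * z * g⁻¹ ∈ M :=
    hg ⟨z, Subgroup.mem_zpowers z, rfl⟩
  refine ⟨g, ?_⟩
  set y := g * z * g⁻¹
  have hy : orderOf y = Nat.card W :=
    (orderOf_injective (MulAut.conj g).toMonoidHom (MulAut.conj g).injective z).trans hz
  haveI : ((fittingHallOf M).subgroupOf M).Normal :=
    (Subgroup.normal_subgroupOf_iff_le_normalizer (fittingHallOf_le M)).mpr
      (le_normalizer_fittingHallOf M)
  have hi : ((fittingHallOf M).subgroupOf M).index = Nat.card U * Nat.card K := by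
    have h1 := Subgroup.card_mul_index ((fittingHallOf M).subgroupOf M)
    rw [Nat.card_congr (Subgroup.subgroupOfEquivOfLe (fittingHallOf_le M)).toEquiv, h.card_M,
      mul_assoc] at h1
    exact Nat.eq_of_mul_eq_mul_left Nat.card_pos h1
  have h1 := Subgroup.pow_index_mem ((fittingHallOf M).subgroupOf M) (⟨y, hm⟩ : M)
  rw [hi] at h1
  have h2 : y ^ (Nat.card U * Nat.card K) ∈ fittingHallOf M := h1
  obtain ⟨k, hk⟩ := exists_pow_eq_self_of_coprime
    (show (Nat.card U * Nat.card K).Coprime (orderOf y) from hy.symm ▸ hf.card_coprime_index)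
  rw [← hk]
  exact (fittingHallOf M).pow_mem h2 k

/-- The order of an element commuting with one of order divisible by `|W|`. -/
theorem orderOf_dvd_of_commute {x z : G} (hz : Nat.card W ∣ orderOf z) (hc : Commute x z) :
    orderOf x ∣ Nat.card (fittingHallOf M) * Nat.card K := by
  set y := z ^ (orderOf z / Nat.card W) with hy
  have hyo : orderOf y = Nat.card W := by
    rw [hy, orderOf_pow' _ (Nat.div_pos (Nat.le_of_dvd (orderOf_pos z) hz) h.primeW.pos).ne',
      Nat.gcd_eq_right (Nat.div_dvd_of_dvd hz), Nat.div_div_self hz (orderOf_pos z).ne']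
  obtain ⟨g, hg⟩ := hf.exists_conj_mem hyo
  have hy1 : g * y * g⁻¹ ≠ 1 := fun e => h.primeW.ne_one (by
    rw [← hyo, conj_eq_one_iff.mp e, orderOf_one])
  have := (hf.centralizer_data hg hy1 (g := g * x * g⁻¹) (by
    simp only [conj_mul]
    rw [(hc.pow_right _).eq])).2
  rwa [show orderOf (g * x * g⁻¹) = orderOf x from
    orderOf_injective (MulAut.conj g).toMonoidHom (MulAut.conj g).injective x] at this

end IsFull

/-- The neighbour of a side. -/
structure Nbr (M K U W M' L : Subgroup G) : Prop where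
  hG : IsMinSimpleOddOrder G
  hL : IsCoatom L
  kappa : Cfsg.kappa L = ∅
  U_le : U ≤ fittingHallOf L
  inf_M : M ⊓ L = U ⊔ K
  compl : IsComplIn (L ⊓ M') (fittingHallOf L) L
  cases : L ⊓ M' = K ∨ ∃ y ∈ fittingHallOf M', L ⊓ M' = K ⊔ MulAut.conj y • W
  frob : ∀ x ∈ fittingHallOf L, x ≠ 1 →
    L ⊓ Subgroup.centralizer ({x} : Set G) ≤ fittingHallOf L
  coprime : (Nat.card (fittingHallOf L)).Coprime (Nat.card K * Nat.card W)

variable {h : Side M K U W} {h' : Side M' W V K}

/-- The part of the complement inside `M'`. -/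
theorem inter_cases (h : Side M K U W) (hf' : IsFull h') (hL : IsCoatom L) (hκ : Cfsg.kappa L = ∅)
    (hWM : Cfsg.IsPiHallOf (Cfsg.kappa M') W M') (hKE : K ≤ L ⊓ M')
    (hq : Nat.card K ∉ Cfsg.sigma L) :
    L ⊓ M' = K ∨ ∃ y ∈ fittingHallOf M', L ⊓ M' = K ⊔ MulAut.conj y • W := by
  set Q := fittingHallOf M' with hQ
  set E := L ⊓ M' with hE
  have hne : M' ≠ L := fun e => by
    have := hWM.2.1 _ h.primeW dvd_rfl
    rw [e, hκ] at this
    exact this
  have hKQ : K ≤ Q := W_le h'.hP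
  have hEQ : E ⊓ Q = K := by
    refine le_antisymm (fun x hx => ?_) (le_inf hKE hKQ)
    by_contra hxK
    haveI : Fact (Nat.card K).Prime := ⟨h.primeK⟩
    have hxo : orderOf x = Nat.card K :=
      orderOf_eq_prime (hf'.expo x hx.2) fun e => hxK (e ▸ K.one_mem)
    set X := Subgroup.zpowers x with hX
    have hXQ : X ≤ Q := Subgroup.zpowers_le.mpr hx.2
    have hinf : K ⊓ X = ⊥ := by
      rcases (Nat.dvd_prime h.primeK).mp (hxo ▸ Nat.card_zpowers x ▸
        Subgroup.card_dvd_of_le (inf_le_right : K ⊓ X ≤ X)) with e | e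
      · exact Subgroup.card_eq_one.mp e
      · exfalso
        have := Subgroup.eq_of_le_of_card_ge (inf_le_right : K ⊓ X ≤ X)
          (by rw [e, Nat.card_zpowers, hxo])
        exact hxK (this.ge (Subgroup.mem_zpowers x)).1
    have hA : Nat.card ↥(K ⊔ X) = Nat.card K ^ 2 := by
      rw [Coprime.card_sup_of_normalizer (fun a ha => mem_normalizer_of_conj fun k hk => by
        rwa [hf'.abel a (hXQ ha) k (hKQ hk), mul_inv_cancel_right]) hinf, Nat.card_zpowers, hxo, sq]
    have hAQ : K ⊔ X ≤ Q := sup_le hKQ hXQ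
    have hAe : Cfsg.IsElementaryAbelian (Nat.card K) (K ⊔ X) :=
      ⟨⟨⟨fun a b => Subtype.ext (hf'.abel a (hAQ a.2) b (hAQ b.2))⟩⟩,
        fun a ha => hf'.expo a (hAQ ha)⟩
    refine hq (((Cfsg.Agent.S1416.result h.hG L hL (Nat.card K) (K ⊔ X)
      ⟨sup_le (hKE.trans inf_le_left) (Subgroup.zpowers_le.mpr hx.1.1), hAe, hA⟩).2 ?_).1)
    rintro A₀ hA₀ hA₀c ⟨-, hu⟩
    refine hne (hu M' h'.hM fun g hg => ?_)
    obtain ⟨⟨a, ha⟩, ha1⟩ := Subgroup.ne_bot_iff_exists_ne_one.mp
      (fun e : A₀ = ⊥ => h.primeK.ne_one (by rw [← hA₀c, e, Subgroup.card_bot]))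
    exact h'.ti_mem (hf'.fitting_eq.ge (hAQ (hA₀ ha))) (fun e => ha1 (Subtype.ext e))
      (hf'.fitting_eq.ge (hAQ (hA₀ ((Subgroup.mem_normalizer_iff.mp hg a).mp ha))))
  have hEN : ∀ g ∈ E, ∀ k ∈ K, g * k * g⁻¹ ∈ K := fun g hg k hk => by
    rw [← hEQ] at hk ⊢
    exact ⟨E.mul_mem (E.mul_mem hg hk.1) (E.inv_mem hg),
      conj_mem_of_le_normalizer (le_normalizer_fittingHallOf M' hg.2) k hk.2⟩
  have hcW : ∀ w ∈ W, ∀ k ∈ K, w * k = k * w := fun w hw k hk =>
    CyclicTI.comm_of h'.hP.selfNormalizing w hw k hk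
  have hEQW : ∀ g ∈ E, ∃ a ∈ Q, ∃ w ∈ W, g = a * w := by
    intro g hg
    obtain ⟨d, hd, w, hw, rfl⟩ := h'.hP.W₁_compl.2.2.2 g hg.2
    obtain ⟨a, ha, v, hv, rfl⟩ := h'.hP.U_compl.2.2.2 d hd
    refine ⟨a, ha, w, hw, ?_⟩
    suffices hv1 : v = 1 by rw [hv1, mul_one]
    by_contra hv1
    obtain ⟨⟨x, hx⟩, hx1⟩ := Subgroup.ne_bot_iff_exists_ne_one.mp
      (fun e : K = ⊥ => h.primeK.ne_one (by rw [e, Subgroup.card_bot]))
    have hconj : ∀ k ∈ K, v * k * v⁻¹ ∈ K := by
      intro k hk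
      have h1 := hEN _ hg k hk
      have h2 : a * v * w * k * (a * v * w)⁻¹ = a * (v * k * v⁻¹) * a⁻¹ := by
        rw [show a * v * w * k * (a * v * w)⁻¹ = a * v * (w * k) * w⁻¹ * v⁻¹ * a⁻¹ by group,
          hcW w hw k hk]
        group
      have hvQ : v * k * v⁻¹ ∈ Q := conj_mem_of_le_normalizer (h'.U_le_normalizer_P hv) k (hKQ hk)
      rwa [h2, hf'.abel a ha _ hvQ, mul_inv_cancel_right] at h1
    haveI : Fact (Nat.card K).Prime := ⟨h.primeK⟩
    have hxo : orderOf x = Nat.card K :=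
      orderOf_eq_prime (hf'.expo x (hKQ hx)) fun e => hx1 (Subtype.ext e)
    obtain ⟨i, hi⟩ : ∃ i : ℕ, x ^ i = v * x * v⁻¹ := by
      refine (isOfFinOrder_of_finite x).mem_powers_iff_mem_zpowers.mpr ?_
      rw [Subgroup.eq_of_le_of_card_ge (Subgroup.zpowers_le.mpr hx)
        (le_of_eq (by rw [Nat.card_zpowers, hxo]))]
      exact hconj x hx
    have hpow : ∀ n : ℕ, v ^ n * x * (v ^ n)⁻¹ = x ^ (i ^ n) := by
      intro n
      induction n with
      | zero => simp
      | succ n ih =>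
        rw [pow_succ' v n, show v * v ^ n * x * (v * v ^ n)⁻¹ = v * (v ^ n * x * (v ^ n)⁻¹) * v⁻¹
          by group, ih, ← conj_pow, ← hi, ← pow_mul, pow_succ']
    have hn := hpow (orderOf v)
    rw [pow_orderOf_eq_one, one_mul, inv_one, mul_one] at hn
    nth_rw 1 [← pow_one x] at hn
    rw [pow_eq_pow_iff_modEq, hxo] at hn
    have hdvd : orderOf v ∣ Nat.card V := Subgroup.orderOf_dvd_natCard _ hv
    have hco : (orderOf v).Coprime (Nat.card K - 1) := by
      refine Nat.Coprime.coprime_dvd_left hdvd (Nat.coprime_of_dvd fun r hr hrV hrK => ?_)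
      have hmod : Nat.card K ≡ 1 [MOD r] := ((Nat.modEq_iff_dvd' h.primeK.one_le).mpr hrK).symm
      have hgeom : Nat.card V ≡ Nat.card W [MOD r] := by
        haveI : Fact r.Prime := ⟨hr⟩
        rw [hf'.card_U, ← ZMod.natCast_eq_natCast_iff]
        rw [← ZMod.natCast_eq_natCast_iff] at hmod
        push_cast at hmod ⊢
        simp [hmod]
      have hrW : r ∣ Nat.card W := (hgeom.dvd_iff dvd_rfl).mp hrV
      rw [(Nat.prime_dvd_prime_iff_eq hr h.primeW).mp hrW] at hrK
      exact hf'.not_modEq ((Nat.modEq_iff_dvd' h.primeK.one_le).mpr hrK).symm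
    have hi1 : i ≡ 1 [MOD Nat.card K] := by
      have h0 : (i : ZMod (Nat.card K)) ≠ 0 := fun e => by
        rw [ZMod.natCast_eq_zero_iff, ← hxo, orderOf_dvd_iff_pow_eq_one, hi] at e
        exact hx1 (Subtype.ext (conj_eq_one_iff.mp e))
      have h1 : (i : ZMod (Nat.card K)) ^ orderOf v = 1 := by
        have := (ZMod.natCast_eq_natCast_iff _ _ _).mpr hn.symm
        simpa using this
      have h2 := pow_gcd_eq_one.mpr ⟨h1, ZMod.pow_card_sub_one_eq_one h0⟩
      rw [hco, pow_one] at h2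
      exact (ZMod.natCast_eq_natCast_iff _ _ _).mp (by simpa using h2)
    refine hx1 (Subtype.ext (hf'.free v hv hv1 x (hKQ hx) ?_))
    rw [show x ^ i = x ^ 1 from pow_eq_pow_iff_modEq.mpr (hxo ▸ hi1), pow_one] at hi
    exact (mul_inv_eq_iff_eq_mul.mp hi.symm)
  by_cases hall : E ≤ Q
  · exact Or.inl ((inf_eq_left.mpr hall).symm.trans hEQ)
  obtain ⟨g, hg, hgQ⟩ := SetLike.not_le_iff_exists.mp hall
  obtain ⟨a, ha, w, hw, hgw⟩ := hEQW g hg
  have hw1 : w ≠ 1 := fun e => hgQ (by rw [hgw, e, mul_one]; exact ha)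
  haveI : Fact (Nat.card W).Prime := ⟨h.primeW⟩
  have hwo : orderOf w = Nat.card W := ((Nat.dvd_prime h.primeW).mp
    (Subgroup.orderOf_dvd_natCard _ hw)).resolve_left fun e => hw1 (orderOf_eq_one_iff.mp e)
  obtain ⟨e, he, y, hy, hyw, heq⟩ := exists_conj_coset (X := Q)
    (le_normalizer_fittingHallOf M' (K_le h'.hP hw))
    (by rw [hwo]; exact h'.coprime_P_K) ha
  have hyK : y ∈ K := by
    rw [← h'.hP.W₂_centralizer w hw hw1]
    exact ⟨fittingHallOf_le_derived h'.hP hy, Subgroup.mem_centralizer_singleton_iff.mpr hyw⟩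
  have hWE : MulAut.conj e⁻¹ • W ≤ E := by
    have hgen : W = Subgroup.zpowers (w ^ Nat.card K) := by
      refine (Subgroup.eq_of_le_of_card_ge (Subgroup.zpowers_le.mpr (W.pow_mem hw _)) ?_).symm
      rw [Nat.card_zpowers, Nat.Coprime.orderOf_pow, hwo]
      rw [hwo]
      exact (Nat.coprime_primes h.primeW h.primeK).mpr h.prime_ne.symm
    have hz : e⁻¹ * w ^ Nat.card K * e ∈ E := by
      have h1 : (e * g * e⁻¹) ^ Nat.card K = w ^ Nat.card K := by
        rw [hgw, heq, (show Commute y w from hyw).mul_pow, show y ^ Nat.card K = 1 from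
          orderOf_dvd_iff_pow_eq_one.mp (Subgroup.orderOf_dvd_natCard _ hyK), one_mul]
      rw [conj_pow] at h1
      rw [← h1]
      have := E.pow_mem hg (Nat.card K)
      simpa [mul_assoc] using this
    rintro _ ⟨v, hv, rfl⟩
    rw [hgen] at hv
    obtain ⟨n, rfl⟩ := hv
    have h2 := E.zpow_mem hz n
    simp only [MulDistribMulAction.toMonoidEnd_apply, MulDistribMulAction.toMonoidHom_apply]
    rw [MulAut.smul_def, MulAut.conj_apply, inv_inv]
    rw [show e⁻¹ * (w ^ Nat.card K) ^ n * e = (e⁻¹ * w ^ Nat.card K * e⁻¹⁻¹) ^ n by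
      rw [conj_zpow, inv_inv], inv_inv]
    exact h2
  refine Or.inr ⟨e⁻¹, inv_mem he, le_antisymm (fun f hf0 => ?_) (sup_le hKE hWE)⟩
  obtain ⟨b, hb, w', hw', rfl⟩ := hEQW f hf0
  have hz : e⁻¹ * w' * e ∈ MulAut.conj e⁻¹ • W :=
    ⟨w', hw', by simp⟩
  have h1 : b * w' * (e⁻¹ * w' * e)⁻¹ ∈ K := by
    rw [← hEQ]
    refine ⟨E.mul_mem hf0 (E.inv_mem (hWE hz)), ?_⟩
    rw [show b * w' * (e⁻¹ * w' * e)⁻¹ = b * (w' * e⁻¹ * w'⁻¹) * e by group]
    exact Q.mul_mem (Q.mul_mem hb (conj_mem_of_le_normalizer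
      (le_normalizer_fittingHallOf M' (K_le h'.hP hw')) _ (Q.inv_mem he))) he
  have := mul_mem (Subgroup.mem_sup_left (T := MulAut.conj e⁻¹ • W) h1) (Subgroup.mem_sup_right hz)
  rwa [inv_mul_cancel_right] at this

/-- The neighbour exists. -/
theorem exists_nbr (hf : IsFull h) (hf' : IsFull h') (hKU : IsSigmaDecomposition M K U)
    (hW : W = sigmaCore M ⊓ Subgroup.centralizer (K : Set G))
    (hK : K = sigmaCore M' ⊓ Subgroup.centralizer (W : Set G))
    (hWM : Cfsg.IsPiHallOf (Cfsg.kappa M') W M') : ∃ L, Nbr M K U W M' L := by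
  have hG := h.hG
  obtain ⟨r, hr, hrU⟩ := Nat.exists_prime_and_dvd fun e : Nat.card U = 1 =>
    h.U_ne (Subgroup.card_eq_one.mp e)
  haveI := Fact.mk hr
  obtain ⟨R⟩ : Nonempty (Sylow r U) := inferInstance
  have hR1 : (R : Subgroup U).map U.subtype ≠ ⊥ := by
    rw [Ne, Subgroup.map_eq_bot_iff_of_injective _ U.subtype_injective]
    exact Sylow.ne_bot_of_dvd_card R hrU
  have htop := OddLocal.normalizer_ne_top hG hR1 fun e => h.hM.1
    (eq_top_iff.mpr (e.ge.trans ((Subgroup.map_subtype_le _).trans (U_le h.hP))))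
  obtain ⟨L, hL, hNR⟩ := (eq_top_or_exists_le_coatom _).resolve_left htop
  obtain ⟨hκ, hUL, hML, -, hKF, hc⟩ := Cfsg.Agent.S1435.result hG M h.hM K U hKU h.hP.W₁_ne h.U_ne
    M' h'.hM (by rw [hW] at hK; simpa using hK) (by rw [hW] at hWM; exact hWM) r hrU R L hL hNR
  have hcore := fittingHallOf_eq_of_kappa hG hL hκ
  have hKE : K ≤ L ⊓ M' := hKF.trans (Subgroup.map_subtype_le _)
  have hq : Nat.card K ∉ Cfsg.sigma L := fun hs => by
    refine OddLocal.not_dvd_index_sigma hG hL h.primeK hs ?_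
    rw [show (piCore (sigma L) L).index = (sigmaCore L).relIndex L by
      rw [sigmaCore, Subgroup.relIndex, Subgroup.subgroupOf,
        Subgroup.comap_map_eq_self_of_injective L.subtype_injective],
      OddLocal.relIndex_right_of_isComplIn hc]
    exact Subgroup.card_dvd_of_le hKE
  have hcases := inter_cases h hf' hL hκ hWM hKE hq
  rw [← hcore] at hc hUL
  haveI := fittingHallOf_isNilpotent L
  have hUW : (Nat.card U).Coprime (Nat.card W) := Nat.Coprime.coprime_mul_right hf.card_coprime_index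
  have hcop : (Nat.card (fittingHallOf L)).Coprime (Nat.card K * Nat.card W) := by
    obtain ⟨⟨v, hv⟩, hv1⟩ := Subgroup.ne_bot_iff_exists_ne_one.mp h.U_ne
    have hcomm : ∀ {n : ℕ}, n.Prime → n ∣ Nat.card (fittingHallOf L) →
        (Nat.card U).Coprime n → ∃ z : G, orderOf z = n ∧ Commute v z := by
      intro n hn hd hco
      obtain ⟨z, hz, hzo⟩ := OddLocal.exists_order_of_dvd hn hd
      refine ⟨z, hzo, congrArg Subtype.val (CfsgLib.Char.PiPart.commute_of_coprime
        (G := fittingHallOf L) (x := ⟨v, hUL hv⟩) (y := ⟨z, hz⟩) ?_).eq⟩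
      rw [Subgroup.orderOf_mk, Subgroup.orderOf_mk, hzo]
      exact hco.coprime_dvd_left (Subgroup.orderOf_dvd_natCard _ hv)
    have hvne : ∀ {n : ℕ}, (Nat.card U).Coprime n → ¬ orderOf v ∣ n := fun hco hd => hv1 (Subtype.ext
      (orderOf_eq_one_iff.mp (Nat.eq_one_of_dvd_coprimes hco
        (Subgroup.orderOf_dvd_natCard _ hv) hd)))
    refine Nat.Coprime.mul_right ?_ ?_ <;>
      refine Nat.Coprime.symm ((Nat.Prime.coprime_iff_not_dvd ?_).mpr fun hd => ?_)
    · exact h.primeK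
    · obtain ⟨z, hzo, hc⟩ := hcomm h.primeK hd h.coprime_U_K
      refine hvne ?_ (hf'.orderOf_dvd_of_commute hzo.symm.dvd hc)
      rw [hf'.card_P]
      exact (h.coprime_U_K.pow_right _).mul_right hUW
    · exact h.primeW
    · obtain ⟨z, hzo, hc⟩ := hcomm h.primeW hd hUW
      exact hvne (h.coprime_P_U.symm.mul_right h.coprime_U_K)
        (hf.orderOf_dvd_of_commute hzo.symm.dvd hc)
  refine ⟨L, hG, hL, hκ, hUL, hML, hc, hcases, ?_, hcop⟩
  have hE : Nat.card ↥(L ⊓ M') ∣ Nat.card K * Nat.card W := by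
    rcases hcases with e | ⟨y, hy, e⟩
    · rw [e]; exact dvd_mul_right _ _
    · rw [e, Coprime.card_sup_of_coprime, Coprime.card_conj_smul]
      · refine fun a ha => mem_normalizer_of_conj fun k hk => ?_
        obtain ⟨w, hw, rfl⟩ := ha
        simp only [MulDistribMulAction.toMonoidEnd_apply, MulDistribMulAction.toMonoidHom_apply,
          MulAut.smul_def, MulAut.conj_apply]
        have hyk : Commute y k := hf'.abel y hy k (W_le h'.hP hk)
        rw [show y * w * y⁻¹ * k * (y * w * y⁻¹)⁻¹ = y * w * (y⁻¹ * k * y) * w⁻¹ * y⁻¹ by group,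
          mul_assoc y⁻¹ k y, hyk.symm.eq, inv_mul_cancel_left, mul_assoc y w k,
          CyclicTI.comm_of h'.hP.selfNormalizing w hw k hk,
          show y * (k * w) * w⁻¹ * y⁻¹ = y * k * y⁻¹ by group, hyk.eq, mul_inv_cancel_right]
        exact hk
      · rw [Coprime.card_conj_smul]
        exact (Nat.coprime_primes h.primeK h.primeW).mpr h.prime_ne
  rw [hcore] at hc hcop ⊢
  refine frobenius_of_free hG hL ⟨hc.1, hc.2.1, hc.2.2.1, hc.2.2.2⟩ fun e he he1 => ?_
  refine (Subgroup.eq_bot_iff_forall _).mpr fun x hx => orderOf_eq_one_iff.mp ?_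
  have hxe : Commute x e := Subgroup.mem_centralizer_singleton_iff.mp hx.2
  have hxo := Subgroup.orderOf_dvd_natCard _ hx.1
  obtain ⟨n, hn, hne⟩ := Nat.exists_prime_and_dvd (fun e' => he1 (orderOf_eq_one_iff.mp e'))
  rcases (Nat.Prime.dvd_mul hn).mp (hne.trans ((Subgroup.orderOf_dvd_natCard _ he).trans hE))
    with hd | hd
  · rw [(Nat.prime_dvd_prime_iff_eq hn h.primeK).mp hd] at hne
    have := hf'.orderOf_dvd_of_commute hne hxe
    rw [hf'.card_P] at this
    exact Nat.eq_one_of_dvd_coprimes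
      ((Nat.Coprime.coprime_mul_right_right hcop).pow_right _ |>.mul_right
        (Nat.Coprime.coprime_mul_left_right hcop)) hxo this
  · rw [(Nat.prime_dvd_prime_iff_eq hn h.primeW).mp hd] at hne
    have := hf.orderOf_dvd_of_commute hne hxe
    rw [hf.card_P] at this
    exact Nat.eq_one_of_dvd_coprimes
      ((Nat.Coprime.coprime_mul_left_right hcop).pow_right _ |>.mul_right
        (Nat.Coprime.coprime_mul_right_right hcop)) hxo this

end CfsgLib.Peterfalvi.Pair
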