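import Cfsg.Agent.Lib.Peterfalvi.Pair.SideChars

/-!
The multiplicities of the linear characters of `F(M)` in the family of the cyclic TI set.
-/

set_option autoImplicit false
set_option linter.style.haveILetI false
set_option linter.unusedSectionVars false

namespace CfsgLib.Peterfalvi.Pair

open Cfsg CfsgLib.Char
open scoped ComplexConjugate CfsgLib.Char

universe u

variable {G : Type u} [Group G] [Fintype G] {M K U W : Subgroup G}

/-- A linear character of `F(M)` whose stabiliser in `U` is as small as possible. -/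
def IsMin (h : Side M K U W) (χ : Lin (fittingOf M)) : Prop :=
  ∀ u : M, (u : G) ∈ U → u ∈ linStab χ → (u : G) ∈ h.C

variable {h : Side M K U W} {ω : Lin W → Lin K → Lin (fittingOf M ⊔ K : Subgroup G)}
  (hω : IsOmega h ω) {η : Lin W → Lin K → G → ℂ} (hη : IsGrid K W η)
include hω hη

theorem min_lam {a : Lin W} (ha : a ≠ 1) : IsMin h (hω.lam a) := fun _ hu hm =>
  hω.mem_C_of_fix ha hu hm

open _root_.Classical in
/-- On the linear characters with minimal stabiliser the multiplicities are constant up to one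
orbit of exceptional characters. -/
theorem cells (i : Lin W) (j : Lin K) :
    ∃ κ : ℤ,
      (i = 1 → ∀ χ, IsMin h χ → classInner (ind χ) (η i j) = (κ : ℂ)) ∧
      (i ≠ 1 → ∃ ε : ℤ, (ε = 1 ∨ ε = -1) ∧ ∃ a : Lin W, a ≠ 1 ∧ ∀ χ, IsMin h χ →
        classInner (ind χ) (η i j) =
          ((κ + if ∃ m, tw (hω.lam a) m = χ then ε else 0 : ℤ) : ℂ)) := by
  classical
  obtain ⟨a₀, a₁, ha₀, ha₁, -⟩ := exists_two (X := Lin W) (by
    rw [hη.cardI]; exact h.three_le_W) 1
  obtain ⟨z, hz⟩ : ∃ z : Lin W → ℤ, ∀ a, classInner (ind (hω.lam a)) (η i j) = z a :=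
    ⟨fun a => (exists_int_classInner (isGeneralized_ind _) (hη.isGeneralized i j)).choose,
      fun a => (exists_int_classInner (isGeneralized_ind _) (hη.isGeneralized i j)).choose_spec⟩
  set ι : Lin W → ℤ := fun a => if i = a then 1 else 0 with hι
  -- exceptional characters
  have hlam : ∀ a, a ≠ 1 → z a = z a₀ - ι a₀ + ι a := by
    intro a ha
    have h1 : classInner (ind (hω.lam a) - ind (hω.lam a₀)) (η i j) = ((ι a - ι a₀ : ℤ) : ℂ) := by
      rw [ind_lam_sub hω hη ha ha₀, classInner_sum_left, Fintype.sum_eq_single j fun b hb => by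
        rw [classInner_sub_left, hη.orth, hη.orth, if_neg fun e => hb e.2,
          if_neg fun e => hb e.2, sub_zero]]
      rw [classInner_sub_left, hη.orth, hη.orth]
      simp only [hι, and_true, Int.cast_sub, Int.cast_ite, Int.cast_one, Int.cast_zero]
      exact congrArg₂ (· - ·) (if_congr eq_comm rfl rfl) (if_congr eq_comm rfl rfl)
    rw [classInner_sub_left, hz, hz] at h1
    have : ((z a - z a₀ : ℤ) : ℂ) = ((ι a - ι a₀ : ℤ) : ℂ) := by push_cast at h1 ⊢; exact h1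
    have := Int.cast_injective this
    omega
  set κ₀ := z a₀ - ι a₀ with hκ₀
  have hconj : ∀ a, a ≠ 1 → ∀ χ, (∃ m, tw (hω.lam a) m = χ) →
      classInner (ind χ) (η i j) = ((κ₀ + ι a : ℤ) : ℂ) := by
    rintro a ha χ ⟨m, rfl⟩
    rw [ind_tw, hz, hlam a ha]
  -- free characters
  have hdich : ∀ χ, IsMin h χ → IsFree χ ∨ ∃ a, a ≠ 1 ∧ ∃ m, tw (hω.lam a) m = χ := fun χ hχ => by
    rcases hω.free_or_lam hχ with h' | ⟨a, ha, m, hm⟩
    · exact Or.inl h'
    · exact Or.inr ⟨a, ha, m, hm.symm⟩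
  have hfree : ∃ t : ℤ, (t = 0 ∨ (Nat.card W = 3 ∧ t = if i = 1 then 0 else 1)) ∧
      ∀ χ : Lin (fittingOf M), IsFree χ → classInner (ind χ) (η i j) = ((κ₀ + t : ℤ) : ℂ) := by
    by_cases hex : ∃ χ₀ : Lin (fittingOf M), IsFree χ₀
    swap
    · exact ⟨0, Or.inl rfl, fun χ hχ => absurd ⟨χ, hχ⟩ hex⟩
    obtain ⟨χ₀, hχ₀⟩ := hex
    obtain ⟨c, hc⟩ := hη.exists_coeff
      (isGeneralized_sub (isGeneralized_ind χ₀) (isGeneralized_ind (hω.lam a₀)))
    have hsame : ∀ χ, IsFree χ → classInner (ind χ) (η i j) = classInner (ind χ₀) (η i j) :=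
      fun χ hχ => sub_eq_zero.mp (by rw [← classInner_sub_left]; exact ind_sub_orth hω hη hχ hχ₀ i j)
    have hval : classInner (ind χ₀) (η i j) = ((z a₀ + c i j : ℤ) : ℂ) := by
      have := hc i j
      rw [classInner_sub_left, hz, sub_eq_iff_eq_add'] at this
      rw [this]; push_cast; ring
    refine ⟨ι a₀ + c i j, ?_, fun χ hχ => by
      rw [hsame χ hχ, hval]; congr 1; rw [hκ₀]; ring⟩
    rcases free_sub_lam hω hη hχ₀ ha₀ hc with h' | ⟨h3, h'⟩
    · refine Or.inl ?_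
      simp only [hι, h']
      split_ifs <;> omega
    · refine Or.inr ⟨h3, ?_⟩
      simp only [hι, h']
      by_cases h1 : i = 1
      · simp [h1, Ne.symm ha₀]
      · by_cases h2 : i = a₀
        · simp [h2, ha₀]
        · simp [h1, h2]
  obtain ⟨t, ht, hfv⟩ := hfree
  rcases eq_or_ne i 1 with rfl | hi
  · have ht0 : t = 0 := by rcases ht with h' | ⟨-, h'⟩; exacts [h', by simpa using h']
    refine ⟨κ₀, fun _ χ hχ => ?_, fun e => absurd rfl e⟩
    rcases hdich χ hχ with h' | ⟨a, ha, h'⟩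
    · rw [hfv χ h', ht0, add_zero]
    · rw [hconj a ha χ h']
      simp [hι, Ne.symm ha]
  rcases ht with ht0 | ⟨h3, ht1⟩
  · refine ⟨κ₀, fun e => absurd e hi, fun _ => ⟨1, Or.inl rfl, i, hi, fun χ hχ => ?_⟩⟩
    rcases hdich χ hχ with h' | ⟨a, ha, m, h'⟩
    · rw [hfv χ h', ht0, if_neg fun ⟨m, hm⟩ => h'.not_conj_lam hω i m hm]
    · rw [hconj a ha χ ⟨m, h'⟩]
      congr 2
      refine if_congr ⟨fun e => e ▸ ⟨m, h'⟩, fun ⟨m', hm'⟩ => ?_⟩ rfl rfl
      refine (hω.lam_conj_inj hi (m := m' * m⁻¹) ?_).1.symm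
      rw [tw_mul, hm', ← h', ← tw_mul, mul_inv_cancel, tw_one]
  · rw [if_neg hi] at ht1
    obtain ⟨a₂, ha₂, ha₂1⟩ : ∃ a₂ : Lin W, a₂ ≠ i ∧ a₂ ≠ 1 := by
      obtain ⟨x, y, hx, hy, hxy⟩ := exists_two (X := Lin W) (by rw [hη.cardI]; omega) 1
      by_cases hxi : x = i
      · exact ⟨y, fun e => hxy (hxi.trans e.symm), hy⟩
      · exact ⟨x, hxi, hx⟩
    have honly : ∀ a : Lin W, a ≠ 1 → a ≠ i → a = a₂ := by
      intro a ha hai
      by_contra hne
      have := Finset.card_le_univ ({1, i, a₂, a} : Finset (Lin W))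
      rw [hη.cardI, h3, Finset.card_insert_of_notMem (by simp [Ne.symm hi, Ne.symm ha₂1, Ne.symm ha]),
        Finset.card_insert_of_notMem (by simp [Ne.symm ha₂, Ne.symm hai]),
        Finset.card_insert_of_notMem (by simp [Ne.symm hne]), Finset.card_singleton] at this
      omega
    refine ⟨κ₀ + 1, fun e => absurd e hi, fun _ => ⟨-1, Or.inr rfl, a₂, ha₂1, fun χ hχ => ?_⟩⟩
    rcases hdich χ hχ with h' | ⟨a, ha, m, h'⟩
    · rw [hfv χ h', ht1, if_neg fun ⟨m, hm⟩ => h'.not_conj_lam hω a₂ m hm, add_zero]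
    · rw [hconj a ha χ ⟨m, h'⟩]
      congr 1
      by_cases hai : a = i
      · subst hai
        rw [if_neg fun ⟨m', hm'⟩ => ha₂ (hω.lam_conj_inj ha₂1 (m := m' * m⁻¹) (by
          rw [tw_mul, hm', ← h', ← tw_mul, mul_inv_cancel, tw_one])).1.symm, add_zero]
        simp [hι]
      · rw [if_pos ⟨m, (honly a ha hai) ▸ h'⟩]
        simp [hι, Ne.symm hai]

end CfsgLib.Peterfalvi.Pair
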