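import Cfsg.Agent.Lib.Peterfalvi.Pair.Decomp
import Cfsg.Agent.Lib.Peterfalvi.Pair.SideCells

/-!
The fundamental inequality of a pair.
-/

set_option autoImplicit false
set_option linter.style.haveILetI false
set_option linter.unusedSectionVars false

namespace CfsgLib.Peterfalvi.Pair

open Cfsg CfsgLib.Char
open scoped ComplexConjugate CfsgLib.Char

universe u

/-- The lattice minimum for a shifted orbit. -/
theorem lattice_shift {u m : ℕ} (hm : 2 * u ≤ m) {ε : ℤ} (hε : ε = 1 ∨ ε = -1) {s : ℝ}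
    (hs : s = 1 ∨ s = -1) (κ g₁ : ℤ) (x : ℝ) :
    (u : ℝ) - (2 * u + 1) ^ 2 / (4 * (m + 1)) ≤
      ((m : ℝ) - u) * (κ - x) ^ 2 + u * (κ + ε - x) ^ 2 + (g₁ - x) ^ 2 + s * (g₁ - x) := by
  have key : ∀ (n : ℤ) (e : ℝ), (e = 1 ∨ e = -1) → ∀ y : ℝ,
      (u : ℝ) - (2 * u + 1) ^ 2 / (4 * (m + 1)) ≤
        ((m : ℝ) - u) * y ^ 2 + u * (y + e) ^ 2 + (y + n) ^ 2 + (y + n) := by
    intro n e he y
    have he2 : e ^ 2 = 1 := by rcases he with rfl | rfl <;> norm_num
    have hc : (0 : ℝ) < 4 * (m + 1) := by positivity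
    -- completing the square
    have h1 : ((m : ℝ) - u) * y ^ 2 + u * (y + e) ^ 2 + (y + n) ^ 2 + (y + n) =
        ((m : ℝ) + 1) * (y + (2 * u * e + 2 * n + 1) / (2 * (m + 1))) ^ 2 +
          (u + n ^ 2 + n - (2 * u * e + 2 * n + 1) ^ 2 / (4 * (m + 1))) := by
      field_simp
      linear_combination (16 * (u : ℝ) * (m + 1)) * he2
    have h2 : (2 * (u : ℝ) * e + 2 * n + 1) ^ 2 ≤ (2 * u + 1) ^ 2 + 4 * (m + 1) * (n ^ 2 + n) := by
      have hu : (0 : ℝ) ≤ u := Nat.cast_nonneg _
      have hmu : (0 : ℝ) ≤ (m : ℝ) - 2 * u := by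
        have : ((2 * u : ℕ) : ℝ) ≤ m := by exact_mod_cast hm
        push_cast at this; linarith
      have hmz : (0 : ℤ) ≤ n * (n + 1) := by
        rcases le_or_gt 0 n with h | h
        · exact mul_nonneg h (by omega)
        · exact mul_nonneg_of_nonpos_of_nonpos h.le (by omega)
      have hm' : (0 : ℝ) ≤ (n : ℝ) * (n + 1) := by exact_mod_cast hmz
      rcases le_or_gt 0 n with h | h
      · have hn : (0 : ℝ) ≤ n := by exact_mod_cast h
        rcases he with rfl | rfl <;>
          nlinarith [mul_nonneg hm' hu, mul_nonneg hm' hmu, mul_nonneg hn hu, mul_nonneg hn hmu,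
            mul_nonneg (mul_nonneg hn hn) hu, mul_nonneg (mul_nonneg hn hn) hmu]
      · have hn : (0 : ℝ) ≤ -1 - (n : ℝ) := by
          have : (n : ℝ) ≤ -1 := by exact_mod_cast (show n ≤ -1 by omega)
          linarith
        rcases he with rfl | rfl <;>
          nlinarith [mul_nonneg hm' hu, mul_nonneg hm' hmu, mul_nonneg hn hu, mul_nonneg hn hmu,
            mul_nonneg (mul_nonneg hn hn) hu, mul_nonneg (mul_nonneg hn hn) hmu]
    have h3 : (2 * (u : ℝ) * e + 2 * n + 1) ^ 2 / (4 * (m + 1)) ≤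
        (2 * u + 1) ^ 2 / (4 * (m + 1)) + (n ^ 2 + n) := by
      rw [div_add' _ _ _ hc.ne', div_le_div_iff_of_pos_right hc]
      linarith
    have h4 : 0 ≤ ((m : ℝ) + 1) * (y + (2 * u * e + 2 * n + 1) / (2 * (m + 1))) ^ 2 := by positivity
    linarith
  rcases hs with rfl | rfl
  · have := key (g₁ - κ) ε (by rcases hε with rfl | rfl <;> simp) (κ - x)
    push_cast at this
    convert this using 1
    ring
  · have := key (κ - g₁) (-ε) (by rcases hε with rfl | rfl <;> simp) (x - κ)
    push_cast at this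
    convert this using 1
    ring

/-- The lattice minimum without a shifted orbit. -/
theorem lattice_plain (m : ℕ) {s : ℝ} (hs : s = 1 ∨ s = -1) (κ g₁ : ℤ) (x : ℝ) :
    -(1 : ℝ) / (4 * (m + 1)) ≤ (m : ℝ) * (κ - x) ^ 2 + (g₁ - x) ^ 2 + s * (g₁ - x) := by
  have h := lattice_shift (u := 0) (m := m) (by simp) (ε := 1) (Or.inl rfl) hs κ g₁ x
  simp at h
  have e : -(1 : ℝ) / (4 * (m + 1)) = -(((m : ℝ) + 1)⁻¹ * 4⁻¹) := by field_simp
  rw [e]
  linarith

variable {G : Type u} [Group G] [Fintype G] {M K U W : Subgroup G}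

/-- The number of linear characters of `F(M)` with minimal stabiliser. -/
noncomputable def minCount (h : Side M K U W) : ℕ :=
  Nat.card {χ : Lin (fittingOf M) // IsMin h χ}

theorem one_not_isMin (h : Side M K U W) : ¬ IsMin h (1 : Lin (fittingOf M)) := fun hmin =>
  h.C_ne_U (le_antisymm inf_le_left fun v hv =>
    hmin ⟨v, U_le h.hP hv⟩ hv (mem_linStab.mpr (MonoidHom.ext fun _ => rfl)))

theorem isMin_tw (h : Side M K U W) {χ : Lin (fittingOf M)} (hχ : IsMin h χ) (m : M) :
    IsMin h (tw χ m) := by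
  intro u hu hst
  rw [linStab_tw] at hst
  obtain ⟨x, v, z, hx, hv, hz, rfl⟩ := h.exists_decomp m
  set w := x * u * x⁻¹ with hw
  have hwU : (w : G) ∈ U := by
    push_cast [hw]
    exact CfsgLib.BG.FixedLine.conj_mem_of_le_normalizer (h.hP.U_normal hx) _ hu
  have hwS : w ∈ linStab χ := by
    have hc : ∀ {s : M}, (s : G) ∈ fittingOf M → s ∈ linStab χ := fun hs =>
      mem_linStab.mpr (tw_of_mem χ hs)
    have h1 : z⁻¹ * (z * v * x * u * (z * v * x)⁻¹) * z ∈ linStab χ :=
      mul_mem (mul_mem (inv_mem (hc hz)) hst) (hc hz)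
    have e : z⁻¹ * (z * v * x * u * (z * v * x)⁻¹) * z = (v * w * v⁻¹ * w⁻¹) * w := by
      rw [hw]; group
    rw [e] at h1
    have h2 : v * w * v⁻¹ * w⁻¹ ∈ linStab χ := hc (by
      push_cast
      exact h.C_le_fittingOf (h.commutator_mem_C hv hwU))
    have := mul_mem (inv_mem h2) h1
    rwa [inv_mul_cancel_left] at this
  have hwC := hχ w hwU hwS
  have := CfsgLib.BG.FixedLine.conj_mem_of_le_normalizer
    ((le_sup_right.trans h.le_normalizer_C) (inv_mem hx)) _ hwC
  push_cast [hw] at this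
  simpa [mul_assoc] using this

variable {h : Side M K U W} {ω : Lin W → Lin K → Lin (fittingOf M ⊔ K : Subgroup G)}
  (hω : IsOmega h ω) {η : Lin W → Lin K → G → ℂ} (hη : IsGrid K W η)
include hω

theorem card_orbit_lam {a : Lin W} (ha : a ≠ 1) :
    Nat.card {χ : Lin (fittingOf M) // ∃ m, tw (hω.lam a) m = χ} = h.u' := by
  haveI : Fintype M := Fintype.ofFinite _
  rw [← hω.relIndex_L, Subgroup.relIndex]
  have hst : linStab (hω.lam a) = (fittingOf M ⊔ K).subgroupOf M :=
    Subgroup.ext fun m => (hω.stab_lam ha m).trans Subgroup.mem_subgroupOf.symm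
  rw [← hst]
  let f : M ⧸ linStab (hω.lam a) → {χ : Lin (fittingOf M) // ∃ m, tw (hω.lam a) m = χ} :=
    fun q => Quotient.liftOn' q (fun m => ⟨tw (hω.lam a) m⁻¹, m⁻¹, rfl⟩) fun m n hmn => by
      refine Subtype.ext ((tw_eq_tw_iff _ _ _).mpr ?_)
      rw [inv_inv]
      exact QuotientGroup.leftRel_apply.mp hmn
  refine (Nat.card_congr (Equiv.ofBijective f ⟨?_, ?_⟩)).symm
  · intro q r
    induction q using QuotientGroup.induction_on with
    | _ m =>
      induction r using QuotientGroup.induction_on with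
      | _ n =>
        intro e
        have := (tw_eq_tw_iff _ _ _).mp (congrArg Subtype.val e)
        rw [inv_inv] at this
        exact QuotientGroup.eq.mpr this
  · rintro ⟨χ, m, rfl⟩
    exact ⟨QuotientGroup.mk m⁻¹, Subtype.ext (show tw (hω.lam a) m⁻¹⁻¹ = tw (hω.lam a) m by
      rw [inv_inv])⟩

include hη

open _root_.Classical in
/-- The weight of the restriction to `F(M)`. -/
theorem part_ge [Fintype (fittingOf M)] (i : Lin W) (j : Lin K) {s : ℝ} (hs : s = 1 ∨ s = -1)
    (hm : 2 * h.u' ≤ minCount h) {d : ℤ} (hd : η i j 1 = d) :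
    (if i = 1 then -(1 : ℝ) / (4 * (minCount h + 1))
      else (h.u' : ℝ) - (2 * h.u' + 1) ^ 2 / (4 * (minCount h + 1))) / (h.u' * Nat.card K) ≤
      part (fittingOf M) (η i j) s / Nat.card M := by
  haveI : Fintype M := Fintype.ofFinite _
  obtain ⟨κ, hκ0, hκ1⟩ := cells hω hη i j
  obtain ⟨g, hg⟩ : ∃ g : Lin (fittingOf M) → ℤ, ∀ χ, classInner (ind χ) (η i j) = g χ :=
    ⟨fun χ => (exists_int_classInner (isGeneralized_ind χ) (hη.isGeneralized i j)).choose,
      fun χ => (exists_int_classInner (isGeneralized_ind χ) (hη.isGeneralized i j)).choose_spec⟩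
  set x : ℝ := (d : ℝ) / Nat.card (fittingOf M) with hx
  set S := Finset.univ.filter fun χ : Lin (fittingOf M) => IsMin h χ with hS
  have hScard : S.card = minCount h := by
    rw [minCount, Nat.card_eq_fintype_card, Fintype.card_subtype]
  have hrec : ∀ χ, classInner (fun y : fittingOf M => η i j y) (fun y => (χ y : ℂ)) = g χ := by
    intro χ
    have := hg χ
    rw [← classInner_conj_symm, ind, frobenius_reciprocity' _ _ (hη.isClassFunction i j)] at this
    exact (starRingEnd ℂ).injective (this.trans (map_intCast _ _).symm)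
  have hb := sum_sq_restrict_ge (H := fittingOf M) S
    (fun hc => one_not_isMin h (Finset.mem_filter.mp hc).2) (g := g) (fun χ _ => hrec χ) hd s
  have hM : (Nat.card M : ℝ) = (Nat.card (fittingOf M) : ℝ) * (h.u' * Nat.card K) := by
    rw [← Nat.cast_mul, ← Nat.cast_mul, ← hω.relIndex_X,
      ← Nat.card_congr (Subgroup.subgroupOfEquivOfLe h.fittingOf_le).toEquiv, Subgroup.relIndex,
      Subgroup.card_mul_index]
  have hX : (0 : ℝ) < Nat.card (fittingOf M) := by exact_mod_cast Nat.card_pos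
  have hge : (if i = 1 then -(1 : ℝ) / (4 * (minCount h + 1))
      else (h.u' : ℝ) - (2 * h.u' + 1) ^ 2 / (4 * (minCount h + 1))) ≤
      (∑ χ ∈ S, ((g χ : ℝ) - x) ^ 2) + ((g 1 : ℝ) - x) ^ 2 + s * ((g 1 : ℝ) - x) := by
    split_ifs with hi
    · have e : ∑ χ ∈ S, ((g χ : ℝ) - x) ^ 2 = (minCount h : ℝ) * ((κ : ℝ) - x) ^ 2 := by
        rw [Finset.sum_congr rfl (g := fun _ => ((κ : ℝ) - x) ^ 2) fun χ hχ => by
          rw [show g χ = κ from Int.cast_injective (α := ℂ)
            ((hg χ).symm.trans (hκ0 hi χ (Finset.mem_filter.mp hχ).2))],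
          Finset.sum_const, hScard, nsmul_eq_mul]
      rw [e]
      exact lattice_plain _ hs κ (g 1) x
    · obtain ⟨ε, hε, a, ha, hval⟩ := hκ1 hi
      have hO : (S.filter fun χ => ∃ m, tw (hω.lam a) m = χ).card = h.u' := by
        rw [← card_orbit_lam hω ha, Nat.card_eq_fintype_card, Fintype.card_subtype]
        congr 1
        ext χ
        simp only [hS, Finset.mem_filter, Finset.mem_univ, true_and, and_iff_right_iff_imp]
        rintro ⟨m, rfl⟩
        exact isMin_tw h (min_lam hω hη ha) m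
      have e : ∑ χ ∈ S, ((g χ : ℝ) - x) ^ 2 =
          ((minCount h : ℝ) - h.u') * ((κ : ℝ) - x) ^ 2 + h.u' * ((κ : ℝ) + ε - x) ^ 2 := by
        rw [← Finset.sum_filter_add_sum_filter_not S (fun χ => ∃ m, tw (hω.lam a) m = χ),
          Finset.sum_congr rfl (g := fun _ => ((κ : ℝ) + ε - x) ^ 2) fun χ hχ => by
            have h1 := (hg χ).symm.trans (hval χ (Finset.mem_filter.mp
              (Finset.mem_filter.mp hχ).1).2)
            rw [if_pos (Finset.mem_filter.mp hχ).2] at h1
            rw [Int.cast_injective (α := ℂ) h1]; push_cast; ring,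
          Finset.sum_congr rfl (g := fun _ => ((κ : ℝ) - x) ^ 2)
            (s₁ := S.filter fun χ => ¬ ∃ m, tw (hω.lam a) m = χ) fun χ hχ => by
            have h1 := (hg χ).symm.trans (hval χ (Finset.mem_filter.mp
              (Finset.mem_filter.mp hχ).1).2)
            rw [if_neg (Finset.mem_filter.mp hχ).2, add_zero] at h1
            rw [Int.cast_injective (α := ℂ) h1],
          Finset.sum_const, Finset.sum_const, nsmul_eq_mul, nsmul_eq_mul, hO]
        have hc := Finset.card_filter_add_card_filter_not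
          (s := S) (fun χ => ∃ m, tw (hω.lam a) m = χ)
        rw [hO, hScard] at hc
        have hc' : ((S.filter fun χ => ¬ ∃ m, tw (hω.lam a) m = χ).card : ℝ) =
            minCount h - h.u' := by
          rw [eq_sub_iff_add_eq, ← Nat.cast_add]
          exact_mod_cast (by omega)
        rw [hc']
        ring
      rw [e]
      exact lattice_shift hm hε hs κ (g 1) x
  have hu : (0 : ℝ) < h.u' * Nat.card K :=
    mul_pos (by have := h.u'_ge; exact_mod_cast (by omega : 0 < h.u'))
      (by exact_mod_cast Nat.card_pos)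
  rw [hM, div_le_div_iff₀ hu (mul_pos hX hu)]
  calc _ ≤ ((∑ χ ∈ S, ((g χ : ℝ) - x) ^ 2) + ((g 1 : ℝ) - x) ^ 2 + s * ((g 1 : ℝ) - x)) *
        (Nat.card (fittingOf M) * (h.u' * Nat.card K)) :=
      mul_le_mul_of_nonneg_right hge (mul_pos hX hu).le
    _ = (Nat.card (fittingOf M) : ℝ) * ((∑ χ ∈ S, ((g χ : ℝ) - x) ^ 2) + ((g 1 : ℝ) - x) ^ 2 +
        s * ((g 1 : ℝ) - x)) * (h.u' * Nat.card K) := by ring
    _ ≤ _ := by
      refine mul_le_mul_of_nonneg_right (hb.trans (le_of_eq ?_)) hu.le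
      simp only [part]

end CfsgLib.Peterfalvi.Pair
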