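import Cfsg.Agent.Lib.Peterfalvi.Pair.SideTI
import Cfsg.Agent.Lib.OddLocal.Cores

/-!
The Fitting subgroups of the two maximal subgroups of a pair have no nontrivial conjugate elements.
-/

set_option autoImplicit false
set_option linter.style.haveILetI false
set_option linter.unusedSectionVars false

namespace CfsgLib.Peterfalvi.Pair

open Cfsg CfsgLib.Char
open CfsgLib.BG.FixedLine (conj_mem_of_le_normalizer)

universe u

variable {G : Type u} [Group G] [Finite G] {M K U W : Subgroup G}

theorem Side.card_M (h : Side M K U W) :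
    Nat.card M = Nat.card (fittingHallOf M) * Nat.card U * Nat.card K := by
  have h3 : Nat.card M = Nat.card ↥⁅M, M⁆ * Nat.card K := by
    have := Coprime.card_sup_of_coprime ((K_le h.hP).trans (le_normalizer_derived M))
      (coprime_derived_K h.hP)
    rwa [sup_eq_of_isComplIn h.hP.W₁_compl] at this
  have h4 := Coprime.card_sup_of_coprime h.U_le_normalizer_P h.coprime_P_U
  rw [derived_eq_sup h.hP] at h4
  rw [h3, h4]

theorem Side.not_sq_dvd (h : Side M K U W) : ¬ Nat.card K ^ 2 ∣ Nat.card M := fun hd => by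
  rw [h.card_M, mul_comm _ (Nat.card K), sq] at hd
  exact Nat.not_coprime_of_dvd_of_dvd h.primeK.one_lt
    (Nat.dvd_of_mul_dvd_mul_left h.primeK.pos hd) dvd_rfl
    (Nat.Coprime.mul_left h.coprime_P_K h.coprime_U_K)

/-- The two Fitting subgroups have no nontrivial conjugate elements. -/
theorem pair_disjoint {M' V : Subgroup G} (h : Side M K U W) (h' : Side M' W V K) {z : G}
    (hz : z ∈ fittingOf M) (hz1 : z ≠ 1) (y : G) : y * z * y⁻¹ ∉ fittingOf M' := by
  intro hzy
  set p := Nat.card W with hp
  haveI : Fact p.Prime := ⟨h.primeW⟩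
  haveI := OddLocal.fittingOf_isNilpotent M
  have hzp : (orderOf z).Coprime p := by
    have h1 : orderOf (y * z * y⁻¹) = orderOf z :=
      orderOf_injective (MulAut.conj y).toMonoidHom (MulAut.conj y).injective z
    exact h'.card_fittingOf_coprime.coprime_dvd_left (h1 ▸ Subgroup.orderOf_dvd_natCard _ hzy)
  obtain ⟨R⟩ := (inferInstance : Nonempty (Sylow p (fittingOf M)))
  have hR : p ^ Nat.card K ∣ Nat.card (R : Subgroup (fittingOf M)) := by
    have h1 : p ^ Nat.card K ∣ Nat.card (fittingOf M) := by
      rw [h.card_fittingOf, h.card_P]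
      exact Dvd.dvd.mul_right (dvd_mul_right _ _) _
    rw [R.card_eq_multiplicity]
    exact pow_dvd_pow _ ((h.primeW.pow_dvd_iff_le_factorization Nat.card_pos.ne').mp h1)
  have hle : (R : Subgroup (fittingOf M)).map
      ((MulAut.conj y).toMonoidHom.comp (fittingOf M).subtype) ≤ M' := by
    rintro _ ⟨r, hr, rfl⟩
    refine h'.centralizer_le hzy (fun e => hz1 (conj_eq_one_iff.mp e))
      (Subgroup.mem_centralizer_singleton_iff.mpr ?_)
    have hc : r * ⟨z, hz⟩ = ⟨z, hz⟩ * r := (CfsgLib.Char.PiPart.commute_of_coprime (by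
      obtain ⟨n, hn⟩ := R.isPGroup' ⟨r, hr⟩
      have hd : orderOf r ∣ p ^ n := orderOf_dvd_of_pow_eq_one (congrArg Subtype.val hn)
      refine Nat.Coprime.coprime_dvd_left hd ?_
      rw [Subgroup.orderOf_mk]
      exact (Nat.Coprime.pow_right n hzp).symm)).eq
    have hc' : (r : G) * z = z * r := congrArg Subtype.val hc
    simp only [MonoidHom.coe_comp, Function.comp_apply, Subgroup.coe_subtype,
      MulEquiv.coe_toMonoidHom, MulAut.conj_apply]
    calc y * r * y⁻¹ * (y * z * y⁻¹) = y * ((r : G) * z) * y⁻¹ := by group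
      _ = y * (z * r) * y⁻¹ := by rw [hc']
      _ = _ := by group
  have hinj : Function.Injective
      ((MulAut.conj y).toMonoidHom.comp (fittingOf M).subtype) :=
    (MulAut.conj y).injective.comp (fittingOf M).subtype_injective
  have h2 := Subgroup.card_dvd_of_le hle
  rw [Subgroup.card_map_of_injective hinj] at h2
  exact h'.not_sq_dvd ((pow_dvd_pow _ (by have := h.three_le_K; omega)).trans (hR.trans h2))

end CfsgLib.Peterfalvi.Pair
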