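import Cfsg.Agent.Lib.Peterfalvi.Pair.NormIneq

/-!
The deficiencies of the two sides of a pair add up to at least two.
-/

set_option autoImplicit false
set_option linter.style.haveILetI false
set_option linter.unusedSectionVars false

namespace CfsgLib.Peterfalvi.Pair

open Cfsg CfsgLib.Char
open scoped ComplexConjugate CfsgLib.Char

universe u

variable {G : Type u} [Group G] [Fintype G]

theorem sum_ne_one {W : Subgroup G} [Fintype W] [DecidableEq W] (a : Lin W) (ha : a ≠ 1) :
    ∑ y : W, (if y ≠ 1 then (a y : ℂ) else 0) = -1 := by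
  classical
  have h := classInner_irr_ne (isIrrCharacter_monoidHom a) (isIrrCharacter_one (G := W))
    (fun e => ha (MonoidHom.ext fun y => Units.ext (congrFun e y)))
  simp only [classInner, map_one, mul_one, mul_eq_zero, inv_eq_zero, Nat.cast_eq_zero,
    Nat.card_pos.ne', false_or] at h
  rw [← Finset.add_sum_erase _ _ (Finset.mem_univ (1 : W)), map_one, Units.val_one] at h
  rw [← Finset.sum_filter, Finset.filter_ne']
  linear_combination h

/-- The weight of the cyclic TI set for a member of the family off the axes. -/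
theorem partW_eq {K W : Subgroup G} [Fintype K] [Fintype W] {η : Lin W → Lin K → G → ℂ}
    (hη : IsGrid K W η) {a : Lin W} (ha : a ≠ 1) {b : Lin K} (hb : b ≠ 1) :
    partW K W (η a b) 1 = ((Nat.card K : ℝ) - 1) * (Nat.card W - 1) + 1 := by
  classical
  have h1 : ∀ (x : K) (y : W), (if x ≠ 1 ∧ y ≠ 1 then
      ‖η a b ((x : G) * y)‖ ^ 2 + 1 * (η a b ((x : G) * y)).re else 0) =
      (if x ≠ 1 then (1 : ℝ) else 0) * (if y ≠ 1 then 1 else 0) +
        ((if x ≠ 1 then (b x : ℂ) else 0) * (if y ≠ 1 then (a y : ℂ) else 0)).re := by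
    intro x y
    by_cases hx : x = 1
    · simp [hx]
    by_cases hy : y = 1
    · simp [hy]
    have hnorm : ∀ {H : Subgroup G} (c : Lin H) (z : H), ‖(c z : ℂ)‖ = 1 := fun c z =>
      Complex.norm_eq_one_of_pow_eq_one (n := orderOf z)
        (by rw [← Units.val_pow_eq_pow_val, ← map_pow, pow_orderOf_eq_one, map_one, Units.val_one])
        (orderOf_pos z).ne'
    rw [if_pos ⟨hx, hy⟩, hη.value a b x y hx hy, norm_mul, hnorm, hnorm]
    simp [hx, hy, mul_comm]
  simp only [partW, h1, Finset.sum_add_distrib, ← Finset.mul_sum, ← Finset.sum_mul,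
    ← Complex.re_sum, sum_ne_one a ha, sum_ne_one b hb]
  have hc : ∀ (H : Subgroup G) [Fintype H],
      ∑ x : H, (if x ≠ 1 then (1 : ℝ) else 0) = (Nat.card H : ℝ) - 1 := by
    intro H _
    rw [← Finset.sum_filter, Finset.sum_const, Finset.filter_ne', nsmul_one,
      Finset.card_erase_of_mem (Finset.mem_univ _), Finset.card_univ, Nat.card_eq_fintype_card,
      Nat.cast_sub Fintype.card_pos, Nat.cast_one]
  rw [hc K, hc W]
  norm_num

variable {M K U W M' V : Subgroup G}

/-- The deficiency of a side. -/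
noncomputable def defect (h : Side M K U W) : ℝ :=
  (Nat.card W : ℝ) * (2 * h.u' + 1) ^ 2 / (4 * h.u' * (minCount h + 1))

/-- The fundamental inequality. -/
theorem two_le_defect_add (h : Side M K U W) (h' : Side M' W V K)
    (hm : 2 * h.u' ≤ minCount h) (hm' : 2 * h'.u' ≤ minCount h') :
    2 ≤ defect h + defect h' := by
  classical
  obtain ⟨η, hη⟩ := exists_grid h.hP.selfNormalizing
    (h.odd_G.of_dvd_nat K.card_subgroup_dvd_card) (h.odd_G.of_dvd_nat W.card_subgroup_dvd_card)
  obtain ⟨ω, hω⟩ := exists_isOmega h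
  obtain ⟨ω', hω'⟩ := exists_isOmega h'
  obtain ⟨a, -, ha, -, -⟩ := exists_two (X := Lin W) (by rw [hη.cardI]; exact h.three_le_W) 1
  obtain ⟨b, -, hb, -, -⟩ := exists_two (X := Lin K) (by rw [hη.cardJ]; exact h.three_le_K) 1
  obtain ⟨d, hd⟩ : ∃ d : ℤ, η a b 1 = d := hη.intVal a b 1 (by simp)
  have hn : classInner (η a b) (η a b) = 1 := by rw [hη.orth, if_pos ⟨rfl, rfl⟩]
  have h1 : classInner (η a b) (fun _ => 1) = 0 := by
    rw [← hη.one, hη.orth, if_neg fun e => ha e.1]
  have hS := part_ge hω hη a b (s := 1) (Or.inl rfl) hm hd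
  have hT := part_ge hω' hη.transpose b a (s := 1) (Or.inl rfl) hm' hd
  rw [if_neg ha] at hS
  rw [if_neg hb] at hT
  have hdec := decomp h h' (hη.isGeneralized a b) hd hn h1 (s := 1) (Or.inl rfl) (Z := ∅)
    (fun g hg => absurd hg (Set.notMem_empty g)) (Set.notMem_empty _)
    (fun g hg => absurd hg (Set.notMem_empty g)) (fun g hg => absurd hg (Set.notMem_empty g))
    (fun g hg => absurd hg (Set.notMem_empty g))
  simp only [Set.toFinset_empty, Finset.sum_empty, zero_div, add_zero, partW_eq hη ha hb] at hdec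
  set r : ℝ := ((Nat.card W : ℕ) : ℝ) with hr
  set q : ℝ := ((Nat.card K : ℕ) : ℝ) with hq
  have hr0 : 0 < r := by rw [hr]; exact_mod_cast Nat.card_pos
  have hq0 : 0 < q := by rw [hq]; exact_mod_cast Nat.card_pos
  have hu : (0 : ℝ) < h.u' := by have := h.u'_ge; exact_mod_cast (by omega : 0 < h.u')
  have hu' : (0 : ℝ) < h'.u' := by have := h'.u'_ge; exact_mod_cast (by omega : 0 < h'.u')
  have e1 : (r - defect h) / (r * q) ≤ part (fittingOf M) (η a b) 1 / Nat.card M := by
    refine le_trans (le_of_eq ?_) hS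
    rw [defect, ← hr]
    field_simp
  have e2 : (q - defect h') / (r * q) ≤ part (fittingOf M') (η a b) 1 / Nat.card M' := by
    refine le_trans (le_of_eq ?_) hT
    rw [defect, ← hq]
    field_simp
  have key : (r - defect h + (q - defect h') + ((q - 1) * (r - 1) + 1)) / (r * q) ≤ 1 := by
    rw [mul_comm r q] at e1 e2
    rw [add_div, add_div, mul_comm r q]
    linarith
  rw [div_le_one (mul_pos hr0 hq0)] at key
  nlinarith

end CfsgLib.Peterfalvi.Pair
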