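import Cfsg.Agent.Lib.Peterfalvi.Pair.SideData
import Cfsg.Agent.Lib.Coprime.Generation
import Mathlib.GroupTheory.PGroup

/-!
First consequences of the data of a maximal subgroup of type II, III or IV.
-/

set_option autoImplicit false
set_option linter.style.haveILetI false
set_option linter.unusedSectionVars false

namespace CfsgLib.Peterfalvi.Pair

open Cfsg
open CfsgLib.BG.FixedLine (conj_mem_of_le_normalizer)
open scoped Pointwise

universe u

variable {G : Type u} [Group G] [Finite G]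

/-- An element acting freely on a subgroup moves it onto itself by `y ↦ y x y⁻¹ x⁻¹`. -/
theorem exists_eq_mul_conj_inv {H : Subgroup G} {x : G} (hx : x ∈ Subgroup.normalizer (H : Set G))
    (hfree : ∀ h ∈ H, x * h = h * x → h = 1) {h : G} (hh : h ∈ H) :
    ∃ y ∈ H, h = y * (x * y * x⁻¹)⁻¹ := by
  let f : H → H := fun y => ⟨y * (x * y * x⁻¹)⁻¹,
    mul_mem y.2 (inv_mem (conj_mem_of_le_normalizer hx y y.2))⟩
  have hinj : Function.Injective f := by
    intro y z e
    have e' : (y : G) * (x * y * x⁻¹)⁻¹ = z * (x * z * x⁻¹)⁻¹ := congrArg Subtype.val e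
    have h1 : x * ((z : G)⁻¹ * y) = (z : G)⁻¹ * y * x := by
      calc x * ((z : G)⁻¹ * y) = (z : G)⁻¹ * (z * (x * z * x⁻¹)⁻¹) * (x * y) := by group
        _ = (z : G)⁻¹ * (y * (x * y * x⁻¹)⁻¹) * (x * y) := by rw [e']
        _ = _ := by group
    exact Subtype.ext (inv_mul_eq_one.mp (hfree _ (mul_mem (inv_mem z.2) y.2) h1)).symm
  obtain ⟨y, hy⟩ := Finite.surjective_of_injective hinj ⟨h, hh⟩
  exact ⟨y, y.2, (congrArg Subtype.val hy).symm⟩

/-- A group of prime order acting freely leaves a number of elements congruent to one. -/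
theorem card_modEq_one_of_free {H K : Subgroup G} (hK : (Nat.card K).Prime)
    (hKH : K ≤ Subgroup.normalizer (H : Set G))
    (hfree : ∀ x ∈ K, x ≠ 1 → ∀ h ∈ H, x * h = h * x → h = 1) :
    Nat.card H ≡ 1 [MOD Nat.card K] := by
  haveI : Fact (Nat.card K).Prime := ⟨hK⟩
  letI act : MulAction K H :=
    { smul := fun k h => ⟨k * h * (k : G)⁻¹, conj_mem_of_le_normalizer (hKH k.2) h h.2⟩
      one_smul := fun h => Subtype.ext (show ((1 : K) : G) * h * ((1 : K) : G)⁻¹ = h by simp)
      mul_smul := fun a b h => Subtype.ext (show ((a * b : K) : G) * h * ((a * b : K) : G)⁻¹ =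
        a * (b * h * (b : G)⁻¹) * (a : G)⁻¹ by rw [Subgroup.coe_mul]; group) }
  have hp : IsPGroup (Nat.card K) K := IsPGroup.of_card (n := 1) (by rw [pow_one])
  have hone : MulAction.fixedPoints K H = {(1 : H)} := by
    ext h
    simp only [MulAction.mem_fixedPoints, Set.mem_singleton_iff]
    refine ⟨fun hh => ?_, fun e k => ?_⟩
    · obtain ⟨⟨x, hx⟩, hx1⟩ := Subgroup.ne_bot_iff_exists_ne_one.mp
        (show K ≠ ⊥ from fun e => by rw [e, Subgroup.card_bot] at hK; exact Nat.not_prime_one hK)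
      refine Subtype.ext (hfree x hx (fun e => hx1 (Subtype.ext e)) h h.2 ?_)
      have h1 : x * (h : G) * x⁻¹ = h := congrArg Subtype.val (hh ⟨x, hx⟩)
      exact mul_inv_eq_iff_eq_mul.mp h1
    · subst e
      exact Subtype.ext (show (k : G) * ((1 : H) : G) * (k : G)⁻¹ = ((1 : H) : G) by simp)
  have h := hp.card_modEq_card_fixedPoints H
  rwa [hone, Nat.card_eq_fintype_card (α := ({(1 : H)} : Set H)), Set.card_singleton] at h

namespace Side

variable {M K U W : Subgroup G} (h : Side M K U W)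
include h

/-- The fixed points of `U` in `M_F`. -/
abbrev P0 (_ : Side M K U W) : Subgroup G :=
  fittingHallOf M ⊓ Subgroup.centralizer (U : Set G)

/-- The kernel of the action of `U` on `M_F`. -/
abbrev C (_ : Side M K U W) : Subgroup G :=
  U ⊓ Subgroup.centralizer (fittingHallOf M : Set G)

theorem K_le_normalizer_P : K ≤ Subgroup.normalizer (fittingHallOf M : Set G) :=
  (K_le h.hP).trans (le_normalizer_fittingHallOf M)

theorem U_le_normalizer_P : U ≤ Subgroup.normalizer (fittingHallOf M : Set G) :=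
  (U_le h.hP).trans (le_normalizer_fittingHallOf M)

theorem coprime_P_U : (Nat.card (fittingHallOf M)).Coprime (Nat.card U) :=
  OddLocal.card_coprime_of_typeP h.hP

theorem solvable_le {H : Subgroup G} (hH : H ≤ M) : Group.IsSolvable H :=
  Coprime.isSolvable_of_le hH (OddLocal.isSolvable_of_ne_top h.hG h.hM.1)

theorem not_le_centralizer : ¬ U ≤ Subgroup.centralizer (fittingHallOf M : Set G) := fun hle =>
  h.U_ne (le_bot_iff.mp (h.hP.U_compl.2.2.1 ▸ le_inf
    ((U_le_derived h.hP).trans (OddLocal.derived_eq_of_le_centralizer h.hP hle)) le_rfl))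

theorem W_inf_centralizer : W ⊓ Subgroup.centralizer (U : Set G) = ⊥ := by
  rcases (Nat.dvd_prime h.primeW).mp
    (Subgroup.card_dvd_of_le (inf_le_left : W ⊓ Subgroup.centralizer (U : Set G) ≤ W)) with h1 | h1
  · exact Subgroup.card_eq_one.mp h1
  exfalso
  have hWC : W ≤ Subgroup.centralizer (U : Set G) :=
    (Subgroup.eq_of_le_of_card_ge inf_le_left h1.ge).ge.trans inf_le_right
  have e := fixed_formula h.hP h.hG h.hM h.U_ne le_rfl h.U_le_normalizer_P h.K_le_normalizer_P
  rw [inf_eq_right.mpr (W_le h.hP), inf_eq_left.mpr hWC] at e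
  have hP0 : h.P0 = fittingHallOf M := Subgroup.eq_of_le_of_card_ge inf_le_left
    (Nat.eq_of_mul_eq_mul_left (pow_pos h.primeW.pos _) e).le
  exact h.not_le_centralizer fun u hu x hx => ((hP0.ge hx).2 u hu).symm

theorem fpf_P0 {x : G} (hx : x ∈ K) (hx1 : x ≠ 1) {y : G} (hy : y ∈ h.P0) (hc : x * y = y * x) :
    y = 1 := by
  have h1 : y ∈ W ⊓ Subgroup.centralizer (U : Set G) := ⟨(h.hP.W₂_centralizer x hx hx1).le
    ⟨fittingHallOf_le_derived h.hP hy.1, Subgroup.mem_centralizer_singleton_iff.mpr hc.symm⟩, hy.2⟩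
  rwa [h.W_inf_centralizer, Subgroup.mem_bot] at h1

theorem card_invariant {N : Subgroup G} (hN : N ≤ fittingHallOf M)
    (hUN : U ≤ Subgroup.normalizer (N : Set G)) (hKN : K ≤ Subgroup.normalizer (N : Set G)) :
    Nat.card N = Nat.card ↥(N ⊓ W) ^ Nat.card K *
      Nat.card ↥(N ⊓ Subgroup.centralizer (U : Set G)) := by
  have e := fixed_formula h.hP h.hG h.hM h.U_ne hN hUN hKN
  have h0 : N ⊓ W ⊓ Subgroup.centralizer (U : Set G) = ⊥ :=
    le_bot_iff.mp ((inf_le_inf_right _ inf_le_right).trans h.W_inf_centralizer.le)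
  rwa [h0, Subgroup.card_bot, one_pow, one_mul] at e

theorem card_P : Nat.card (fittingHallOf M) = Nat.card W ^ Nat.card K * Nat.card h.P0 := by
  rw [h.card_invariant le_rfl h.U_le_normalizer_P h.K_le_normalizer_P,
    inf_eq_right.mpr (W_le h.hP)]

theorem chief {N : Subgroup G} (hP0 : h.P0 ≤ N) (hN : N ≤ fittingHallOf M)
    (hUN : U ≤ Subgroup.normalizer (N : Set G)) (hKN : K ≤ Subgroup.normalizer (N : Set G)) :
    N = h.P0 ∨ N = fittingHallOf M := by
  have e0 : N ⊓ Subgroup.centralizer (U : Set G) = h.P0 :=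
    le_antisymm (inf_le_inf_right _ hN) (le_inf hP0 inf_le_right)
  have e := h.card_invariant hN hUN hKN
  rw [e0] at e
  rcases (Nat.dvd_prime h.primeW).mp (Subgroup.card_dvd_of_le (inf_le_right : N ⊓ W ≤ W)) with h1 | h1
  · refine Or.inl (Subgroup.eq_of_le_of_card_ge hP0 ?_).symm
    rw [e, h1, one_pow, one_mul]
  · refine Or.inr (Subgroup.eq_of_le_of_card_ge hN ?_)
    rw [e, h1, h.card_P]

theorem fittingOf_le_derived : fittingOf M ≤ ⁅M, M⁆ := h.hP.fitting_le

theorem fittingOf_le : fittingOf M ≤ M := Subgroup.map_subtype_le _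

theorem fittingHallOf_le_fittingOf : fittingHallOf M ≤ fittingOf M :=
  le_sup_left.trans h.hP.fitting_eq.le

theorem C_le_fittingOf : h.C ≤ fittingOf M := fun _ hx =>
  h.hP.fitting_eq.le (Subgroup.mem_sup_right ⟨U_le h.hP hx.1, hx.2⟩)

theorem U_inf_fittingOf : U ⊓ fittingOf M = h.C :=
  le_antisymm (le_inf inf_le_left (OddLocal.inf_fitting_le_centralizer h.hP))
    (le_inf inf_le_left h.C_le_fittingOf)

theorem fittingOf_eq : fittingHallOf M ⊔ h.C = fittingOf M := by
  refine le_antisymm (sup_le h.fittingHallOf_le_fittingOf h.C_le_fittingOf) fun x hx => ?_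
  obtain ⟨a, ha, b, hb, rfl⟩ := h.hP.U_compl.2.2.2 x (h.fittingOf_le_derived hx)
  refine mul_mem (Subgroup.mem_sup_left ha) (Subgroup.mem_sup_right ?_)
  rw [← h.U_inf_fittingOf]
  exact ⟨hb, ((fittingOf M).mul_mem_cancel_left (h.fittingHallOf_le_fittingOf ha)).mp hx⟩

theorem P_inf_C : fittingHallOf M ⊓ h.C = ⊥ :=
  le_bot_iff.mp ((inf_le_inf_left _ inf_le_left).trans h.hP.U_compl.2.2.1.le)

theorem card_fittingOf :
    Nat.card (fittingOf M) = Nat.card (fittingHallOf M) * Nat.card h.C := by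
  rw [← h.fittingOf_eq]
  exact Coprime.card_sup_of_normalizer (inf_le_left.trans h.U_le_normalizer_P) h.P_inf_C

theorem fittingOf_ne_bot : fittingOf M ≠ ⊥ := fun e =>
  fittingHallOf_ne_bot_of_typeP h.hP (le_bot_iff.mp (e ▸ h.fittingHallOf_le_fittingOf))

theorem normalizer_fittingOf : Subgroup.normalizer (fittingOf M : Set G) = M :=
  normalizer_eq_of_normal h.hG h.hM h.fittingOf_ne_bot h.fittingOf_le (le_normalizer_fittingOf M)

theorem ti_mem {g x : G} (hx : x ∈ fittingOf M) (hx1 : x ≠ 1) (hgx : g * x * g⁻¹ ∈ fittingOf M) :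
    g ∈ M := by
  by_contra hg
  exact hx1 (h.ti g (h.normalizer_fittingOf.symm ▸ hg) x hx hgx)

theorem centralizer_le {x : G} (hx : x ∈ fittingOf M) (hx1 : x ≠ 1) :
    Subgroup.centralizer ({x} : Set G) ≤ M := fun c hc => h.ti_mem hx hx1 (by
  rwa [Subgroup.mem_centralizer_singleton_iff.mp hc, mul_inv_cancel_right])

theorem commutator_mem_fittingOf {a b : G} (ha : a ∈ ⁅M, M⁆) (hb : b ∈ ⁅M, M⁆) :
    a * b * a⁻¹ * b⁻¹ ∈ fittingOf M :=
  h.hP.fitting_eq.le (h.hP.derived_two_le (Subgroup.commutator_mem_commutator ha hb))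

theorem commutator_mem_C {a b : G} (ha : a ∈ U) (hb : b ∈ U) : a * b * a⁻¹ * b⁻¹ ∈ h.C := by
  rw [← h.U_inf_fittingOf]
  exact ⟨U.mul_mem (U.mul_mem (U.mul_mem ha hb) (U.inv_mem ha)) (U.inv_mem hb),
    h.commutator_mem_fittingOf (U_le_derived h.hP ha) (U_le_derived h.hP hb)⟩

theorem le_normalizer_C : U ⊔ K ≤ Subgroup.normalizer (h.C : Set G) := by
  refine sup_le (fun u hu => ?_) fun k hk => ?_ <;>
    refine CfsgLib.BG.FixedLine.mem_normalizer_of_conj fun x hx => ?_
  · exact (show u * x * u⁻¹ ∈ h.C by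
      have := mul_mem (h.commutator_mem_C hu hx.1) hx
      simpa [mul_assoc] using this)
  · exact ⟨conj_mem_of_le_normalizer (h.hP.U_normal hk) x hx.1,
      conj_mem_of_le_normalizer (Coprime.le_normalizer_centralizer h.K_le_normalizer_P hk) x hx.2⟩

theorem coprime_P_K : (Nat.card (fittingHallOf M)).Coprime (Nat.card K) :=
  (coprime_derived_K h.hP).coprime_dvd_left (Subgroup.card_dvd_of_le (fittingHallOf_le_derived h.hP))

theorem coprime_U_K : (Nat.card U).Coprime (Nat.card K) :=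
  (coprime_derived_K h.hP).coprime_dvd_left (Subgroup.card_dvd_of_le (U_le_derived h.hP))

/-- An element of `U` centralising `M_F` modulo the fixed points centralises `M_F`. -/
theorem mem_C_of_trivial_mod {u : G} (hu : u ∈ U)
    (ht : ∀ x ∈ fittingHallOf M, u * x * u⁻¹ * x⁻¹ ∈ h.P0) : u ∈ h.C := by
  refine ⟨hu, fun x hx => ?_⟩
  set P := fittingHallOf M
  set A := Subgroup.zpowers u with hA
  have hAU : A ≤ U := Subgroup.zpowers_le.mpr hu
  have hAN : A ≤ Subgroup.normalizer (P : Set G) := hAU.trans h.U_le_normalizer_P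
  have hcop : (Nat.card A).Coprime (Nat.card P) :=
    h.coprime_P_U.symm.coprime_dvd_left (Subgroup.card_dvd_of_le hAU)
  have hAS : Group.IsSolvable A ∨ Group.IsSolvable P :=
    Or.inl (h.solvable_le (hAU.trans (U_le h.hP)))
  have hle : ⁅P, A⁆ ≤ h.P0 := by
    have hP0N : M ≤ Subgroup.normalizer (h.P0 : Set G) := h.fixed_normal
    refine Subgroup.commutator_le.mpr fun y hy a ha => ?_
    have hstep : ∀ n : ℕ, u ^ n * y * (u ^ n)⁻¹ * y⁻¹ ∈ h.P0 := by
      intro n
      induction n with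
      | zero => simp
      | succ n ih =>
        have h1 := ht _ (show u ^ n * y * (u ^ n)⁻¹ ∈ P from
          conj_mem_of_le_normalizer (h.U_le_normalizer_P (U.pow_mem hu n)) y hy)
        have := mul_mem h1 ih
        rw [pow_succ' u n]
        simpa [mul_assoc] using this
    obtain ⟨n, rfl⟩ := (isOfFinOrder_of_finite u).mem_powers_iff_mem_zpowers.mpr ha
    have := inv_mem (hstep n)
    rw [commutatorElement_def]
    simpa [mul_assoc] using this
  have hdec := Coprime.commutator_sup_centralizer hAN hcop hAS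
  have hfix : P ≤ Subgroup.centralizer ({u} : Set G) := by
    rw [← hdec]
    refine sup_le (hle.trans fun z hz => ?_) fun z hz => ?_
    · exact Subgroup.mem_centralizer_singleton_iff.mpr (hz.2 u hu).symm
    · exact Subgroup.mem_centralizer_singleton_iff.mpr (hz.2 u (Subgroup.mem_zpowers u)).symm
  exact Subgroup.mem_centralizer_singleton_iff.mp (hfix hx)

theorem C_ne_U : h.C ≠ U := fun e => h.not_le_centralizer (e.ge.trans inf_le_right)

theorem fpf_C {x : G} (hx : x ∈ K) (hx1 : x ≠ 1) {y : G} (hy : y ∈ h.C) (hc : x * y = y * x) :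
    y = 1 := fpf_U h.hP hx hx1 hy.1 hc

theorem card_U_modEq : Nat.card U ≡ 1 [MOD Nat.card K] :=
  card_modEq_one_of_free h.primeK h.hP.U_normal fun _ hx hx1 _ hu => fpf_U h.hP hx hx1 hu

theorem card_C_modEq : Nat.card h.C ≡ 1 [MOD Nat.card K] :=
  card_modEq_one_of_free h.primeK (le_sup_right.trans h.le_normalizer_C)
    fun _ hx hx1 _ hu => h.fpf_C hx hx1 hu

/-- The index of `C` in `U`. -/
noncomputable abbrev u' (_ : Side M K U W) : ℕ :=
  (U ⊓ Subgroup.centralizer (fittingHallOf M : Set G)).relIndex U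

theorem card_C_mul : Nat.card h.C * h.u' = Nat.card U := by
  rw [← Nat.card_congr (Subgroup.subgroupOfEquivOfLe (inf_le_left : h.C ≤ U)).toEquiv]
  exact Subgroup.card_mul_index _

theorem u'_modEq : h.u' ≡ 1 [MOD Nat.card K] := by
  have h1 := h.card_U_modEq
  rw [← h.card_C_mul] at h1
  have h2 := (h.card_C_modEq.mul_right h.u').symm.trans h1
  rwa [one_mul] at h2

theorem odd_G : Odd (Nat.card G) := h.hG.1

theorem u'_ge : 2 * Nat.card K + 1 ≤ h.u' := by
  have h0 : h.u' ≠ 0 := fun e => by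
    have := h.card_C_mul; rw [e, mul_zero] at this; exact Nat.card_pos.ne' this.symm
  have hne : h.u' ≠ 1 := fun e => h.C_ne_U (Subgroup.eq_of_le_of_card_ge inf_le_left
    (by rw [← h.card_C_mul, e, mul_one]))
  have hodd : Odd h.u' := h.odd_G.of_dvd_nat
    ((Dvd.intro_left _ h.card_C_mul).trans U.card_subgroup_dvd_card)
  have hK : Odd (Nat.card K) := h.odd_G.of_dvd_nat K.card_subgroup_dvd_card
  obtain ⟨k, hk⟩ := (Nat.modEq_iff_dvd' (by omega)).mp h.u'_modEq.symm
  obtain ⟨a, ha⟩ := hodd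
  rcases Nat.lt_or_ge k 2 with hk2 | hk2
  · interval_cases k
    · omega
    · obtain ⟨b, hb⟩ := hK
      omega
  · nlinarith [h.primeK.pos, Nat.sub_add_cancel (show 1 ≤ h.u' by omega)]

theorem prime_ne : Nat.card K ≠ Nat.card W := fun e => by
  have := h.coprime_P_K.coprime_dvd_left (Subgroup.card_dvd_of_le (W_le h.hP))
  rw [← e, Nat.coprime_self] at this
  exact h.primeK.ne_one this

theorem three_le_K : 3 ≤ Nat.card K := by
  have hK : Odd (Nat.card K) := h.odd_G.of_dvd_nat K.card_subgroup_dvd_card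
  obtain ⟨b, hb⟩ := hK
  have := h.primeK.two_le
  omega

theorem three_le_W : 3 ≤ Nat.card W := by
  have hW : Odd (Nat.card W) := h.odd_G.of_dvd_nat W.card_subgroup_dvd_card
  obtain ⟨b, hb⟩ := hW
  have := h.primeW.two_le
  omega

end Side

end CfsgLib.Peterfalvi.Pair
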