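import Cfsg.Agent.Lib.Peterfalvi.Pair.SideTI
import Cfsg.Agent.Lib.Peterfalvi.Pair.GridCoeff

/-!
The differences of exceptional characters induced to the whole group.
-/

set_option autoImplicit false
set_option linter.style.haveILetI false
set_option linter.unusedSectionVars false

namespace CfsgLib.Peterfalvi.Pair

open Cfsg CfsgLib.Char
open CfsgLib.BG.FixedLine (conj_mem_of_le_normalizer)
open scoped ComplexConjugate CfsgLib.Char

universe u

variable {G : Type u} [Group G] [Fintype G] {M K U W : Subgroup G}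

/-- Induction to `G` of a linear character. -/
noncomputable def ind {H : Subgroup G} (χ : Lin H) : G → ℂ := indFun H (cl χ)

theorem isGeneralized_ind {H : Subgroup G} (χ : Lin H) :
    IsGeneralizedCharacter G (ind χ) :=
  isGeneralized_indFun _ (isGeneralized_of_isIrr (isIrrCharacter_monoidHom χ))

theorem indFun_cl_sub {H : Subgroup G} (χ χ' : Lin H) :
    indFun H (cl χ - cl χ') = ind χ - ind χ' := indFun_sub H _ _

/-- A linear character of `F(M)` with trivial inertia. -/
def IsFree (χ : Lin (fittingOf M)) : Prop := ∀ m : M, m ∈ linStab χ → (m : G) ∈ fittingOf M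

theorem IsFree.card_linStab {χ : Lin (fittingOf M)} (hχ : IsFree χ) :
    Nat.card (linStab χ) = Nat.card (fittingOf M) := by
  rw [show linStab χ = (fittingOf M).subgroupOf M from le_antisymm
      (fun m hm => Subgroup.mem_subgroupOf.mpr (hχ m hm))
      (fun m hm => mem_linStab.mpr (tw_of_mem χ (Subgroup.mem_subgroupOf.mp hm))),
    Nat.card_congr (Subgroup.subgroupOfEquivOfLe (fittingOf_le_self M)).toEquiv]

theorem IsFree.inv {χ : Lin (fittingOf M)} (hχ : IsFree χ) : IsFree χ⁻¹ := fun m hm =>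
  hχ m (mem_linStab.mpr (MonoidHom.ext fun x => inv_injective (DFunLike.congr_fun hm x)))

theorem ind_tw (χ : Lin (fittingOf M)) (m : M) : ind (tw χ m) = ind χ := by
  haveI : Fintype M := Fintype.ofFinite _
  haveI := normal_fittingM M
  rw [ind, ind, ← indFun_toM (fittingOf_le_self M), ← indFun_toM (fittingOf_le_self M)]
  congr 1
  exact indFun_conjBy ((fittingOf M).subgroupOf M) (thM M χ) m

section Fin

variable {h : Side M K U W} {ω : Lin W → Lin K → Lin (fittingOf M ⊔ K : Subgroup G)}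
  (hω : IsOmega h ω)
include hω

theorem IsFree.not_conj_lam {χ : Lin (fittingOf M)} (hχ : IsFree χ) (a : Lin W) (m : M) :
    tw (hω.lam a) m ≠ χ := fun e => by
  obtain ⟨⟨k, hk⟩, hk1⟩ := Subgroup.ne_bot_iff_exists_ne_one.mp h.hP.W₁_ne
  have hn : m⁻¹ * ⟨k, K_le h.hP hk⟩ * m ∈ linStab χ := by
    rw [← e, linStab_tw, show m * (m⁻¹ * ⟨k, K_le h.hP hk⟩ * m) * m⁻¹ = ⟨k, K_le h.hP hk⟩ by group]
    exact hω.L_le_stab a (Subgroup.mem_sup_right hk)
  have h1 := mem_fitting_conj M m (hχ _ hn)
  push_cast at h1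
  rw [show (m : G) * ((m : G)⁻¹ * k * m) * (m : G)⁻¹ = k by group] at h1
  exact hk1 (Subtype.ext (Subgroup.mem_bot.mp
    ((Coprime.inf_eq_bot_of_coprime_card h.card_fittingOf_coprime).le ⟨h1, hk⟩)))

theorem IsFree.not_conj_inv {χ : Lin (fittingOf M)} (hχ : IsFree χ) (m : M) :
    tw χ m ≠ χ⁻¹ := fun e => by
  have hsq : m * m ∈ linStab χ := by
    rw [mem_linStab, tw_mul, e, tw_inv, e]
    exact MonoidHom.ext fun x => inv_inv _
  obtain ⟨k, hk⟩ := h.odd_G.of_dvd_nat ((orderOf_dvd_natCard m).trans M.card_subgroup_dvd_card)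
  have hm : (m : G) ∈ fittingOf M := hχ m (by
    have h1 : (m * m) ^ (k + 1) = m := by
      rw [← sq, ← pow_mul, show 2 * (k + 1) = orderOf m + 1 by omega, pow_succ, pow_orderOf_eq_one,
        one_mul]
    rw [← h1]; exact pow_mem hsq _)
  rw [tw_of_mem χ hm] at e
  have hone : χ = 1 := by
    refine MonoidHom.ext fun x => ?_
    obtain ⟨k, hk⟩ := h.odd_G.of_dvd_nat
      ((orderOf_dvd_natCard x).trans (fittingOf M).card_subgroup_dvd_card)
    have h2 : χ x * χ x = 1 := by
      have := DFunLike.congr_fun e x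
      rw [MonoidHom.inv_apply] at this
      nth_rw 1 [this]
      exact inv_mul_cancel _
    have h3 : χ x ^ orderOf x = 1 := by rw [← map_pow, pow_orderOf_eq_one, map_one]
    rwa [hk, pow_succ, pow_mul, sq, h2, one_pow, one_mul] at h3
  subst hone
  obtain ⟨⟨k, hk⟩, hk1⟩ := Subgroup.ne_bot_iff_exists_ne_one.mp h.hP.W₁_ne
  exact hk1 (Subtype.ext (Subgroup.mem_bot.mp
    ((Coprime.inf_eq_bot_of_coprime_card h.card_fittingOf_coprime).le
      ⟨hχ ⟨k, K_le h.hP hk⟩ (mem_linStab.mpr (MonoidHom.ext fun _ => rfl)), hk⟩)))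

/-- Inner products of differences induced from `F(M)`. -/
theorem classInner_ind_sub [Fintype M] (χ χ' φ φ' : Lin (fittingOf M)) :
    classInner (ind χ - ind χ') (ind φ - ind φ') =
      classInner (toM M (cl χ)) (toM M (cl φ)) - classInner (toM M (cl χ)) (toM M (cl φ')) -
        (classInner (toM M (cl χ')) (toM M (cl φ)) - classInner (toM M (cl χ')) (toM M (cl φ'))) := by
  rw [← indFun_cl_sub, ← indFun_cl_sub, classInner_indFun_A0 h h.fittingOf_le h.fittingOf_le
    vanish_sub_fitting vanish_sub_fitting, toM_sub, toM_sub, classInner_sub_left,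
    classInner_sub_right, classInner_sub_right]

theorem classInner_ind_sub_mu [Fintype M] (χ χ' : Lin (fittingOf M)) (a a' : Lin W) (b : Lin K) :
    classInner (ind χ - ind χ') (ind (ω a b) - ind (ω a' b)) =
      classInner (toM M (cl χ)) (hω.mu a b) - classInner (toM M (cl χ)) (hω.mu a' b) -
        (classInner (toM M (cl χ')) (hω.mu a b) - classInner (toM M (cl χ')) (hω.mu a' b)) := by
  rw [← indFun_cl_sub, ← indFun_cl_sub, classInner_indFun_A0 h h.fittingOf_le h.L_le
    vanish_sub_fitting (hω.vanish_sub a a' b), toM_sub, toM_sub, classInner_sub_left,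
    classInner_sub_right, classInner_sub_right]

theorem classInner_mu_sub [Fintype M] (a a' c c' : Lin W) (b d : Lin K) :
    classInner (ind (ω a b) - ind (ω a' b)) (ind (ω c d) - ind (ω c' d)) =
      classInner (hω.mu a b) (hω.mu c d) - classInner (hω.mu a b) (hω.mu c' d) -
        (classInner (hω.mu a' b) (hω.mu c d) - classInner (hω.mu a' b) (hω.mu c' d)) := by
  rw [← indFun_cl_sub, ← indFun_cl_sub, classInner_indFun_A0 h h.L_le h.L_le
    (hω.vanish_sub a a' b) (hω.vanish_sub c c' d), toM_sub, toM_sub, classInner_sub_left,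
    classInner_sub_right, classInner_sub_right]

theorem ind_sub_apply_KW (χ χ' : Lin (fittingOf M)) {x y : G} (hx : x ∈ K) (hy : y ∈ W)
    (hx1 : x ≠ 1) (hy1 : y ≠ 1) : (ind χ - ind χ') (x * y) = 0 := by
  haveI : Fintype M := Fintype.ofFinite _
  haveI := normal_fittingM M
  have hm : x * y ∈ M := mul_mem (K_le h.hP hx) (fittingHallOf_le M (W_le h.hP hy))
  rw [← indFun_cl_sub, indFun_A0_apply h h.fittingOf_le vanish_sub_fitting ⟨x * y, hm⟩
    (Or.inr ⟨1, one_mem _, x, hx, y, hy, hx1, hy1, by simp⟩)]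
  refine indFun_notMem_of_normal _ _ fun hc => h.notMem_fittingOf (m := 1) hx hy hx1 ?_
  simpa using Subgroup.mem_subgroupOf.mp hc

variable {η : Lin W → Lin K → G → ℂ} (hη : IsGrid K W η)
include hη

/-- The differences of exceptional characters. -/
theorem ind_omega_sub {a a' : Lin W} (ha : a ≠ 1) (ha' : a' ≠ 1) (b : Lin K) :
    ind (ω a b) - ind (ω a' b) = η a b - η a' b := by
  classical
  haveI : Fintype M := Fintype.ofFinite _
  rcases eq_or_ne a a' with rfl | hne
  · simp
  refine hη.eq_sub_of_norm_two (isGeneralized_sub (isGeneralized_ind _) (isGeneralized_ind _))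
    (n := 2) ?_ le_rfl h.three_le_K hne b fun x y hx hy => ?_
  · rw [classInner_mu_sub hω, hω.classInner_mu_mu ha ha, hω.classInner_mu_mu ha ha',
      hω.classInner_mu_mu ha' ha, hω.classInner_mu_mu ha' ha']
    simp [hne, Ne.symm hne]
    norm_num
  · have hx1 : (x : G) ≠ 1 := fun e => hx (Subtype.ext e)
    have hy1 : (y : G) ≠ 1 := fun e => hy (Subtype.ext e)
    have hm : (x : G) * y ∈ M := mul_mem (K_le h.hP x.2) (fittingHallOf_le M (W_le h.hP y.2))
    rw [← indFun_cl_sub, indFun_A0_apply h h.L_le (hω.vanish_sub a a' b) ⟨(x : G) * y, hm⟩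
      (Or.inr ⟨1, one_mem _, x, x.2, y, y.2, hx1, hy1, by simp⟩),
      hω.toM_apply_KW _ (fun s t => by simp [cl, mul_assoc]) x.2 y.2 hx1 hy1 hm,
      Pi.sub_apply, cl, cl, hω.value a b x y _ rfl, hω.value a' b x y _ rfl]
    push_cast
    ring

theorem ind_sub_orth {χ χ' : Lin (fittingOf M)} (hχ : IsFree χ) (hχ' : IsFree χ') (a : Lin W)
    (b : Lin K) : classInner (ind χ - ind χ') (η a b) = 0 := by
  classical
  haveI : Fintype M := Fintype.ofFinite _
  by_cases hc : ∃ m, tw χ' m = χ
  · obtain ⟨m, rfl⟩ := hc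
    rw [ind_tw, sub_self, classInner_zero_left]
  have hX : (Nat.card (fittingOf M) : ℂ) ≠ 0 := Nat.cast_ne_zero.mpr Nat.card_pos.ne'
  refine hη.orth_of_norm_two (isGeneralized_sub (isGeneralized_ind _) (isGeneralized_ind _))
    (n := 2) ?_ le_rfl h.three_le_W h.three_le_K
    (fun x y hx hy => ind_sub_apply_KW hω χ χ' x.2 y.2 (fun e => hx (Subtype.ext e))
      (fun e => hy (Subtype.ext e))) a b
  have hc' : ¬ ∃ m, tw χ m = χ' := fun ⟨m, hm⟩ => hc ⟨m⁻¹, by
    rw [← hm, ← tw_mul, mul_inv_cancel, tw_one]⟩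
  rw [classInner_ind_sub hω, classInner_toM_toM, classInner_toM_toM, classInner_toM_toM,
    classInner_toM_toM, if_neg hc, if_neg hc', if_pos ⟨1, tw_one _⟩, if_pos ⟨1, tw_one _⟩,
    hχ.card_linStab, hχ'.card_linStab, div_self hX]
  norm_num

theorem ind_lam_sub {a a' : Lin W} (ha : a ≠ 1) (ha' : a' ≠ 1) :
    ind (hω.lam a) - ind (hω.lam a') = ∑ b, (η a b - η a' b) := by
  classical
  haveI : Fintype M := Fintype.ofFinite _
  rcases eq_or_ne a a' with rfl | hne
  · simp
  rw [← Finset.sum_congr rfl fun b _ => ind_omega_sub hω hη ha ha' b]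
  have hX : (Nat.card (fittingOf M) : ℂ) ≠ 0 := Nat.cast_ne_zero.mpr Nat.card_pos.ne'
  have hn1 : ¬ ∃ m, tw (hω.lam a') m = hω.lam a := fun ⟨m, hm⟩ =>
    hne (hω.lam_conj_inj ha' hm).1
  have hn2 : ¬ ∃ m, tw (hω.lam a) m = hω.lam a' := fun ⟨m, hm⟩ =>
    hne (hω.lam_conj_inj ha hm).1.symm
  have hself : ∀ c : Lin W, ∃ m, tw (hω.lam c) m = hω.lam c := fun c => ⟨1, tw_one _⟩
  have hK : (Fintype.card (Lin K) : ℂ) = Nat.card K := by rw [hη.cardJ]
  refine sub_eq_zero.mp (eq_zero_of_classInner_self ?_)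
  set D := ind (hω.lam a) - ind (hω.lam a') with hD
  set E := ∑ b, (ind (ω a b) - ind (ω a' b)) with hE
  have h1 : classInner D D = 2 * Nat.card K := by
    rw [hD, classInner_ind_sub hω, classInner_toM_toM, classInner_toM_toM, classInner_toM_toM,
      classInner_toM_toM, if_neg hn1, if_neg hn2, if_pos (hself a), if_pos (hself a'),
      hω.card_linStab_lam ha, hω.card_linStab_lam ha', Nat.cast_mul, mul_div_cancel_left₀ _ hX]
    ring
  have h2 : classInner D E = 2 * Nat.card K := by
    rw [hE, classInner_sum_right, Finset.sum_congr rfl (g := fun _ => (2 : ℂ)) fun b _ => by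
      rw [hD, classInner_ind_sub_mu hω, hω.classInner_toM_mu _ ha, hω.classInner_toM_mu _ ha',
        hω.classInner_toM_mu _ ha, hω.classInner_toM_mu _ ha', if_neg hn1, if_neg hn2,
        if_pos (hself a), if_pos (hself a')]
      norm_num, Finset.sum_const, Finset.card_univ, nsmul_eq_mul, hK, mul_comm]
  have h3 : classInner E E = 2 * Nat.card K := by
    rw [hE, classInner_sum_left, Finset.sum_congr rfl (g := fun _ => (2 : ℂ)) fun b _ => by
      rw [classInner_sum_right, Fintype.sum_eq_single b fun d hd => by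
        rw [classInner_mu_sub hω, hω.classInner_mu_mu ha ha, hω.classInner_mu_mu ha ha',
          hω.classInner_mu_mu ha' ha, hω.classInner_mu_mu ha' ha']
        simp [Ne.symm hd]]
      rw [classInner_mu_sub hω, hω.classInner_mu_mu ha ha, hω.classInner_mu_mu ha ha',
          hω.classInner_mu_mu ha' ha, hω.classInner_mu_mu ha' ha']
      simp [hne, Ne.symm hne]
      norm_num, Finset.sum_const, Finset.card_univ, nsmul_eq_mul, hK, mul_comm]
  have h4 : classInner E D = 2 * Nat.card K := by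
    rw [← classInner_conj_symm, h2, map_mul, map_natCast, Complex.conj_ofNat]
  rw [classInner_sub_left D E, classInner_sub_right D D E, classInner_sub_right E D E, h1, h2, h3,
    h4]
  ring

open _root_.Classical in
/-- The coefficients of a free character against an exceptional one. -/
theorem free_sub_lam {χ : Lin (fittingOf M)} (hχ : IsFree χ) {a : Lin W} (ha : a ≠ 1)
    {c : Lin W → Lin K → ℤ}
    (hc : ∀ i j, classInner (ind χ - ind (hω.lam a)) (η i j) = c i j) :
    (∀ i j, c i j = if i = a then -1 else 0) ∨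
      (Nat.card W = 3 ∧ ∀ i j, c i j = if i = 1 ∨ i = a then 0 else 1) := by
  classical
  haveI : Fintype M := Fintype.ofFinite _
  have hX : (Nat.card (fittingOf M) : ℂ) ≠ 0 := Nat.cast_ne_zero.mpr Nat.card_pos.ne'
  set f := ind χ - ind (hω.lam a) with hf
  have hfg : IsGeneralizedCharacter G f :=
    isGeneralized_sub (isGeneralized_ind _) (isGeneralized_ind _)
  have hR : Rect c := hη.rect_of_vanish (isClassFunction_of_isGeneralized hfg) hc
    fun x y hx hy => ind_sub_apply_KW hω χ _ x.2 y.2 (fun e => hx (Subtype.ext e))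
      (fun e => hy (Subtype.ext e))
  have hcl : ∀ d, ¬ ∃ m, tw χ m = hω.lam d := fun d ⟨m, hm⟩ => hχ.not_conj_lam hω d m⁻¹ (by
    rw [← hm, ← tw_mul, mul_inv_cancel, tw_one])
  have hlc : ∀ d, ¬ ∃ m, tw (hω.lam d) m = χ := fun d ⟨m, hm⟩ => hχ.not_conj_lam hω d m hm
  have hn : classInner f f = ((1 + Nat.card K : ℤ) : ℂ) := by
    rw [hf, classInner_ind_sub hω, classInner_toM_toM, classInner_toM_toM, classInner_toM_toM,
      classInner_toM_toM, if_neg (hlc a), if_neg (hcl a), if_pos ⟨1, tw_one _⟩,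
      if_pos ⟨1, tw_one _⟩, hχ.card_linStab, hω.card_linStab_lam ha, div_self hX, Nat.cast_mul,
      mul_div_cancel_left₀ _ hX]
    push_cast
    ring
  -- a component off the family
  have hlt : ∑ i, ∑ j, c i j * c i j < 1 + (Nat.card K : ℤ) := by
    refine hη.sum_sq_lt (g := ind χ - ind χ⁻¹) hc hn
      (fun i j => ind_sub_orth hω hη hχ hχ.inv i j) ?_
    have hi1 : ¬ ∃ m, tw χ⁻¹ m = χ := fun ⟨m, hm⟩ => hχ.not_conj_inv hω m (by
      rw [tw_inv] at hm
      exact MonoidHom.ext fun x => inv_eq_iff_eq_inv.mp (DFunLike.congr_fun hm x))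
    have hi2 : ¬ ∃ m, tw χ⁻¹ m = hω.lam a := fun ⟨m, hm⟩ =>
      hχ.inv.not_conj_lam hω a m⁻¹ (by rw [← hm, ← tw_mul, mul_inv_cancel, tw_one])
    rw [hf, classInner_ind_sub hω, classInner_toM_toM, classInner_toM_toM, classInner_toM_toM,
      classInner_toM_toM, if_pos ⟨1, tw_one _⟩, if_neg hi1, if_neg (hcl a), if_neg hi2,
      hχ.card_linStab, div_self hX]
    norm_num
  have hrow : ∀ i j, i ≠ 1 → i ≠ a → c a j = c i j - 1 := by
    intro i j hi hia
    have h1 : classInner f (η a j - η i j) = -1 := by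
      rw [← ind_omega_sub hω hη ha hi j, hf, classInner_ind_sub_mu hω,
        hω.classInner_toM_mu _ ha, hω.classInner_toM_mu _ hi, hω.classInner_toM_mu _ ha,
        hω.classInner_toM_mu _ hi, if_neg (hlc a), if_neg (hlc i), if_pos ⟨1, tw_one _⟩,
        if_neg fun ⟨m, hm⟩ => hia (hω.lam_conj_inj hi hm).1.symm]
      norm_num
    rw [classInner_sub_right, hc, hc] at h1
    have : ((c a j - c i j : ℤ) : ℂ) = ((-1 : ℤ) : ℂ) := by push_cast; exact h1
    have := Int.cast_injective this
    omega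
  rcases delta_shape hR (by rw [hη.cardJ]; exact Nat.card_pos) ha
      (by rw [hη.cardI]; exact h.three_le_W) (by rw [hη.cardJ]; omega) hrow with h' | ⟨h', h''⟩
  · exact Or.inl h'
  · exact Or.inr ⟨by rwa [hη.cardI] at h', h''⟩

end Fin

end CfsgLib.Peterfalvi.Pair
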