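import Cfsg.Agent.Lib.Peterfalvi.TameAll
import Cfsg.Agent.Lib.Char.PiPart
import Cfsg.Agent.S1360
import Cfsg.Agent.S1437
import Cfsg.Agent.S1545

/-!
The group theory of a maximal subgroup of type II, III or IV needed for the characters of a pair.
-/

set_option autoImplicit false
set_option linter.style.haveILetI false
set_option linter.unusedSectionVars false

namespace CfsgLib.Peterfalvi.Pair

open Cfsg
open CfsgLib.BG.FixedLine (conj_mem_of_le_normalizer)

universe u

variable {G : Type u} [Group G] [Finite G] {M K U W V : Subgroup G}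

/-- The data of a maximal subgroup of type II, III or IV whose two complements have prime order. -/
structure Side (M K U W : Subgroup G) : Prop where
  hG : IsMinSimpleOddOrder G
  hM : IsCoatom M
  hP : IsTypePWith M K U W
  U_ne : U ≠ ⊥
  primeK : (Nat.card K).Prime
  primeW : (Nat.card W).Prime
  ti : IsTISubset (fittingOf M : Set G)
  fixed_normal : M ≤ Subgroup.normalizer
    ((fittingHallOf M ⊓ Subgroup.centralizer (U : Set G) : Subgroup G) : Set G)
  pow_mem : ∀ x ∈ fittingHallOf M, x ^ Nat.card W ∈ Subgroup.centralizer (U : Set G)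
  comm_mem : ∀ x ∈ fittingHallOf M, ∀ y ∈ fittingHallOf M,
    x * y * x⁻¹ * y⁻¹ ∈ Subgroup.centralizer (U : Set G)

theorem le_normalizer_fittingOf (M : Subgroup G) : M ≤ Subgroup.normalizer (fittingOf M : Set G) := by
  rw [Subgroup.le_normalizer_iff]
  rintro m hm _ ⟨y, hy, rfl⟩
  exact ⟨(⟨m, hm⟩ : M) * y * (⟨m, hm⟩ : M)⁻¹,
    Subgroup.Normal.conj_mem (Fitting.fittingSubgroup_normal (G := M)) y hy _, rfl⟩

theorem normalizer_eq_of_normal (hG : IsMinSimpleOddOrder G) (hM : IsCoatom M) {N : Subgroup G}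
    (hN : N ≠ ⊥) (hle : N ≤ M) (hn : M ≤ Subgroup.normalizer (N : Set G)) :
    Subgroup.normalizer (N : Set G) = M := by
  rcases eq_or_lt_of_le hn with h | h
  · exact h.symm
  · exact absurd (hM.2 _ h) (OddLocal.normalizer_ne_top hG hN fun e => hM.1 (eq_top_iff.mpr (e.ge.trans hle)))

section TypeP

variable (hP : IsTypePWith M K U W)
include hP

theorem K_le : K ≤ M := hP.W₁_compl.2.1

theorem U_le_derived : U ≤ ⁅M, M⁆ := hP.U_compl.2.1

theorem U_le : U ≤ M := hP.U_compl.2.1.trans (Subgroup.commutator_le_self M)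

theorem derived_eq_sup : fittingHallOf M ⊔ U = ⁅M, M⁆ := sup_eq_of_isComplIn hP.U_compl

theorem coprime_derived_K : (Nat.card ↥⁅M, M⁆).Coprime (Nat.card K) := by
  rw [← OddLocal.relIndex_right_of_isComplIn hP.W₁_compl]
  exact hP.W₁_hall.symm

theorem fittingHallOf_le_derived : fittingHallOf M ≤ ⁅M, M⁆ := hP.U_compl.1

theorem W_le : W ≤ fittingHallOf M := hP.W₂_le.trans inf_le_left

theorem fpf_U {x : G} (hx : x ∈ K) (hx1 : x ≠ 1) {u : G} (hu : u ∈ U) (hc : x * u = u * x) :
    u = 1 := by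
  have h1 : u ∈ ⁅M, M⁆ ⊓ Subgroup.centralizer ({x} : Set G) :=
    ⟨U_le_derived hP hu, Subgroup.mem_centralizer_singleton_iff.mpr hc.symm⟩
  rw [hP.W₂_centralizer x hx hx1] at h1
  exact Subgroup.mem_bot.mp (hP.U_compl.2.2.1.le ⟨W_le hP h1, hu⟩)

/-- The fixed point formula for an invariant subgroup of `M_F`. -/
theorem fixed_formula (hG : IsMinSimpleOddOrder G) (hM : IsCoatom M) (hU : U ≠ ⊥) {N : Subgroup G}
    (hN : N ≤ fittingHallOf M) (hUN : U ≤ Subgroup.normalizer (N : Set G))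
    (hKN : K ≤ Subgroup.normalizer (N : Set G)) :
    Nat.card ↥(N ⊓ W ⊓ Subgroup.centralizer (U : Set G)) ^ Nat.card K * Nat.card N =
      Nat.card ↥(N ⊓ W) ^ Nat.card K * Nat.card ↥(N ⊓ Subgroup.centralizer (U : Set G)) := by
  have hND : N ≤ ⁅M, M⁆ := hN.trans (fittingHallOf_le_derived hP)
  have hNW : N ⊓ Subgroup.centralizer (K : Set G) = N ⊓ W := by
    obtain ⟨⟨x, hx⟩, hx1⟩ := Subgroup.ne_bot_iff_exists_ne_one.mp hP.W₁_ne
    refine le_antisymm (le_inf inf_le_left ?_) (le_inf inf_le_left (inf_le_right.trans ?_))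
    · rw [← hP.W₂_centralizer x hx fun e => hx1 (Subtype.ext e)]
      exact inf_le_inf hND (Subgroup.centralizer_le (Set.singleton_subset_iff.mpr hx))
    · intro w hw k hk
      rcases eq_or_ne k 1 with rfl | hk1
      · simp
      · exact (Subgroup.mem_centralizer_singleton_iff.mp
          ((hP.W₂_centralizer k hk hk1).ge hw).2).symm
  have hcopUK : (Nat.card N).Coprime (Nat.card ↥(U ⊔ K)) := by
    rw [Coprime.card_sup_of_coprime hP.U_normal (Nat.Coprime.coprime_dvd_left
      (Subgroup.card_dvd_of_le (U_le_derived hP)) (coprime_derived_K hP))]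
    exact Nat.Coprime.mul_right
      ((OddLocal.card_coprime_of_typeP hP).coprime_dvd_left (Subgroup.card_dvd_of_le hN))
      ((coprime_derived_K hP).coprime_dvd_left (Subgroup.card_dvd_of_le hND))
  have h := Cfsg.Agent.S1545.result U K N hU hP.W₁_ne
    (Coprime.inf_eq_bot_of_coprime_card ((coprime_derived_K hP).coprime_dvd_left
      (Subgroup.card_dvd_of_le (U_le_derived hP))))
    (fun e he u hu => conj_mem_of_le_normalizer (hP.U_normal he) u hu)
    (fun e he he1 u hu hc => fpf_U hP he he1 hu hc)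
    (fun x hx y hy => conj_mem_of_le_normalizer (sup_le hUN hKN hx) y hy)
    (Coprime.inf_eq_bot_of_coprime_card hcopUK)
    (Coprime.isSolvable_of_le (hN.trans (fittingHallOf_le M)) (OddLocal.isSolvable_of_ne_top hG hM.1))
    hcopUK
  rw [hNW, show N ⊓ Subgroup.centralizer ((U ⊔ K : Subgroup G) : Set G) =
    N ⊓ W ⊓ Subgroup.centralizer (U : Set G) from ?_] at h
  · exact h
  · rw [← hNW]
    refine le_antisymm (fun x hx => ⟨⟨hx.1, fun k hk => hx.2 k (Subgroup.mem_sup_right hk)⟩,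
      fun u hu => hx.2 u (Subgroup.mem_sup_left hu)⟩) fun x hx => ⟨hx.1.1, fun y hy => ?_⟩
    have hle : U ⊔ K ≤ Subgroup.centralizer ({x} : Set G) := by
      refine sup_le (fun u hu => ?_) fun k hk => ?_
      · exact Subgroup.mem_centralizer_singleton_iff.mpr (hx.2 u hu)
      · exact Subgroup.mem_centralizer_singleton_iff.mpr (hx.1.2 k hk)
    exact Subgroup.mem_centralizer_singleton_iff.mp (hle hy)

end TypeP

/-- The data for a maximal subgroup of type II. -/
theorem side_of_typeII (hG : IsMinSimpleOddOrder G) (hM : IsCoatom M)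
    (hKU : IsSigmaDecomposition M K U) (hK1 : K ≠ ⊥) (hU : U ≠ ⊥)
    (hr : (Nat.card ↥(sigmaCore M ⊓ Subgroup.centralizer (K : Set G))).Prime) :
    Side M K U (sigmaCore M ⊓ Subgroup.centralizer (K : Set G)) := by
  classical
  have h := OddLocal.kappaData_of_decomposition hG hM hKU hK1
  have hF := OddLocal.fittingHallOf_eq_sigmaCore hG hM (h.U_action hU).2
  have hP := OddLocal.isTypePWith_U hG hM hKU hK1 hF
  set W := sigmaCore M ⊓ Subgroup.centralizer (K : Set G) with hW
  have hII := OddLocal.isTypeII_of hG hM hKU hK1 hU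
  obtain ⟨-, -, -, -, -, -, hTI, -⟩ := hII
  -- `U` has no fixed points
  obtain ⟨U₀, hU₀, hexp, hfree⟩ := Cfsg.Agent.S1360.result hG M hM K U hKU
  have hU₀1 : U₀ ≠ ⊥ := by
    intro e
    refine hU (Subgroup.card_eq_one.mp ?_)
    have h1 : Monoid.exponent U₀ = 1 := by rw [e]; exact Monoid.exp_eq_one_iff.mpr inferInstance
    haveI : Subsingleton U := Monoid.exp_eq_one_iff.mp (hexp ▸ h1)
    exact Nat.card_unique
  have hfix : fittingHallOf M ⊓ Subgroup.centralizer (U : Set G) = ⊥ := by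
    refine (Subgroup.eq_bot_iff_forall _).mpr fun x hx => ?_
    by_contra hx1
    obtain ⟨⟨v, hv⟩, hv1⟩ := Subgroup.ne_bot_iff_exists_ne_one.mp hU₀1
    refine hv1 (Subtype.ext (hfree v hv ⟨U_le hP (hU₀ hv), x, hF ▸ hx.1, hx1, ?_⟩))
    exact hx.2 v (hU₀ hv)
  have hcard : ∀ N : Subgroup G, N ≤ fittingHallOf M → M ≤ Subgroup.normalizer (N : Set G) →
      N = ⊥ ∨ N = fittingHallOf M := by
    intro N hN hn
    have key : ∀ N' : Subgroup G, N' ≤ fittingHallOf M → M ≤ Subgroup.normalizer (N' : Set G) →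
        Nat.card N' = Nat.card ↥(N' ⊓ W) ^ Nat.card K := by
      intro N' hN' hn'
      have h0 : N' ⊓ Subgroup.centralizer (U : Set G) = ⊥ :=
        le_bot_iff.mp ((inf_le_inf_right _ hN').trans hfix.le)
      have h0' : N' ⊓ W ⊓ Subgroup.centralizer (U : Set G) = ⊥ :=
        le_bot_iff.mp ((inf_le_inf_right _ inf_le_left).trans h0.le)
      have e := fixed_formula hP hG hM hU hN' ((U_le hP).trans hn') ((K_le hP).trans hn')
      simpa [h0, h0'] using e
    rcases (Nat.dvd_prime hr).mp (Subgroup.card_dvd_of_le (inf_le_right : N ⊓ W ≤ W)) with h1 | h1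
    · exact Or.inl (Subgroup.card_eq_one.mp (by rw [key N hN hn, h1, one_pow]))
    · refine Or.inr (Subgroup.eq_of_le_of_card_ge hN (le_of_eq ?_))
      rw [key N hN hn, key _ le_rfl (le_normalizer_fittingHallOf M), h1,
        inf_eq_right.mpr (W_le hP)]
  have hab : ∀ a ∈ fittingHallOf M, ∀ b ∈ fittingHallOf M, a * b = b * a := by
    intro a ha b hb
    set Z := fittingHallOf M ⊓ Subgroup.centralizer (fittingHallOf M : Set G) with hZ
    have hZn : M ≤ Subgroup.normalizer (Z : Set G) := fun m hm =>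
      Coprime.le_normalizer_inf_of_le (le_normalizer_fittingHallOf M)
        (Coprime.le_normalizer_centralizer (le_normalizer_fittingHallOf M)) hm
    rcases hcard Z inf_le_left hZn with e | e
    · exfalso
      haveI := fittingHallOf_isNilpotent M
      haveI : Nontrivial (fittingHallOf M) :=
        (Subgroup.nontrivial_iff_ne_bot _).mpr (fittingHallOf_ne_bot_of_typeP hP)
      obtain ⟨⟨z, hz⟩, hz1⟩ := Subgroup.ne_bot_iff_exists_ne_one.mp
        (Group.IsNilpotent.center_ne_bot (G := fittingHallOf M))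
      refine hz1 (Subtype.ext (Subtype.ext ?_))
      have : (z : G) ∈ Z := ⟨z.2, fun c hc =>
        congrArg Subtype.val (Subgroup.mem_center_iff.mp hz ⟨c, hc⟩)⟩
      rw [e, Subgroup.mem_bot] at this
      exact this
    · exact (e.ge hb).2 a ha
  refine ⟨hG, hM, hP, hU, h.prime_of_U_ne_bot hU, hr, hTI, ?_, ?_, ?_⟩
  · rw [hfix, Subgroup.normalizer_eq_top_iff.mpr inferInstance]; exact le_top
  · -- exponent
    intro x hx
    let Ω : Subgroup G :=
      { carrier := {y | y ∈ fittingHallOf M ∧ y ^ Nat.card W = 1}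
        mul_mem' := fun {a b} ha hb => ⟨mul_mem ha.1 hb.1, by
          rw [(show Commute a b from hab a ha.1 b hb.1).mul_pow, ha.2, hb.2, one_mul]⟩
        one_mem' := ⟨one_mem _, one_pow _⟩
        inv_mem' := fun {a} ha => ⟨inv_mem ha.1, by rw [inv_pow, ha.2, inv_one]⟩ }
    have hΩn : M ≤ Subgroup.normalizer (Ω : Set G) := by
      rw [Subgroup.le_normalizer_iff]
      rintro m hm y ⟨hy, hyp⟩
      exact ⟨conj_mem_of_le_normalizer (le_normalizer_fittingHallOf M hm) y hy, by
        rw [conj_pow, hyp, mul_one, mul_inv_cancel]⟩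
    rcases hcard Ω (fun y hy => hy.1) hΩn with e | e
    · exfalso
      obtain ⟨⟨w, hw⟩, hw1⟩ := Subgroup.ne_bot_iff_exists_ne_one.mp hP.selfNormalizing.2.1
      have : w ∈ Ω := ⟨W_le hP hw, congrArg Subtype.val (pow_card_eq_one' (x := (⟨w, hw⟩ : W)))⟩
      rw [e, Subgroup.mem_bot] at this
      exact hw1 (Subtype.ext this)
    · rw [(e.ge hx).2]; exact one_mem _
  · intro x hx y hy
    rw [hab x hx y hy]; simp

/-- The data for a maximal subgroup of type III or IV. -/
theorem side_of_typeIII_IV (hG : IsMinSimpleOddOrder G) (hM : IsCoatom M)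
    (hKU : IsSigmaDecomposition M K V) (hK1 : K ≠ ⊥) (hne : fittingHallOf M ≠ sigmaCore M) :
    ∃ U : Subgroup G, Side M K U (sigmaCore M ⊓ Subgroup.centralizer (K : Set G)) := by
  classical
  obtain ⟨hV, hd, hKp, hr, -, -, Q, hQF, hMQ, hQp, hQrel, hall⟩ :=
    Cfsg.Agent.S1437.result hG M hM K V hKU hne
  obtain ⟨U, hP⟩ := OddLocal.exists_typeP_compl hG hM hKU hK1
  set W := sigmaCore M ⊓ Subgroup.centralizer (K : Set G) with hW
  set r := Nat.card W with hrdef
  haveI : Fact r.Prime := ⟨hr⟩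
  have hU : U ≠ ⊥ := by
    rintro rfl
    exact hne ((derived_eq_of_U_eq_bot hP rfl).symm.trans hd.symm)
  have hTI : IsTISubset (fittingOf M : Set G) := by
    rcases OddLocal.type_cases hG hM hKU hK1 with ⟨h, -⟩ | ⟨-, -, h⟩ | ⟨-, h, -⟩
    · exact absurd hV h
    · obtain ⟨_, _, _, -, -, -, h', -⟩ | ⟨_, _, _, -, -, -, h', -⟩ := h <;> exact h'
    · exact absurd h hne
  have hQD : Q ≤ sigmaCore M := hd ▸ hQF.trans (fittingHallOf_le_derived hP)
  haveI := OddLocal.isSolvable_of_ne_top hG hM.1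
  haveI : Group.IsSolvable (sigmaCore M) :=
    Coprime.isSolvable_of_le (OddLocal.piCoreOf_le _ M) inferInstance
  have hcopU := OddLocal.card_coprime_of_typeP hP
  have hUr : ∀ l : ℕ, l.Prime → l ∣ Nat.card U → l ≠ r := fun l hl hlU hlr => by
    subst hlr
    exact Nat.not_coprime_of_dvd_of_dvd hl.one_lt (Subgroup.card_dvd_of_le (W_le hP)) hlU hcopU
  obtain ⟨D, hD, hUD⟩ := OddLocal.exists_hallOf_ge (π := {l | l ≠ r}) (X := sigmaCore M) (K := U)
    (hd ▸ U_le_derived hP) hUr
  have hQcard : ∀ l : ℕ, l.Prime → l ∣ Nat.card Q → l = r := fun l hl hlQ => by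
    obtain ⟨n, hn⟩ := hQp.exists_card_eq
    exact (Nat.prime_dvd_prime_iff_eq hl hr).mp (hl.dvd_of_dvd_pow (hn ▸ hlQ))
  have hcop : (Nat.card Q).Coprime (Nat.card D) := Nat.coprime_of_dvd fun l hl h1 h2 =>
    hD.2.1 l hl h2 (hQcard l hl h1)
  have hcompl : IsComplIn Q D (sigmaCore M) := by
    refine ⟨hQD, hD.1, Coprime.inf_eq_bot_of_coprime_card hcop, ?_⟩
    have hn : D ≤ Subgroup.normalizer (Q : Set G) :=
      hD.1.trans ((OddLocal.piCoreOf_le _ M).trans hMQ)
    have hle : Q ⊔ D = sigmaCore M := by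
      refine Subgroup.eq_of_le_of_card_ge (sup_le hQD hD.1) (le_of_eq ?_)
      rw [Coprime.card_sup_of_coprime hn hcop]
      have h1 : Q.relIndex (sigmaCore M) * Nat.card Q = Nat.card (sigmaCore M) := by
        rw [mul_comm, ← Nat.card_congr (Subgroup.subgroupOfEquivOfLe hQD).toEquiv]
        exact Subgroup.card_mul_index _
      have h2 : D.relIndex (sigmaCore M) * Nat.card D = Nat.card (sigmaCore M) := by
        rw [mul_comm, ← Nat.card_congr (Subgroup.subgroupOfEquivOfLe hD.1).toEquiv]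
        exact Subgroup.card_mul_index _
      have h3 : (Nat.card D).Coprime (D.relIndex (sigmaCore M)) := Nat.coprime_of_dvd fun l hl a b =>
        hD.2.2 l hl (hD.2.1 l hl a) b
      have h4 : Q.relIndex (sigmaCore M) ∣ Nat.card D := by
        refine Nat.Coprime.dvd_of_dvd_mul_left (k := Q.relIndex _) (m := D.relIndex (sigmaCore M)) ?_ ⟨Nat.card Q, by rw [h1, h2]⟩
        exact Nat.coprime_of_dvd fun l hl a b => hD.2.2 l hl (fun e => hQrel (e ▸ a)) b
      have h5 : Nat.card D ∣ Q.relIndex (sigmaCore M) := by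
        refine Nat.Coprime.dvd_of_dvd_mul_right (n := Nat.card Q) hcop.symm ⟨D.relIndex (sigmaCore M), ?_⟩
        rw [h1, mul_comm, h2]
      rw [← h1, Nat.dvd_antisymm h4 h5, mul_comm]
    intro m hm
    rw [← hle, ← SetLike.mem_coe, Subgroup.coe_mul_of_right_le_normalizer_left _ _ hn] at hm
    obtain ⟨a, ha, b, hb, he⟩ := Set.mem_mul.mp hm
    exact ⟨a, ha, b, hb, he.symm⟩
  obtain ⟨hDnil, hRn, -, -, hRel, -⟩ := hall D hcompl
  haveI := hDnil
  haveI := fittingHallOf_isNilpotent M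
  set P := fittingHallOf M with hPdef
  have hPσ : P ≤ sigmaCore M := hd ▸ fittingHallOf_le_derived hP
  -- every element of `P` splits into a part in `Q` and a part in `D`
  have hprime_mem : ∀ x ∈ P, (orderOf x).Coprime r → x ∈ D := by
    intro x hx hxr
    set S := P ⊓ (Q ⊔ D) with hS
    obtain ⟨a, ha, b, hb, hab⟩ := hcompl.2.2.2 x (hPσ hx)
    have hbP : b ∈ P := by
      have : b = a⁻¹ * x := by rw [hab]; group
      rw [this]; exact mul_mem (inv_mem (hQF ha)) hx
    have hc : Commute a b := by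
      have := CfsgLib.Char.PiPart.commute_of_coprime (G := P) (x := ⟨a, hQF ha⟩) (y := ⟨b, hbP⟩) (by
        rw [Subgroup.orderOf_mk, Subgroup.orderOf_mk]
        exact hcop.coprime_dvd_left (Subgroup.orderOf_dvd_natCard _ ha) |>.coprime_dvd_right
          (Subgroup.orderOf_dvd_natCard _ hb))
      exact congrArg Subtype.val this.eq
    have hab' : (orderOf a).Coprime (orderOf b) := hcop.coprime_dvd_left
      (Subgroup.orderOf_dvd_natCard _ ha) |>.coprime_dvd_right (Subgroup.orderOf_dvd_natCard _ hb)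
    have ha1 : a = 1 := by
      rw [← orderOf_eq_one_iff]
      refine Nat.dvd_one.mp ?_
      obtain ⟨n, hn⟩ := hQp ⟨a, ha⟩
      have hd1 : orderOf a ∣ r ^ n := orderOf_dvd_of_pow_eq_one (by simpa using congrArg Subtype.val hn)
      have hd2 : orderOf a ∣ orderOf x := by
        rw [hab, hc.orderOf_mul_eq_mul_orderOf_of_coprime hab']; exact dvd_mul_right _ _
      exact (Nat.Coprime.pow_right n hxr) ▸ Nat.dvd_gcd hd2 hd1
    rw [hab, ha1, one_mul]; exact hb
  have hcentral : ∀ x ∈ P, (orderOf x).Coprime r → x ∈ Subgroup.centralizer (U : Set G) := by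
    intro x hx hxr u hu
    have := CfsgLib.Char.PiPart.commute_of_coprime (G := D) (x := ⟨u, hUD hu⟩)
      (y := ⟨x, hprime_mem x hx hxr⟩) (by
        rw [Subgroup.orderOf_mk, Subgroup.orderOf_mk]
        exact hcopU.symm.coprime_dvd_left (Subgroup.orderOf_dvd_natCard _ hu)
          |>.coprime_dvd_right (Subgroup.orderOf_dvd_natCard _ hx))
    exact congrArg Subtype.val this.eq
  have hsplit : ∀ x ∈ P, ∃ a ∈ Q, ∃ b ∈ P, x = a * b ∧ (orderOf b).Coprime r ∧
      ∃ n : ℕ, a = x ^ n := by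
    intro x hx
    obtain ⟨a, ha, b, hb, hab⟩ := hcompl.2.2.2 x (hPσ hx)
    have hbP : b ∈ P := by
      have : b = a⁻¹ * x := by rw [hab]; group
      rw [this]; exact mul_mem (inv_mem (hQF ha)) hx
    have hco : (orderOf a).Coprime (orderOf b) := hcop.coprime_dvd_left
      (Subgroup.orderOf_dvd_natCard _ ha) |>.coprime_dvd_right (Subgroup.orderOf_dvd_natCard _ hb)
    have hc : Commute a b := by
      have := CfsgLib.Char.PiPart.commute_of_coprime (G := P) (x := ⟨a, hQF ha⟩) (y := ⟨b, hbP⟩) (by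
        rwa [Subgroup.orderOf_mk, Subgroup.orderOf_mk])
      exact congrArg Subtype.val this.eq
    refine ⟨a, ha, b, hbP, hab, ?_, ?_⟩
    · exact ((Nat.Prime.coprime_iff_not_dvd hr).mpr fun h =>
        hD.2.1 r hr (h.trans (Subgroup.orderOf_dvd_natCard _ hb)) rfl).symm
    · obtain ⟨n, hn1, hn2⟩ := Nat.chineseRemainder hco 1 0
      refine ⟨n, ?_⟩
      rw [hab, hc.mul_pow, pow_eq_pow_iff_modEq.mpr hn1, pow_eq_pow_iff_modEq.mpr hn2, pow_one,
        pow_zero, mul_one]
  have hR : Q ⊓ Subgroup.centralizer (D : Set G) = Q ⊓ Subgroup.centralizer (U : Set G) := by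
    refine le_antisymm (inf_le_inf_left _ (Subgroup.centralizer_le hUD)) fun a ha => ⟨ha.1, fun y hy => ?_⟩
    obtain ⟨z, hz, u, hu, hzu⟩ := hP.U_compl.2.2.2 y (hd ▸ hD.1 hy)
    have hzD : z ∈ D := by
      have : z = y * u⁻¹ := by rw [hzu]; group
      rw [this]; exact mul_mem hy (inv_mem (hUD hu))
    have hco : (orderOf a).Coprime (orderOf z) := hcop.coprime_dvd_left
      (Subgroup.orderOf_dvd_natCard _ ha.1) |>.coprime_dvd_right (Subgroup.orderOf_dvd_natCard _ hzD)
    have hc : z * a = a * z := (congrArg Subtype.val (CfsgLib.Char.PiPart.commute_of_coprime (G := P)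
      (x := ⟨a, hQF ha.1⟩) (y := ⟨z, hz⟩) (by rwa [Subgroup.orderOf_mk, Subgroup.orderOf_mk])).eq).symm
    rw [hzu, mul_assoc, ha.2 u hu, ← mul_assoc, hc, mul_assoc]
  refine ⟨U, hG, hM, hP, hU, hKp, hr, hTI, ?_, ?_, ?_⟩
  · rw [Subgroup.le_normalizer_iff]
    rintro m hm x ⟨hx, hxU⟩
    obtain ⟨a, ha, b, hb, hab, hbr, n, hn⟩ := hsplit x hx
    refine ⟨conj_mem_of_le_normalizer (le_normalizer_fittingHallOf M hm) x hx, ?_⟩
    have haR : m * a * m⁻¹ ∈ Q ⊓ Subgroup.centralizer (D : Set G) :=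
      conj_mem_of_le_normalizer (hRn hm) a (hR.ge ⟨ha, hn ▸ pow_mem hxU n⟩)
    rw [hR] at haR
    rw [hab, show m * (a * b) * m⁻¹ = m * a * m⁻¹ * (m * b * m⁻¹) by group]
    refine mul_mem haR.2 (hcentral _ (conj_mem_of_le_normalizer (le_normalizer_fittingHallOf M hm) b hb) ?_)
    rwa [show orderOf (m * b * m⁻¹) = orderOf b from
      orderOf_injective (MulAut.conj m).toMonoidHom (MulAut.conj m).injective b]
  · intro x hx
    obtain ⟨a, ha, b, hb, hab, hbr, n, hn⟩ := hsplit x hx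
    have hc : Commute a b := congrArg Subtype.val (CfsgLib.Char.PiPart.commute_of_coprime (G := P)
      (x := ⟨a, hQF ha⟩) (y := ⟨b, hb⟩) (by
        rw [Subgroup.orderOf_mk, Subgroup.orderOf_mk]
        obtain ⟨k, hk⟩ := hQp ⟨a, ha⟩
        exact (Nat.Coprime.pow_right k hbr).symm.coprime_dvd_left
          (orderOf_dvd_of_pow_eq_one (by simpa using congrArg Subtype.val hk)))).eq
    rw [hab, hc.mul_pow]
    exact mul_mem (hR.le (hRel a ha a ha).1).2
      (pow_mem (hcentral b hb hbr) r)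
  · intro x hx y hy
    obtain ⟨a, ha, b, hb, hab, hbr, -, -⟩ := hsplit x hx
    obtain ⟨a', ha', b', hb', hab', hbr', -, -⟩ := hsplit y hy
    have hcomm : ∀ c ∈ Q, ∀ d ∈ P, (orderOf d).Coprime r → Commute c d := fun c hc d hd hdr => by
      refine congrArg Subtype.val (CfsgLib.Char.PiPart.commute_of_coprime (G := P)
        (x := ⟨c, hQF hc⟩) (y := ⟨d, hd⟩) ?_).eq
      rw [Subgroup.orderOf_mk, Subgroup.orderOf_mk]
      obtain ⟨k, hk⟩ := hQp ⟨c, hc⟩
      exact (Nat.Coprime.pow_right k hdr).symm.coprime_dvd_left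
        (orderOf_dvd_of_pow_eq_one (by simpa using congrArg Subtype.val hk))
    have e1 := hcomm a ha b' hb' hbr'
    have e2 := hcomm a' ha' b hb hbr
    have e3 := hcomm a ha b hb hbr
    have e4 := hcomm a' ha' b' hb' hbr'
    have key : x * y * x⁻¹ * y⁻¹ = a * a' * a⁻¹ * a'⁻¹ * (b * b' * b⁻¹ * b'⁻¹) := by
      rw [hab, hab']
      simp only [mul_inv_rev]
      calc a * b * (a' * b') * (b⁻¹ * a⁻¹) * (b'⁻¹ * a'⁻¹)
          = a * (b * a') * b' * b⁻¹ * (a⁻¹ * b'⁻¹) * a'⁻¹ := by group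
        _ = a * (a' * b) * b' * b⁻¹ * (b'⁻¹ * a⁻¹) * a'⁻¹ := by
            rw [e2.eq, e1.inv_inv.eq]
        _ = a * a' * ((b * b' * b⁻¹ * b'⁻¹) * (a⁻¹ * a'⁻¹)) := by group
        _ = a * a' * ((a⁻¹ * a'⁻¹) * (b * b' * b⁻¹ * b'⁻¹)) := by
            have h1 : Commute (b * b' * b⁻¹ * b'⁻¹) a⁻¹ :=
              (((e3.symm.mul_left e1.symm).mul_left e3.symm.inv_left).mul_left e1.symm.inv_left).inv_right
            have h2 : Commute (b * b' * b⁻¹ * b'⁻¹) a'⁻¹ :=
              (((e2.symm.mul_left e4.symm).mul_left e2.symm.inv_left).mul_left e4.symm.inv_left).inv_right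
            rw [(h1.mul_right h2).eq]
        _ = _ := by group
    rw [key]
    exact mul_mem (hR.le (hRel a ha a' ha').2).2 (mul_mem (mul_mem (mul_mem (hcentral b hb hbr)
      (hcentral b' hb' hbr')) (inv_mem (hcentral b hb hbr))) (inv_mem (hcentral b' hb' hbr')))

end CfsgLib.Peterfalvi.Pair
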