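import Cfsg.Agent.Lib.Peterfalvi.Pair.SideDual
import Mathlib.LinearAlgebra.FreeModule.Finite.Basic
import Mathlib.RingTheory.RootsOfUnity.PrimitiveRoots
import Mathlib.GroupTheory.Perm.Cycle.Type

/-!
An irreducible action of `U` on the chief factor: the order of `U/C` divides `(r^w-1)/(r-1)`.
-/

set_option autoImplicit false
set_option linter.style.haveILetI false
set_option linter.unusedSectionVars false

namespace CfsgLib.Peterfalvi.Pair

open Cfsg CfsgLib.Char Polynomial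
open CfsgLib.BG.FixedLine (conj_mem_of_le_normalizer mem_normalizer_of_conj)

universe u

variable {G : Type u} [Group G] [Fintype G] {M K U W : Subgroup G}

/-- An endomorphism annihilated by a product of linear factors has an eigenvector. -/
theorem exists_eigen_of_prod {F V : Type*} [Field F] [AddCommGroup V] [Module F V]
    (T : Module.End F V) (s : Finset F) {v : V} (hv : v ≠ 0)
    (h : aeval T (∏ a ∈ s, (X - C a)) v = 0) : ∃ a : F, ∃ z : V, z ≠ 0 ∧ T z = a • z ∧ a ∈ s := by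
  classical
  induction s using Finset.induction_on generalizing v with
  | empty => simp at h; exact absurd h hv
  | @insert b s hb ih =>
    rw [Finset.prod_insert hb, map_mul, Module.End.mul_apply] at h
    by_cases h0 : aeval T (∏ a ∈ s, (X - C a)) v = 0
    · obtain ⟨a, z, hz, e, ha⟩ := ih hv h0
      exact ⟨a, z, hz, e, Finset.mem_insert_of_mem ha⟩
    · refine ⟨b, _, h0, ?_, Finset.mem_insert_self b s⟩
      simpa [map_sub, sub_eq_zero] using h

/-- An automorphism of finite order dividing `r - 1` of a group of exponent `r` has an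
eigenvector. -/
theorem exists_pow_eigen {A : Type*} [CommGroup A] {r : ℕ} [hr : Fact r.Prime]
    (hexp : ∀ x : A, x ^ r = 1) {ℓ : ℕ} (hℓ0 : 0 < ℓ) (hℓ : ℓ ∣ r - 1) (f : A →* A)
    (hf : ∀ x, f^[ℓ] x = x) {x : A} (hx : x ≠ 1) :
    ∃ a : ℕ, ∃ z : A, z ≠ 1 ∧ f z = z ^ a := by
  classical
  letI : Module (ZMod r) (Additive A) :=
    AddCommGroup.zmodModule (n := r) fun x => hexp x.toMul
  let T : Module.End (ZMod r) (Additive A) := AddMonoidHom.toZModLinearMap r f.toAdditive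
  obtain ⟨g, hg⟩ := IsCyclic.exists_generator (α := (ZMod r)ˣ)
  have hog : orderOf g = r - 1 := by
    rw [orderOf_eq_card_of_forall_mem_zpowers hg, Nat.card_eq_fintype_card, ZMod.card_units]
  have hr1 : r - 1 ≠ 0 := by have := hr.out.two_le; omega
  set ζ : ZMod r := ((g ^ ((r - 1) / ℓ) : (ZMod r)ˣ) : ZMod r) with hζ
  have hprim : IsPrimitiveRoot ζ ℓ := by
    rw [hζ, IsPrimitiveRoot.coe_units_iff]
    refine IsPrimitiveRoot.pow (Nat.pos_of_ne_zero hr1) ?_ (Nat.div_mul_cancel hℓ).symm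
    rw [← hog]; exact IsPrimitiveRoot.orderOf g
  have hiter : ∀ (n : ℕ) (y : A), (T ^ n) (Additive.ofMul y) = Additive.ofMul (f^[n] y) := by
    intro n
    induction n with
    | zero => intro y; rfl
    | succ n ih =>
      intro y
      rw [pow_succ, Module.End.mul_apply, Function.iterate_succ_apply]
      exact ih (f y)
  have h0 : aeval T (∏ a ∈ nthRootsFinset ℓ (1 : ZMod r), (X - C a)) (Additive.ofMul x) = 0 := by
    rw [← X_pow_sub_one_eq_prod hℓ0 hprim, map_sub, map_pow, aeval_X, map_one,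
      LinearMap.sub_apply, Module.End.one_apply, hiter, hf, sub_self]
  obtain ⟨a, z, hz, e, -⟩ := exists_eigen_of_prod T _ (fun e => hx e) h0
  refine ⟨a.val, z.toMul, fun e => hz e, ?_⟩
  have e' : Additive.ofMul (f z.toMul) = (a.val : ℕ) • z := by
    rw [← Nat.cast_smul_eq_nsmul (ZMod r), ZMod.natCast_zmod_val]; exact e
  exact congrArg Additive.toMul e'

namespace Side

variable (h : Side M K U W)
include h

theorem tw_mem_D {χ : Lin (fittingOf M)} (hχ : χ ∈ h.D) (m : M) : tw χ m ∈ h.D := by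
  refine tw_mem_annih hχ ?_
  obtain ⟨x, u, z, hx, hu, hz, rfl⟩ := h.exists_decomp m
  have hXn : fittingOf M ≤ Subgroup.normalizer ((h.P0 ⊔ h.C : Subgroup G) : Set G) :=
    fun a ha => mem_normalizer_of_conj fun b hb => by
      have := mul_mem (h.commutator_mem_P0C ha (sup_le (inf_le_left.trans
        h.fittingHallOf_le_fittingOf) h.C_le_fittingOf hb)) hb
      simpa [mul_assoc] using this
  have hUK : U ⊔ K ≤ Subgroup.normalizer ((h.P0 ⊔ h.C : Subgroup G) : Set G) :=
    Coprime.le_normalizer_sup_of_le ((sup_le (U_le h.hP) (K_le h.hP)).trans h.fixed_normal)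
      h.le_normalizer_C
  push_cast
  exact mul_mem (mul_mem (hXn hz) (hUK (Subgroup.mem_sup_left hu))) (hUK (Subgroup.mem_sup_right hx))

theorem P0C_le_fittingOf : h.P0 ⊔ h.C ≤ fittingOf M :=
  sup_le (inf_le_left.trans h.fittingHallOf_le_fittingOf) h.C_le_fittingOf

theorem eq_one_of_trivial_on_P {χ : Lin (fittingOf M)} (hD : χ ∈ h.D)
    (hP : ∀ x : fittingOf M, (x : G) ∈ fittingHallOf M → χ x = 1) : χ = 1 :=
  h.eq_one_of_mem_D_E hD fun x hx => hP x (h.Q_le hx)

variable (hirr : h.Irred)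
include hirr

theorem min_of_mem_D {χ : Lin (fittingOf M)} (hD : χ ∈ h.D) (h1 : χ ≠ 1) : IsMin h χ :=
  h.min_of_notMem_E hirr fun hE => h1 (h.eq_one_of_mem_D_E hD hE)

theorem mem_C_of_scalar {u : M} (hu : (u : G) ∈ U) (a : ℕ)
    (hsc : ∀ x ∈ fittingHallOf M, (u : G) * x * (u : G)⁻¹ * (x ^ a)⁻¹ ∈ h.P0) :
    (u : G) ∈ h.C := by
  obtain ⟨⟨k, hk⟩, hk1⟩ := Subgroup.ne_bot_iff_exists_ne_one.mp h.hP.W₁_ne
  replace hk1 : k ≠ 1 := fun e => hk1 (Subtype.ext e)
  set v : G := k * (u : G) * k⁻¹ with hv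
  have hkU : v ∈ U := conj_mem_of_le_normalizer (h.hP.U_normal hk) _ hu
  refine h.fpf_quot hk hk1 hu ?_
  have hn := h.fixed_normal
  have key : ∀ x ∈ fittingHallOf M, (v⁻¹ * u) * x * (v⁻¹ * u)⁻¹ * x⁻¹ ∈ h.P0 := by
    intro x hx
    have h2 : v * x * v⁻¹ * (x ^ a)⁻¹ ∈ h.P0 := by
      have hy : k⁻¹ * x * k ∈ fittingHallOf M := by
        have := conj_mem_of_le_normalizer (h.K_le_normalizer_P (K.inv_mem hk)) x hx
        rwa [inv_inv] at this
      have := conj_mem_of_le_normalizer (hn (K_le h.hP hk)) _ (hsc _ hy)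
      have e : (k⁻¹ * x * k) ^ a = k⁻¹ * x ^ a * k := by
        simpa using conj_pow (a := k⁻¹) (b := x) (i := a)
      rw [e] at this
      simpa [hv, mul_assoc] using this
    have h3 : (v * x * v⁻¹)⁻¹ * ((u : G) * x * (u : G)⁻¹) ∈ h.P0 := by
      have h4 := conj_mem_of_le_normalizer
        (hn (fittingHallOf_le M ((fittingHallOf M).inv_mem ((fittingHallOf M).pow_mem hx a))))
        _ (mul_mem (inv_mem h2) (hsc x hx))
      simpa [mul_assoc] using h4
    have h5 := conj_mem_of_le_normalizer (hn (inv_mem (U_le h.hP hkU))) _ h3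
    have h6 := conj_mem_of_le_normalizer (hn (fittingHallOf_le M hx)) _ h5
    simpa [mul_assoc] using h6
  have hc := h.mem_C_of_trivial_mod (U.mul_mem (U.inv_mem hkU) hu) key
  have := conj_mem_of_le_normalizer ((le_sup_left.trans h.le_normalizer_C) hu) _ hc
  simpa [hv, mul_assoc] using this

/-- No element of `U` outside `C` has an order dividing `r - 1` modulo `C`. -/
theorem mem_C_of_pow_mem {u : M} (hu : (u : G) ∈ U) {ℓ : ℕ} (hℓ0 : 0 < ℓ)
    (hℓ : ℓ ∣ Nat.card W - 1) (hpow : (u : G) ^ ℓ ∈ h.C) : (u : G) ∈ h.C := by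
  classical
  haveI : Fact (Nat.card W).Prime := ⟨h.primeW⟩
  let f : h.D →* h.D :=
    { toFun := fun χ => ⟨tw χ.1 u, h.tw_mem_D χ.2 u⟩
      map_one' := Subtype.ext (MonoidHom.ext fun _ => rfl)
      map_mul' := fun _ _ => Subtype.ext (MonoidHom.ext fun _ => rfl) }
  have hiter : ∀ (n : ℕ) (χ : h.D), (f^[n] χ).1 = tw χ.1 (u ^ n) := by
    intro n
    induction n with
    | zero => intro χ; rw [pow_zero, tw_one]; rfl
    | succ n ih =>
      intro χ
      rw [Function.iterate_succ_apply', pow_succ, tw_mul, ← ih]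
      rfl
  obtain ⟨⟨χ₀, hχ₀⟩, hχ1⟩ : ∃ χ : h.D, χ ≠ 1 := by
    haveI : Finite h.D := inferInstance
    haveI : Nontrivial h.D := Finite.one_lt_card_iff_nontrivial.mp (by
      rw [h.card_D]; exact Nat.one_lt_pow h.primeK.ne_zero h.primeW.one_lt)
    exact exists_ne 1
  obtain ⟨a, ⟨z, hzD⟩, hz1, hza⟩ := exists_pow_eigen (A := h.D)
    (fun χ => Subtype.ext (h.pow_eq_one_of_mem_D χ.2)) hℓ0 hℓ f
    (fun χ => Subtype.ext (by
      rw [hiter, tw_of_mem _ (by push_cast; exact h.C_le_fittingOf hpow)]))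
    hχ1
  have hza' : tw z u = z ^ a := congrArg Subtype.val hza
  -- the eigenspace
  let N : Subgroup G :=
    { carrier := {x | x ∈ fittingHallOf M ∧ ∀ χ : Lin (fittingOf M), χ ∈ h.D → tw χ u = χ ^ a →
        ∀ hx : x ∈ fittingOf M, χ ⟨x, hx⟩ = 1}
      one_mem' := ⟨one_mem _, fun χ _ _ _ => map_one χ⟩
      mul_mem' := fun {x y} hx hy => ⟨mul_mem hx.1 hy.1, fun χ h1 h2 hm => by
        rw [show (⟨x * y, hm⟩ : fittingOf M) = ⟨x, h.fittingHallOf_le_fittingOf hx.1⟩ *
          ⟨y, h.fittingHallOf_le_fittingOf hy.1⟩ from rfl, map_mul, hx.2 χ h1 h2, hy.2 χ h1 h2,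
          one_mul]⟩
      inv_mem' := fun {x} hx => ⟨inv_mem hx.1, fun χ h1 h2 hm => by
        rw [show (⟨x⁻¹, hm⟩ : fittingOf M) = (⟨x, h.fittingHallOf_le_fittingOf hx.1⟩)⁻¹ from rfl,
          map_inv, hx.2 χ h1 h2, inv_one]⟩ }
  have hUN : U ≤ Subgroup.normalizer (N : Set G) := by
    intro v hv
    refine mem_normalizer_of_conj fun x hx => ⟨conj_mem_of_le_normalizer (h.U_le_normalizer_P hv) x hx.1,
      fun χ h1 h2 hm => ?_⟩
    set v' : M := ⟨v, U_le h.hP hv⟩
    have h3 : tw (tw χ v') u = (tw χ v') ^ a := by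
      set c : M := v' * u * v'⁻¹ * u⁻¹ with hc
      have hcX : (c : G) ∈ fittingOf M := by
        push_cast [hc]
        exact h.C_le_fittingOf (h.commutator_mem_C hv hu)
      rw [← tw_mul, show v' * u = c * (u * v') by rw [hc]; group, tw_mul, tw_of_mem χ hcX, tw_mul,
        h2]
      exact MonoidHom.ext fun _ => rfl
    exact hx.2 (tw χ v') (h.tw_mem_D h1 v') h3 (h.fittingHallOf_le_fittingOf hx.1)
  rcases hirr N (fun x hx => ⟨hx.1, fun χ h1 _ hm => h1 ⟨x, hm⟩ (Subgroup.mem_sup_left hx)⟩)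
      (fun x hx => hx.1) hUN with e | e
  · refine h.mem_C_of_scalar hirr hu a fun x hx => e.le ⟨?_, fun χ h1 h2 hm => ?_⟩
    · exact (fittingHallOf M).mul_mem (conj_mem_of_le_normalizer (h.U_le_normalizer_P hu) x hx)
        ((fittingHallOf M).inv_mem ((fittingHallOf M).pow_mem hx a))
    · have hxX := h.fittingHallOf_le_fittingOf hx
      have e1 := DFunLike.congr_fun h2 (⟨x, hxX⟩ : fittingOf M)
      rw [show (⟨(u : G) * x * (u : G)⁻¹ * (x ^ a)⁻¹, hm⟩ : fittingOf M) =
        ⟨(u : G) * x * (u : G)⁻¹, mem_fitting_conj M u hxX⟩ * ((⟨x, hxX⟩ : fittingOf M) ^ a)⁻¹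
        from Subtype.ext (by simp), map_mul, map_inv, map_pow]
      rw [tw_apply] at e1
      rw [e1, MonoidHom.pow_apply, mul_inv_cancel]
  · exfalso
    exact hz1 (Subtype.ext (h.eq_one_of_trivial_on_P hzD fun x hx =>
      ((e.ge hx).2 z hzD hza' x.2)))

theorem coprime_u'_sub_one : h.u'.Coprime (Nat.card W - 1) := by
  refine Nat.coprime_of_dvd fun ℓ hℓ h1 h2 => ?_
  haveI : Fact ℓ.Prime := ⟨hℓ⟩
  haveI : (h.C.subgroupOf U).Normal := (Subgroup.normal_subgroupOf_iff_le_normalizer inf_le_left).mpr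
    (le_sup_left.trans h.le_normalizer_C)
  obtain ⟨q, hq⟩ := exists_prime_orderOf_dvd_card' (G := U ⧸ h.C.subgroupOf U) ℓ h1
  obtain ⟨⟨u, hu⟩, rfl⟩ := QuotientGroup.mk'_surjective _ q
  have hmem : u ∈ h.C := h.mem_C_of_pow_mem hirr (u := ⟨u, U_le h.hP hu⟩) hu hℓ.pos h2 (by
    have := pow_orderOf_eq_one (QuotientGroup.mk' (h.C.subgroupOf U) ⟨u, hu⟩)
    rw [hq, ← map_pow, QuotientGroup.mk'_apply, QuotientGroup.eq_one_iff,
      Subgroup.mem_subgroupOf] at this
    simpa using this)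
  rw [QuotientGroup.mk'_apply, (QuotientGroup.eq_one_iff _).mpr (Subgroup.mem_subgroupOf.mpr hmem),
    orderOf_one] at hq
  exact hℓ.ne_one hq.symm

theorem u'_dvd_pow_sub_one : h.u' ∣ Nat.card W ^ Nat.card K - 1 := by
  classical
  rw [← h.card_D]
  let S := {χ : h.D // χ ≠ 1}
  haveI : Fintype h.D := Fintype.ofFinite _
  have hS : Nat.card S = Nat.card h.D - 1 := by
    rw [Nat.card_eq_fintype_card, Nat.card_eq_fintype_card, Fintype.card_subtype_compl,
      Fintype.card_subtype_eq]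
  rw [← hS]
  let v' : U → M := fun v => ⟨(v : G)⁻¹, inv_mem (U_le h.hP v.2)⟩
  have hne : ∀ (v : U) (χ : S), (⟨tw χ.1.1 (v' v), h.tw_mem_D χ.1.2 _⟩ : h.D) ≠ 1 := by
    intro v χ e
    refine χ.2 (Subtype.ext ?_)
    have e' : tw χ.1.1 (v' v) = 1 := congrArg Subtype.val e
    have := congrArg (fun φ => tw φ (v' v)⁻¹) e'
    simp only [← tw_mul, mul_inv_cancel, tw_one] at this
    exact this.trans (MonoidHom.ext fun _ => rfl)
  letI act : MulAction U S :=
    { smul := fun v χ => ⟨⟨tw χ.1.1 (v' v), h.tw_mem_D χ.1.2 _⟩, hne v χ⟩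
      one_smul := fun χ => Subtype.ext (Subtype.ext (show tw χ.1.1 (v' 1) = χ.1.1 by
        rw [show v' 1 = 1 from Subtype.ext (by simp [v']), tw_one]))
      mul_smul := fun v w χ => Subtype.ext (Subtype.ext (show tw χ.1.1 (v' (v * w)) =
        tw (tw χ.1.1 (v' w)) (v' v) by
        rw [← tw_mul]; congr 1; exact Subtype.ext (by simp [v']))) }
  have hstab : ∀ χ : S, MulAction.stabilizer U χ = h.C.subgroupOf U := by
    intro χ
    refine Subgroup.ext fun v => ?_
    rw [MulAction.mem_stabilizer_iff, Subgroup.mem_subgroupOf]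
    constructor
    · intro e
      have hst : v' v ∈ linStab χ.1.1 := congrArg Subtype.val (congrArg Subtype.val e)
      have := h.min_of_mem_D hirr χ.1.2 (fun e => χ.2 (Subtype.ext e)) (v' v) (U.inv_mem v.2) hst
      simpa [v'] using h.C.inv_mem this
    · intro hv
      exact Subtype.ext (Subtype.ext (tw_of_mem _ (inv_mem (h.C_le_fittingOf hv))))
  rw [Nat.card_congr (MulAction.selfEquivSigmaOrbits U S), Nat.card_sigma]
  refine Finset.dvd_sum fun o _ => dvd_of_eq ?_
  rw [Nat.card_coe_set_eq, ← MulAction.index_stabilizer, hstab]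
  rfl

/-- `(r^w-1)/(r-1)` as a geometric sum. -/
theorem u'_dvd_geom : h.u' ∣ ∑ i ∈ Finset.range (Nat.card K), Nat.card W ^ i := by
  have h1 := h.u'_dvd_pow_sub_one hirr
  have h2 : (Nat.card W - 1) * ∑ i ∈ Finset.range (Nat.card K), Nat.card W ^ i =
      Nat.card W ^ Nat.card K - 1 := by
    have := geom_sum_mul_add (Nat.card W - 1) (Nat.card K)
    simp only [Nat.sub_add_cancel (show 1 ≤ Nat.card W from h.primeW.pos)] at this
    rw [mul_comm]; omega
  rw [← h2] at h1
  exact (h.coprime_u'_sub_one hirr).dvd_of_dvd_mul_left h1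

end Side

end CfsgLib.Peterfalvi.Pair
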