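import Cfsg.Agent.Lib.Peterfalvi.Pair.SideBasic
import Cfsg.Agent.Lib.Peterfalvi.Pair.Grid

/-!
Linear characters of `F(M) K` attached to the pairs of linear characters of the two complements.
-/

set_option autoImplicit false
set_option linter.style.haveILetI false
set_option linter.unusedSectionVars false

namespace CfsgLib.Peterfalvi.Pair

open Cfsg
open CfsgLib.BG.FixedLine (conj_mem_of_le_normalizer mem_normalizer_of_conj)
open scoped Pointwise

universe u

variable {G : Type u} [Group G]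

namespace Side

variable [Finite G] {M K U W : Subgroup G} (h : Side M K U W)
include h

/-- The part of `M_F` killed by the exceptional characters. -/
abbrev N1 (_ : Side M K U W) : Subgroup G :=
  (fittingHallOf M ⊓ Subgroup.centralizer (U : Set G)) ⊔ ⁅fittingHallOf M, K⁆

/-- The part of `F(M)` killed by the exceptional characters. -/
abbrev N (_ : Side M K U W) : Subgroup G :=
  (fittingHallOf M ⊓ Subgroup.centralizer (U : Set G)) ⊔ ⁅fittingHallOf M, K⁆ ⊔
    (U ⊓ Subgroup.centralizer (fittingHallOf M : Set G))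

theorem N1_le : h.N1 ≤ fittingHallOf M :=
  sup_le inf_le_left (Coprime.commutator_le_left_of_le_normalizer h.K_le_normalizer_P)

theorem N_le : h.N ≤ fittingOf M :=
  sup_le (h.N1_le.trans h.fittingHallOf_le_fittingOf) h.C_le_fittingOf

theorem W_commute {x y : G} (hx : x ∈ K) (hy : y ∈ W) : x * y = y * x :=
  h.hP.selfNormalizing.2.2.2.1 x hx y hy

theorem W_inf_N1 : W ⊓ h.N1 = ⊥ := by
  rcases (Nat.dvd_prime h.primeW).mp
    (Subgroup.card_dvd_of_le (inf_le_left : W ⊓ h.N1 ≤ W)) with h1 | h1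
  · exact Subgroup.card_eq_one.mp h1
  exfalso
  set P := fittingHallOf M with hPdef
  have hWN : W ≤ h.N1 := (Subgroup.eq_of_le_of_card_ge inf_le_left h1.ge).ge.trans inf_le_right
  set PM := P.subgroupOf M with hPM
  set KM := K.subgroupOf M with hKM
  set P0M := h.P0.subgroupOf M with hP0M
  haveI : P0M.Normal := (Subgroup.normal_subgroupOf_iff_le_normalizer
    (inf_le_left.trans (fittingHallOf_le M))).mpr h.fixed_normal
  set f := QuotientGroup.mk' P0M with hf
  set V := PM.map f with hV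
  haveI hVab : IsMulCommutative V := ⟨⟨by
    rintro ⟨_, a, ha, rfl⟩ ⟨_, b, hb, rfl⟩
    refine Subtype.ext ?_
    show f a * f b = f b * f a
    rw [← map_mul, ← map_mul, hf, QuotientGroup.mk'_eq_mk']
    refine ⟨(a * b)⁻¹ * (b * a), Subgroup.mem_subgroupOf.mpr ?_, mul_inv_cancel_left _ _⟩
    have hc := h.comm_mem _ (inv_mem (Subgroup.mem_subgroupOf.mp hb)) _ (inv_mem (Subgroup.mem_subgroupOf.mp ha))
    refine ⟨?_, ?_⟩
    · push_cast
      exact P.mul_mem (P.inv_mem (P.mul_mem (Subgroup.mem_subgroupOf.mp ha) (Subgroup.mem_subgroupOf.mp hb)))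
        (P.mul_mem (Subgroup.mem_subgroupOf.mp hb) (Subgroup.mem_subgroupOf.mp ha))
    · push_cast
      simpa [mul_assoc] using hc⟩⟩
  have hnorm : KM ≤ Subgroup.normalizer (PM : Set M) := fun k hk => by
    refine Subgroup.mem_normalizer_iff.mpr fun x => ?_
    exact Subgroup.mem_normalizer_iff.mp (h.K_le_normalizer_P (Subgroup.mem_subgroupOf.mp hk)) x
  have hAV : KM.map f ≤ Subgroup.normalizer (V : Set (M ⧸ P0M)) :=
    (Subgroup.map_mono hnorm).trans (Subgroup.le_normalizer_map f)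
  have hcop : (Nat.card (KM.map f)).Coprime (Nat.card V) := by
    refine Nat.Coprime.coprime_dvd_left (Subgroup.card_map_dvd _ f)
      (Nat.Coprime.coprime_dvd_right (Subgroup.card_map_dvd _ f) ?_)
    rw [hKM, hPM, Nat.card_congr (Subgroup.subgroupOfEquivOfLe (K_le h.hP)).toEquiv,
      Nat.card_congr (Subgroup.subgroupOfEquivOfLe (fittingHallOf_le M)).toEquiv]
    exact h.coprime_P_K.symm
  have hbot := Coprime.centralizer_inf_commutator_eq_bot hAV hcop
  obtain ⟨⟨z, hz⟩, hz1⟩ := Subgroup.ne_bot_iff_exists_ne_one.mp h.hP.selfNormalizing.2.1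
  have hzM : z ∈ M := fittingHallOf_le M (W_le h.hP hz)
  have h2 : f ⟨z, hzM⟩ ∈ (V ⊓ Subgroup.centralizer ((KM.map f : Subgroup (M ⧸ P0M)) : Set (M ⧸ P0M))) ⊓
      ⁅V, KM.map f⁆ := by
    refine ⟨⟨Subgroup.mem_map_of_mem f (Subgroup.mem_subgroupOf.mpr (W_le h.hP hz)), ?_⟩, ?_⟩
    · rintro _ ⟨k, hk, rfl⟩
      rw [← map_mul, ← map_mul]
      exact congrArg f (Subtype.ext (h.W_commute hk hz))
    · have hn1 : h.N1 ≤ (⁅PM, KM⁆ ⊔ P0M).map M.subtype := by
        rw [Subgroup.map_sup, Subgroup.map_commutator, hP0M,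
          Subgroup.map_subgroupOf_eq_of_le (inf_le_left.trans (fittingHallOf_le M)), hPM, hKM,
          Subgroup.map_subgroupOf_eq_of_le (fittingHallOf_le M),
          Subgroup.map_subgroupOf_eq_of_le (K_le h.hP), sup_comm]
      obtain ⟨w, hw, hwe⟩ := hn1 (hWN hz)
      rw [← Subgroup.map_commutator, ← show w = ⟨z, hzM⟩ from Subtype.ext hwe]
      have := Subgroup.mem_map_of_mem f hw
      rwa [Subgroup.map_sup, hf, QuotientGroup.map_mk'_self, sup_bot_eq] at this
  rw [hbot, Subgroup.mem_bot, hf, QuotientGroup.mk'_apply, QuotientGroup.eq_one_iff,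
    Subgroup.mem_subgroupOf] at h2
  exact hz1 (Subtype.ext (Subgroup.mem_bot.mp (h.W_inf_centralizer.le ⟨hz, h2.2⟩)))

theorem N_sup_W : h.N ⊔ W = fittingOf M := by
  refine le_antisymm (sup_le h.N_le ((W_le h.hP).trans h.fittingHallOf_le_fittingOf)) ?_
  rw [← h.fittingOf_eq]
  refine sup_le ?_ (le_sup_right.trans le_sup_left)
  have hdec := Coprime.commutator_sup_centralizer h.K_le_normalizer_P h.coprime_P_K.symm
    (Or.inl (h.solvable_le (K_le h.hP)))
  refine hdec.ge.trans (sup_le ((le_sup_right.trans le_sup_left).trans le_sup_left) ?_)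
  obtain ⟨⟨x, hx⟩, hx1⟩ := Subgroup.ne_bot_iff_exists_ne_one.mp h.hP.W₁_ne
  refine le_trans ?_ le_sup_right
  rw [← h.hP.W₂_centralizer x hx fun e => hx1 (Subtype.ext e)]
  exact inf_le_inf (fittingHallOf_le_derived h.hP) (Subgroup.centralizer_le (Set.singleton_subset_iff.mpr hx))

theorem inf_N : (K ⊔ W) ⊓ h.N = ⊥ := by
  refine (Subgroup.eq_bot_iff_forall _).mpr fun t ht => ?_
  have hKW : W ≤ Subgroup.normalizer (K : Set G) := fun y hy => mem_normalizer_of_conj fun x hx => by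
    rwa [← h.W_commute hx hy, mul_inv_cancel_right]
  obtain ⟨htZ, htN⟩ := Subgroup.mem_inf.mp ht
  rw [← SetLike.mem_coe, Subgroup.coe_mul_of_right_le_normalizer_left _ _ hKW,
    Set.mem_mul] at htZ
  obtain ⟨x, hx, y, hy, rfl⟩ := htZ
  have hxD : x ∈ ⁅M, M⁆ := by
    have h1 := h.fittingOf_le_derived (h.N_le htN)
    exact ((⁅M, M⁆ : Subgroup G).mul_mem_cancel_right (fittingHallOf_le_derived h.hP (W_le h.hP hy))).mp h1
  have hx1 : x = 1 := Subgroup.mem_bot.mp
    ((Coprime.inf_eq_bot_of_coprime_card (coprime_derived_K h.hP)).le ⟨hxD, hx⟩)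
  subst hx1
  rw [one_mul] at htN ⊢
  have hn : h.C ≤ Subgroup.normalizer (h.N1 : Set G) := fun c hc => mem_normalizer_of_conj fun z hz => by
    rwa [show c * z * c⁻¹ = z by rw [← hc.2 z (h.N1_le hz), mul_inv_cancel_right]]
  rw [← SetLike.mem_coe, Subgroup.coe_mul_of_right_le_normalizer_left _ _ hn, Set.mem_mul] at htN
  obtain ⟨z, hz, c, hc, hzc⟩ := htN
  have hc1 : c = 1 := Subgroup.mem_bot.mp (h.P_inf_C.le ⟨by
    rw [show c = z⁻¹ * y by rw [← hzc]; group]
    exact (fittingHallOf M).mul_mem ((fittingHallOf M).inv_mem (h.N1_le hz)) (W_le h.hP hy), hc⟩)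
  rw [hc1, mul_one] at hzc
  exact Subgroup.mem_bot.mp (h.W_inf_N1.le ⟨hy, hzc ▸ hz⟩)

theorem le_normalizer_N : fittingOf M ⊔ K ≤ Subgroup.normalizer (h.N : Set G) := by
  have hC : ∀ c ∈ h.C, ∀ z ∈ fittingHallOf M, c * z * c⁻¹ = z := fun c hc z hz => by
    rw [← hc.2 z hz, mul_inv_cancel_right]
  rw [← h.fittingOf_eq]
  refine sup_le (sup_le (fun a ha => ?_) fun c hc => ?_) fun k hk => ?_
  · refine mem_normalizer_of_conj fun z hz => ?_
    have hn : h.C ≤ Subgroup.normalizer (h.N1 : Set G) := fun c hc => mem_normalizer_of_conj fun z hz => by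
      rwa [hC c hc z (h.N1_le hz)]
    rw [← SetLike.mem_coe, Subgroup.coe_mul_of_right_le_normalizer_left _ _ hn, Set.mem_mul] at hz
    obtain ⟨b, hb, c, hc, rfl⟩ := hz
    rw [show a * (b * c) * a⁻¹ = (a * b * a⁻¹ * b⁻¹) * (b * (a * c * a⁻¹)) by group]
    refine mul_mem (Subgroup.mem_sup_left (Subgroup.mem_sup_left ⟨?_, h.comm_mem a ha b (h.N1_le hb)⟩)) ?_
    · exact (fittingHallOf M).mul_mem ((fittingHallOf M).mul_mem ((fittingHallOf M).mul_mem ha (h.N1_le hb))
        ((fittingHallOf M).inv_mem ha)) ((fittingHallOf M).inv_mem (h.N1_le hb))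
    · rw [hc.2 a ha, mul_inv_cancel_right]
      exact mul_mem (Subgroup.mem_sup_left hb) (Subgroup.mem_sup_right hc)
  · refine Coprime.le_normalizer_sup_of_le ?_ ?_ hc
    · exact fun c hc => mem_normalizer_of_conj fun z hz => by rwa [hC c hc z (h.N1_le hz)]
    · exact Subgroup.le_normalizer
  · exact Coprime.le_normalizer_sup_of_le
      (Coprime.le_normalizer_sup_of_le ((K_le h.hP).trans h.fixed_normal)
        (Coprime.le_normalizer_commutator h.K_le_normalizer_P Subgroup.le_normalizer))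
      (le_sup_right.trans h.le_normalizer_C) hk

theorem fittingOf_sup_K : h.N ⊔ (K ⊔ W) = fittingOf M ⊔ K := by
  rw [sup_comm K W, ← sup_assoc, h.N_sup_W]

end Side

variable [Fintype G] {M K U W : Subgroup G}

/-- The exceptional linear characters of `F(M) K`. -/
theorem Side.exists_omega (h : Side M K U W) :
    ∃ ω : Lin W → Lin K → Lin (fittingOf M ⊔ K),
      (∀ a b (x : K) (y : W), ω a b ⟨x * y, mul_mem (Subgroup.mem_sup_right x.2)
        (Subgroup.mem_sup_left (h.fittingHallOf_le_fittingOf (W_le h.hP y.2)))⟩ = b x * a y) ∧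
      (∀ a b (t : ↥(fittingOf M ⊔ K)), (t : G) ∈ h.N → ω a b t = 1) ∧
      (∀ a b b' (t : ↥(fittingOf M ⊔ K)), (t : G) ∈ fittingOf M → ω a b t = ω a b' t) ∧
      (∀ a b, ω a⁻¹ b⁻¹ = (ω a b)⁻¹) := by
  classical
  obtain ⟨p, q, hp, hq, hpq, hL, hR⟩ := CfsgLib.Char.CyclicTI.exists_proj (W₁ := K) (W₂ := W)
    h.hP.selfNormalizing.2.2.1 h.hP.selfNormalizing.2.2.2.1
  set L := fittingOf M ⊔ K with hLdef
  set NL := h.N.subgroupOf L with hNL
  have hNle : h.N ≤ L := h.N_le.trans le_sup_left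
  haveI : NL.Normal := (Subgroup.normal_subgroupOf_iff_le_normalizer hNle).mpr h.le_normalizer_N
  have hZle : K ⊔ W ≤ L := le_sup_right.trans h.fittingOf_sup_K.le
  set ι : ↥(K ⊔ W) →* L ⧸ NL := (QuotientGroup.mk' NL).comp (Subgroup.inclusion hZle) with hι
  have hinj : Function.Injective ι := by
    refine (injective_iff_map_eq_one ι).mpr fun t ht => ?_
    rw [hι, MonoidHom.comp_apply, QuotientGroup.mk'_apply, QuotientGroup.eq_one_iff,
      Subgroup.mem_subgroupOf] at ht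
    exact Subtype.ext (Subgroup.mem_bot.mp (h.inf_N.le ⟨t.2, ht⟩))
  have hsurj : Function.Surjective ι := by
    intro z
    obtain ⟨l, rfl⟩ := QuotientGroup.mk'_surjective NL z
    have hl : (l : G) ∈ h.N ⊔ (K ⊔ W) := h.fittingOf_sup_K.ge l.2
    rw [← SetLike.mem_coe, Subgroup.coe_mul_of_right_le_normalizer_left _ _
      (hZle.trans h.le_normalizer_N), Set.mem_mul] at hl
    obtain ⟨n, hn, t, ht, he⟩ := hl
    refine ⟨⟨t, ht⟩, ?_⟩
    rw [hι, MonoidHom.comp_apply]
    refine (QuotientGroup.mk'_eq_mk' NL).mpr ⟨(⟨t, hZle ht⟩ : L)⁻¹ * l, ?_, ?_⟩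
    · rw [hNL, Subgroup.mem_subgroupOf]
      push_cast
      rw [← he, ← mul_assoc]
      simpa using conj_mem_of_le_normalizer
        (inv_mem (h.le_normalizer_N (hZle ht))) n hn
    · exact mul_inv_cancel_left _ _
  let e := MulEquiv.ofBijective ι ⟨hinj, hsurj⟩
  let pr : L →* ↥(K ⊔ W) := e.symm.toMonoidHom.comp (QuotientGroup.mk' NL)
  have hpr : ∀ (t : L) (z : ↥(K ⊔ W)), (t : G) = z → pr t = z := fun t z hz => by
    show e.symm (QuotientGroup.mk' NL t) = z
    rw [MulEquiv.symm_apply_eq]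
    exact congrArg (QuotientGroup.mk' NL) (Subtype.ext hz)
  let pK : ↥(K ⊔ W) →* K :=
    { toFun := fun w => ⟨p w, hp w⟩
      map_one' := Subtype.ext (by simp)
      map_mul' := fun v w => Subtype.ext (by simp) }
  let qW : ↥(K ⊔ W) →* W :=
    { toFun := fun w => ⟨q w, hq w⟩
      map_one' := Subtype.ext (by simp)
      map_mul' := fun v w => Subtype.ext (by simp) }
  have hpK : ∀ (x : K) (y : W),
      pK ⟨x * y, Subgroup.mul_mem_sup x.2 y.2⟩ = x ∧ qW ⟨x * y, Subgroup.mul_mem_sup x.2 y.2⟩ = y := by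
    intro x y
    have e : (⟨x * y, Subgroup.mul_mem_sup x.2 y.2⟩ : ↥(K ⊔ W)) =
        ⟨x, Subgroup.mem_sup_left x.2⟩ * ⟨y, Subgroup.mem_sup_right y.2⟩ := rfl
    rw [e, map_mul, map_mul]
    obtain ⟨a1, a2⟩ := hL ⟨x, Subgroup.mem_sup_left x.2⟩ x.2
    obtain ⟨b1, b2⟩ := hR ⟨y, Subgroup.mem_sup_right y.2⟩ y.2
    constructor <;> refine Subtype.ext ?_ <;> simp [pK, qW, a1, a2, b1, b2]
  refine ⟨fun a b => ((b.comp pK) * (a.comp qW)).comp pr, fun a b x y => ?_, fun a b t ht => ?_,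
    fun a b b' t ht => ?_, fun a b => MonoidHom.ext fun t => ?_⟩
  · simp only [MonoidHom.comp_apply, MonoidHom.mul_apply]
    rw [hpr _ ⟨x * y, Subgroup.mul_mem_sup x.2 y.2⟩ rfl, (hpK x y).1, (hpK x y).2]
  · have h1 : pr t = 1 := by
      show e.symm (QuotientGroup.mk' NL t) = 1
      rw [QuotientGroup.mk'_apply, (QuotientGroup.eq_one_iff t).mpr (Subgroup.mem_subgroupOf.mpr ht),
        map_one]
    simp [h1]
  · have hW : (pr t : G) ∈ W := by
      have hXN : h.N ⊔ W = fittingOf M := h.N_sup_W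
      have hn : W ≤ Subgroup.normalizer (h.N : Set G) :=
        ((W_le h.hP).trans h.fittingHallOf_le_fittingOf).trans (le_sup_left.trans h.le_normalizer_N)
      replace ht : (t : G) ∈ h.N ⊔ W := hXN.ge ht
      rw [← SetLike.mem_coe, Subgroup.coe_mul_of_right_le_normalizer_left _ _ hn,
        Set.mem_mul] at ht
      obtain ⟨n, hn', w, hw, he⟩ := ht
      have : t = ⟨n, hNle hn'⟩ * ⟨w, hZle (Subgroup.mem_sup_right hw)⟩ := Subtype.ext he.symm
      rw [this, map_mul, hpr ⟨w, _⟩ ⟨w, Subgroup.mem_sup_right hw⟩ rfl,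
        show pr ⟨n, hNle hn'⟩ = 1 from (show e.symm (QuotientGroup.mk' NL _) = 1 by
          rw [QuotientGroup.mk'_apply, (QuotientGroup.eq_one_iff _).mpr
            (Subgroup.mem_subgroupOf.mpr hn'), map_one]), one_mul]
      exact hw
    have h1 : pK (pr t) = 1 := Subtype.ext (by simp [pK, (hR _ hW).1])
    simp [MonoidHom.comp_apply, h1]
  · simp only [MonoidHom.comp_apply, MonoidHom.mul_apply, MonoidHom.inv_apply, mul_inv]

end CfsgLib.Peterfalvi.Pair
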