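import Cfsg.Agent.Lib.Peterfalvi.Pair.SideGalois

/-!
A reducible action of `U` on the chief factor: lines, and many characters with minimal stabiliser.
-/

set_option autoImplicit false
set_option linter.style.haveILetI false
set_option linter.unusedSectionVars false

namespace CfsgLib.Peterfalvi.Pair

open Cfsg CfsgLib.Char
open CfsgLib.BG.FixedLine (conj_mem_of_le_normalizer mem_normalizer_of_conj)

universe u

/-- The join of disjoint-or-contained images has a power order. -/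
theorem exists_card_sup {A : Type*} [CommGroup A] [Finite A] {ι : Type*} [DecidableEq ι]
    (L : ι → Subgroup A) (d : ℕ) (hcard : ∀ i, Nat.card (L i) = d) (P : Subgroup A → Prop)
    (hbot : P ⊥) (hsup : ∀ i S, P S → P (S ⊔ L i))
    (hmin : ∀ i S, P S → L i ≤ S ∨ L i ⊓ S = ⊥) (s : Finset ι) :
    P (s.sup L) ∧ ∃ t ⊆ s, Nat.card ↥(s.sup L) = d ^ t.card := by
  induction s using Finset.induction_on with
  | empty => exact ⟨hbot, ∅, subset_rfl, by rw [Finset.sup_empty, Subgroup.card_bot]; simp⟩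
  | @insert i s hi ih =>
    obtain ⟨hPs, t, hts, ht⟩ := ih
    rw [Finset.sup_insert, sup_comm]
    refine ⟨hsup i _ hPs, ?_⟩
    rcases hmin i _ hPs with h | h
    · exact ⟨t, hts.trans (Finset.subset_insert _ _), by rwa [sup_eq_left.mpr h]⟩
    · refine ⟨insert i t, Finset.insert_subset_insert _ hts, ?_⟩
      rw [Finset.card_insert_of_notMem (fun h' => hi (hts h')), pow_succ, ← ht,
        ← hcard i]
      exact Coprime.card_sup_of_normalizer (fun a _ => mem_normalizer_of_conj fun b hb => by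
        rwa [mul_comm a b, mul_inv_cancel_right]) (inf_comm (a := L i) _ ▸ h)

variable {G : Type u} [Group G] [Fintype G] {M K U W : Subgroup G}

namespace Side

variable (h : Side M K U W)
include h

theorem normal_P0C : ((h.P0 ⊔ h.C).subgroupOf (fittingOf M)).Normal :=
  (Subgroup.normal_subgroupOf_iff_le_normalizer h.P0C_le_fittingOf).mpr fun a ha =>
    mem_normalizer_of_conj fun b hb => by
      have := mul_mem (h.commutator_mem_P0C ha (h.P0C_le_fittingOf hb)) hb
      simpa [mul_assoc] using this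

theorem exists_D_ne_one {x : fittingOf M} (hx : (x : G) ∉ h.P0 ⊔ h.C) :
    ∃ χ ∈ h.D, χ x ≠ 1 := by
  haveI := h.normal_P0C
  obtain ⟨θ, h1, h2⟩ := exists_linear ((h.P0 ⊔ h.C).subgroupOf (fittingOf M))
    (fun a b => by
      obtain ⟨a, rfl⟩ := QuotientGroup.mk'_surjective _ a
      obtain ⟨b, rfl⟩ := QuotientGroup.mk'_surjective _ b
      rw [← map_mul, ← map_mul, QuotientGroup.mk'_eq_mk']
      refine ⟨(a * b)⁻¹ * (b * a), Subgroup.mem_subgroupOf.mpr ?_, mul_inv_cancel_left _ _⟩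
      push_cast
      have := h.commutator_mem_P0C (inv_mem b.2) (inv_mem a.2)
      simpa [mul_assoc] using this) (fun e => hx (Subgroup.mem_subgroupOf.mp e))
  exact ⟨θ, fun y hy => h1 y (Subgroup.mem_subgroupOf.mpr hy), h2⟩

theorem mem_P0_of_mem_P0C {x : G} (hx : x ∈ fittingHallOf M) (hx' : x ∈ h.P0 ⊔ h.C) :
    x ∈ h.P0 := by
  rw [← SetLike.mem_coe, Subgroup.coe_mul_of_right_le_normalizer_left _ _
    (fun c hc => mem_normalizer_of_conj fun a ha => by
      rwa [← hc.2 a ha.1, mul_inv_cancel_right]), Set.mem_mul] at hx'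
  obtain ⟨a, ha, c, hc, rfl⟩ := hx'
  have hc1 : c = 1 := Subgroup.mem_bot.mp (h.P_inf_C.le
    ⟨((fittingHallOf M).mul_mem_cancel_left ha.1).mp hx, hc⟩)
  rwa [hc1, mul_one]

theorem mem_C_of_fix_D {u : M} (hu : (u : G) ∈ U) (hfix : ∀ χ ∈ h.D, tw χ u = χ) :
    (u : G) ∈ h.C := by
  refine h.mem_C_of_trivial_mod hu fun x hx => ?_
  have hxX := h.fittingHallOf_le_fittingOf hx
  have hP : (u : G) * x * (u : G)⁻¹ * x⁻¹ ∈ fittingHallOf M :=
    (fittingHallOf M).mul_mem (conj_mem_of_le_normalizer (h.U_le_normalizer_P hu) x hx)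
      ((fittingHallOf M).inv_mem hx)
  by_contra hne
  obtain ⟨χ, hχ, hχ1⟩ := h.exists_D_ne_one (x := ⟨_, h.fittingHallOf_le_fittingOf hP⟩)
    fun hc => hne (h.mem_P0_of_mem_P0C hP hc)
  refine hχ1 ?_
  rw [show (⟨(u : G) * x * (u : G)⁻¹ * x⁻¹, h.fittingHallOf_le_fittingOf hP⟩ : fittingOf M) =
    ⟨(u : G) * x * (u : G)⁻¹, mem_fitting_conj M u hxX⟩ * (⟨x, hxX⟩ : fittingOf M)⁻¹ from rfl,
    map_mul, map_inv]
  have e1 := DFunLike.congr_fun (hfix χ hχ) (⟨x, hxX⟩ : fittingOf M)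
  rw [tw_apply] at e1
  rw [e1, mul_inv_cancel]

/-- A set of characters invariant under `U` and `K` is trivial or everything. -/
theorem eq_top_of_invariant {S : Subgroup h.D} (hne : S ≠ ⊥)
    (hU : ∀ m : M, (m : G) ∈ U ⊔ K → ∀ χ : h.D, χ ∈ S → ∀ hm : tw χ.1 m ∈ h.D, ⟨tw χ.1 m, hm⟩ ∈ S) :
    S = ⊤ := by
  classical
  -- the common kernel
  let N : Subgroup G :=
    { carrier := {x | x ∈ fittingHallOf M ∧ ∀ χ : h.D, χ ∈ S →
        ∀ hx : x ∈ fittingOf M, χ.1 ⟨x, hx⟩ = 1}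
      one_mem' := ⟨one_mem _, fun χ _ _ => map_one χ.1⟩
      mul_mem' := fun {x y} hx hy => ⟨mul_mem hx.1 hy.1, fun χ h1 hm => by
        rw [show (⟨x * y, hm⟩ : fittingOf M) = ⟨x, h.fittingHallOf_le_fittingOf hx.1⟩ *
          ⟨y, h.fittingHallOf_le_fittingOf hy.1⟩ from rfl, map_mul, hx.2 χ h1, hy.2 χ h1, one_mul]⟩
      inv_mem' := fun {x} hx => ⟨inv_mem hx.1, fun χ h1 hm => by
        rw [show (⟨x⁻¹, hm⟩ : fittingOf M) = (⟨x, h.fittingHallOf_le_fittingOf hx.1⟩)⁻¹ from rfl,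
          map_inv, hx.2 χ h1, inv_one]⟩ }
  have hN : U ⊔ K ≤ Subgroup.normalizer (N : Set G) := by
    intro v hv
    refine mem_normalizer_of_conj fun x hx => ⟨conj_mem_of_le_normalizer
      (sup_le h.U_le_normalizer_P h.K_le_normalizer_P hv) x hx.1, fun χ h1 hm => ?_⟩
    have hvM : v ∈ M := sup_le (U_le h.hP) (K_le h.hP) hv
    exact hx.2 _ (hU ⟨v, hvM⟩ hv χ h1 (h.tw_mem_D χ.2 _)) (h.fittingHallOf_le_fittingOf hx.1)
  rcases h.chief (N := N) (fun x hx => ⟨hx.1, fun χ _ hm => χ.2 ⟨x, hm⟩ (Subgroup.mem_sup_left hx)⟩)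
      (fun x hx => hx.1) (le_sup_left.trans hN) (le_sup_right.trans hN) with e | e
  swap
  · exfalso
    refine hne ((Subgroup.eq_bot_iff_forall _).mpr fun χ hχ => Subtype.ext
      (h.eq_one_of_trivial_on_P χ.2 fun x hx => (e.ge hx).2 χ hχ x.2))
  -- separation forces everything
  let ev : fittingOf M →* (S →* ℂˣ) :=
    { toFun := fun x => ⟨⟨fun χ => χ.1.1 x, rfl⟩, fun _ _ => rfl⟩
      map_one' := MonoidHom.ext fun χ => map_one χ.1.1
      map_mul' := fun x y => MonoidHom.ext fun χ => map_mul χ.1.1 x y }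
  have hker : ev.ker.map (fittingOf M).subtype ≤ h.P0 ⊔ h.C := by
    rintro _ ⟨x, hx, rfl⟩
    have hxX : (x : G) ∈ fittingHallOf M ⊔ h.C := h.fittingOf_eq.ge x.2
    rw [← SetLike.mem_coe, Subgroup.coe_mul_of_right_le_normalizer_left _ _
      (inf_le_left.trans h.U_le_normalizer_P), Set.mem_mul] at hxX
    obtain ⟨a, ha, c, hc, e'⟩ := hxX
    rw [Subgroup.coe_subtype, ← e']
    refine mul_mem (Subgroup.mem_sup_left (e.le ⟨ha, fun χ hχ hm => ?_⟩)) (Subgroup.mem_sup_right hc)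
    have h1 : χ.1 x = 1 := DFunLike.congr_fun hx ⟨χ, hχ⟩
    rwa [show x = (⟨a, hm⟩ : fittingOf M) * ⟨c, h.C_le_fittingOf hc⟩ from Subtype.ext e'.symm,
      map_mul, χ.2 ⟨c, _⟩ (Subgroup.mem_sup_right hc), mul_one] at h1
  haveI : Fintype S := Fintype.ofFinite _
  letI : CommGroup S := inferInstance
  haveI : Finite (S →* ℂˣ) := Nat.finite_of_card_ne_zero (by
    rw [card_hom_units]; exact Nat.card_pos.ne')
  have h1 : Nat.card (fittingOf M) ≤ Nat.card S * Nat.card ↥(h.P0 ⊔ h.C) := by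
    rw [← ev.ker.index_mul_card, Subgroup.index_ker, ← card_hom_units S]
    refine Nat.mul_le_mul ?_ ?_
    · exact Nat.card_le_card_of_injective _ Subtype.val_injective
    · rw [← Subgroup.card_map_of_injective (fittingOf M).subtype_injective]
      exact Nat.le_of_dvd Nat.card_pos (Subgroup.card_dvd_of_le hker)
  rw [h.card_fittingOf, h.card_P, h.card_P0C, mul_assoc] at h1
  refine Subgroup.eq_top_of_card_eq _ (le_antisymm (Nat.le_of_dvd Nat.card_pos
    S.card_subgroup_dvd_card) ?_)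
  rw [h.card_D]
  exact Nat.le_of_mul_le_mul_right h1 (Nat.mul_pos Nat.card_pos Nat.card_pos)

/-- The action of `M` on the dual of the chief factor. -/
def twD (m : M) : h.D →* h.D where
  toFun χ := ⟨tw χ.1 m, h.tw_mem_D χ.2 m⟩
  map_one' := Subtype.ext (MonoidHom.ext fun _ => rfl)
  map_mul' _ _ := Subtype.ext (MonoidHom.ext fun _ => rfl)

theorem twD_mul (m n : M) (χ : h.D) : h.twD (m * n) χ = h.twD n (h.twD m χ) :=
  Subtype.ext (tw_mul χ.1 m n)

theorem twD_one (χ : h.D) : h.twD 1 χ = χ := Subtype.ext (tw_one χ.1)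

theorem twD_injective (m : M) : Function.Injective (h.twD m) := fun a b e => by
  have := congrArg (h.twD m⁻¹) e
  rwa [← h.twD_mul, ← h.twD_mul, mul_inv_cancel, h.twD_one, h.twD_one] at this

theorem twD_C {m : M} (hm : (m : G) ∈ fittingOf M) (χ : h.D) : h.twD m χ = χ :=
  Subtype.ext (tw_of_mem χ.1 hm)

theorem twD_comm {u v : M} (hu : (u : G) ∈ U) (hv : (v : G) ∈ U) (χ : h.D) :
    h.twD v (h.twD u χ) = h.twD u (h.twD v χ) := by
  rw [← h.twD_mul, ← h.twD_mul, show u * v = (u * v * u⁻¹ * v⁻¹) * (v * u) by group, h.twD_mul,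
    h.twD_C (m := u * v * u⁻¹ * v⁻¹) (by
      push_cast; exact h.C_le_fittingOf (h.commutator_mem_C hu hv))]

/-- In the reducible case `U` has an invariant line in the dual. -/
theorem exists_line (hred : ¬ h.Irred) :
    ∃ z : h.D, z ≠ 1 ∧ Subgroup.closure (⋃ k : K,
        {h.twD ⟨k, K_le h.hP k.2⟩ z}) = ⊤ ∧
      (∀ u : M, (u : G) ∈ U → h.twD u z ∈ Subgroup.zpowers z) := by
  classical
  simp only [Irred, not_forall, not_or] at hred
  obtain ⟨N, hN0, hNP, hNU, hNne0, hNneP⟩ := hred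
  -- an invariant subgroup
  let Inv : Subgroup h.D → Prop := fun S => ∀ u : M, (u : G) ∈ U → ∀ χ ∈ S, h.twD u χ ∈ S
  let D1 : Subgroup h.D := (annih (fittingOf M) (N ⊔ h.C)).comap h.D.subtype
  have hD1inv : Inv D1 := fun u hu χ hχ => tw_mem_annih hχ
    (Coprime.le_normalizer_sup_of_le hNU (le_sup_left.trans h.le_normalizer_C) hu)
  have hD1card : Nat.card D1 * (Nat.card N * Nat.card h.C) = Nat.card (fittingOf M) := by
    have hle : h.P0 ⊔ h.C ≤ N ⊔ h.C := sup_le_sup_right hN0 _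
    have hX : N ⊔ h.C ≤ fittingOf M :=
      sup_le (hNP.trans h.fittingHallOf_le_fittingOf) h.C_le_fittingOf
    have e1 : annih (fittingOf M) (N ⊔ h.C) ≤ h.D := annih_anti hle
    have e2 : Nat.card ↥(N ⊔ h.C) = Nat.card N * Nat.card h.C :=
      Coprime.card_sup_of_coprime (fun c hc => mem_normalizer_of_conj fun a ha => by
        rwa [← hc.2 a (hNP ha), mul_inv_cancel_right])
        ((h.coprime_P_U.coprime_dvd_left (Subgroup.card_dvd_of_le hNP)).coprime_dvd_right
          (Subgroup.card_dvd_of_le inf_le_left))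
    rw [← e2, ← card_annih hX (fun a ha b hb => hle (h.commutator_mem_P0C ha hb))]
    congr 1
    exact Nat.card_congr (Subgroup.subgroupOfEquivOfLe e1).toEquiv
  rw [h.card_fittingOf, ← mul_assoc] at hD1card
  have hD1card' : Nat.card D1 * Nat.card N = Nat.card (fittingHallOf M) :=
    Nat.eq_of_mul_eq_mul_right Nat.card_pos hD1card
  have hD1ne : D1 ≠ ⊥ := fun e => hNneP (Subgroup.eq_of_le_of_card_ge hNP (by
    rw [← hD1card', e, Subgroup.card_bot, one_mul]))
  have hD1top : D1 ≠ ⊤ := fun e => hNne0 (Subgroup.eq_of_le_of_card_ge hN0 (by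
    rw [e, Subgroup.card_top, h.card_D, h.card_P] at hD1card'
    exact (Nat.eq_of_mul_eq_mul_left (pow_pos h.primeW.pos _) hD1card').le)).symm
  -- a minimal one
  haveI : Finite (Subgroup h.D) := inferInstance
  obtain ⟨L, ⟨hLinv, hLne, hLD1⟩, hLmin⟩ := (Set.toFinite
    {S : Subgroup h.D | Inv S ∧ S ≠ ⊥ ∧ S ≤ D1}).exists_minimal ⟨D1, hD1inv, hD1ne, le_rfl⟩
  have hLmin' : ∀ S, Inv S → S ≤ L → S = ⊥ ∨ S = L := fun S hS hSL => by
    by_cases h0 : S = ⊥
    · exact Or.inl h0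
    · exact Or.inr (le_antisymm hSL (hLmin ⟨hS, h0, hSL.trans hLD1⟩ hSL))
  let kM : K → M := fun k => ⟨k, K_le h.hP k.2⟩
  let Lk : K → Subgroup h.D := fun k => L.map (h.twD (kM k))
  have hconjU : ∀ (k : K) {u : M}, (u : G) ∈ U → ((kM k * u * (kM k)⁻¹ : M) : G) ∈ U := by
    intro k u hu
    push_cast
    exact conj_mem_of_le_normalizer (h.hP.U_normal k.2) _ hu
  have hLkinv : ∀ k, Inv (Lk k) := by
    rintro k u hu _ ⟨χ, hχ, rfl⟩
    refine ⟨h.twD (kM k * u * (kM k)⁻¹) χ, hLinv _ (hconjU k hu) χ hχ, ?_⟩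
    rw [← h.twD_mul, ← h.twD_mul, inv_mul_cancel_right]
  have hsupinv : ∀ S T, Inv S → Inv T → Inv (S ⊔ T) := by
    intro S T hS hT u hu χ hχ
    have : S ⊔ T ≤ (S ⊔ T).comap (h.twD u) := sup_le (fun x hx => Subgroup.mem_sup_left (hS u hu x hx))
      fun x hx => Subgroup.mem_sup_right (hT u hu x hx)
    exact this hχ
  have hcardk : ∀ k, Nat.card (Lk k) = Nat.card L := fun k =>
    Subgroup.card_map_of_injective (h.twD_injective _)
  have hmin : ∀ k S, Inv S → Lk k ≤ S ∨ Lk k ⊓ S = ⊥ := by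
    intro k S hS
    let S' : Subgroup h.D := L ⊓ S.comap (h.twD (kM k))
    have hS' : Inv S' := fun u hu χ hχ => by
      refine ⟨hLinv u hu χ hχ.1, ?_⟩
      show h.twD (kM k) (h.twD u χ) ∈ S
      set u' : M := (kM k)⁻¹ * u * kM k with hu'
      have hu'U : (u' : G) ∈ U := by
        push_cast [hu']
        have := conj_mem_of_le_normalizer (h.hP.U_normal (K.inv_mem k.2)) _ hu
        simpa [kM] using this
      rw [← h.twD_mul, show u * kM k = kM k * u' by rw [hu']; group, h.twD_mul]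
      exact hS u' hu'U _ hχ.2
    rcases hLmin' S' hS' inf_le_left with e | e
    · refine Or.inr ((Subgroup.eq_bot_iff_forall _).mpr ?_)
      rintro _ ⟨⟨χ, hχ, rfl⟩, h2⟩
      have : χ ∈ S' := ⟨hχ, h2⟩
      rw [e, Subgroup.mem_bot] at this
      rw [this, map_one]
    · exact Or.inl (by rintro _ ⟨χ, hχ, rfl⟩; exact (e.ge hχ).2)
  have hbot : Inv ⊥ := fun u _ χ hχ => by
    rw [Subgroup.mem_bot] at hχ ⊢; rw [hχ, map_one]
  haveI : Fintype K := Fintype.ofFinite _
  obtain ⟨-, t, -, ht⟩ := exists_card_sup Lk _ hcardk Inv hbot (fun i S hS => hsupinv S _ hS (hLkinv i))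
    hmin Finset.univ
  -- everything is covered
  have htop : Finset.univ.sup Lk = ⊤ := by
    set S := Finset.univ.sup Lk with hS
    have hSU : ∀ m : M, (m : G) ∈ U ⊔ K → S ≤ S.comap (h.twD m) := by
      intro m hm
      have hgenU : ∀ m : M, (m : G) ∈ U → S ≤ S.comap (h.twD m) := fun m hm =>
        Finset.sup_le fun k _ χ hχ =>
          (Finset.le_sup (f := Lk) (Finset.mem_univ k)) (hLkinv k m hm χ hχ)
      have hgenK : ∀ m : M, (m : G) ∈ K → S ≤ S.comap (h.twD m) := fun m hm =>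
        Finset.sup_le fun k _ => by
          rintro _ ⟨χ, hχ, rfl⟩
          refine (Finset.le_sup (f := Lk) (Finset.mem_univ (k * ⟨m, hm⟩))) ⟨χ, hχ, ?_⟩
          rw [← h.twD_mul]; rfl
      rw [← SetLike.mem_coe, Subgroup.coe_mul_of_right_le_normalizer_left _ _ h.hP.U_normal,
        Set.mem_mul] at hm
      obtain ⟨a, ha, b, hb, e⟩ := hm
      have e' : m = ⟨a, U_le h.hP ha⟩ * ⟨b, K_le h.hP hb⟩ := Subtype.ext e.symm
      intro χ hχ
      show h.twD m χ ∈ S
      rw [e', h.twD_mul]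
      exact hgenK ⟨b, K_le h.hP hb⟩ hb (hgenU ⟨a, U_le h.hP ha⟩ ha hχ)
    refine h.eq_top_of_invariant (fun e => hLne ?_) fun m hm χ hχ hm' => hSU m hm hχ
    refine le_bot_iff.mp (fun χ hχ => ?_)
    rw [← e]
    exact Finset.le_sup (f := Lk) (Finset.mem_univ (1 : K)) ⟨χ, hχ,
      by rw [show kM 1 = 1 from rfl, h.twD_one]⟩
  rw [htop, Subgroup.card_top, h.card_D] at ht
  obtain ⟨d, -, hd⟩ := (Nat.dvd_prime_pow h.primeW).mp
    (h.card_D ▸ L.card_subgroup_dvd_card)
  rw [hd, ← pow_mul] at ht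
  have hdt := Nat.pow_right_injective h.primeW.two_le ht
  rcases (Nat.dvd_prime h.primeK).mp (Dvd.intro _ hdt.symm : d ∣ Nat.card K) with rfl | rfl
  swap
  · exact absurd (le_antisymm le_top ((Subgroup.eq_top_of_card_eq L (hd.trans h.card_D.symm)).ge.trans
      hLD1)) hD1top
  rw [pow_one] at hd
  obtain ⟨⟨z, hzL⟩, hz1⟩ := Subgroup.ne_bot_iff_exists_ne_one.mp hLne
  replace hz1 : z ≠ 1 := fun e => hz1 (Subtype.ext e)
  have hzp : Subgroup.zpowers z = L := by
    refine Subgroup.eq_of_le_of_card_ge (Subgroup.zpowers_le.mpr hzL) ?_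
    rw [hd, Nat.card_zpowers]
    rcases (Nat.dvd_prime h.primeW).mp (hd ▸ Subgroup.orderOf_dvd_natCard L hzL) with e | e
    · exact absurd (orderOf_eq_one_iff.mp e) hz1
    · exact e.ge
  refine ⟨z, hz1, eq_top_iff.mpr (htop.ge.trans (Finset.sup_le fun k _ => ?_)),
    fun u hu => hzp.ge (hLinv u hu z hzL)⟩
  rintro _ ⟨χ, hχ, rfl⟩
  rw [← hzp] at hχ
  obtain ⟨n, rfl⟩ := hχ
  rw [map_zpow]
  refine Subgroup.zpow_mem _ (Subgroup.subset_closure ?_) n
  rw [Set.mem_iUnion]
  exact ⟨k, Set.mem_singleton _⟩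

theorem reducible_bound (hred : ¬ h.Irred) :
    (Nat.card W - 1) ^ Nat.card K ≤ minCount h ∧
      2 ^ (Nat.card K - 1) * h.u' ≤ (Nat.card W - 1) ^ (Nat.card K - 1) ∧ 7 ≤ Nat.card W := by
  classical
  obtain ⟨z, hz1, hgen, hline⟩ := h.exists_line hred
  set r := Nat.card W with hr
  haveI : Fact r.Prime := ⟨h.primeW⟩
  haveI : Fintype K := Fintype.ofFinite _
  let kM : K → M := fun k => ⟨k, K_le h.hP k.2⟩
  set zk : K → h.D := fun k => h.twD (kM k) z with hzk
  have hexp : ∀ χ : h.D, χ ^ r = 1 := fun χ => Subtype.ext (h.pow_eq_one_of_mem_D χ.2)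
  have hord : ∀ k, orderOf (zk k) = r := fun k => orderOf_eq_prime (hexp _)
    fun e => hz1 (h.twD_injective (kM k) (e.trans (map_one _).symm))
  have hmod : ∀ k, ∀ a b : ℕ, zk k ^ a = zk k ^ b ↔ ((a : ZMod r) = b) := fun k a b => by
    rw [pow_eq_pow_iff_modEq, hord, ZMod.natCast_eq_natCast_iff]
  -- coordinates
  let Ψ : (K → Multiplicative (ZMod r)) →* h.D :=
    { toFun := fun e => ∏ k, zk k ^ (Multiplicative.toAdd (e k)).val
      map_one' := Finset.prod_eq_one fun k _ => by simp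
      map_mul' := fun e f => by
        rw [← Finset.prod_mul_distrib]
        refine Finset.prod_congr rfl fun k _ => ?_
        rw [← pow_add, hmod]
        simp }
  have hsurj : Function.Surjective Ψ := by
    rw [← MonoidHom.range_eq_top]
    refine top_le_iff.mp (hgen.ge.trans ((Subgroup.closure_le _).mpr fun χ hχ => ?_))
    obtain ⟨k, rfl⟩ := Set.mem_iUnion.mp hχ
    refine ⟨Pi.mulSingle k (Multiplicative.ofAdd 1), ?_⟩
    show ∏ i, zk i ^ (Multiplicative.toAdd ((Pi.mulSingle k (Multiplicative.ofAdd (1 : ZMod r)) :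
      K → Multiplicative (ZMod r)) i)).val = zk k
    rw [Finset.prod_eq_single_of_mem k (Finset.mem_univ k) fun i _ hi => by
      rw [Pi.mulSingle_eq_of_ne hi]; simp, Pi.mulSingle_eq_same]
    conv_rhs => rw [← pow_one (zk k)]
    rw [hmod]
    simp
  have hbij : Function.Bijective Ψ := (Nat.bijective_iff_surjective_and_card _).mpr ⟨hsurj, by
    rw [Nat.card_fun, h.card_D, Nat.card_congr Multiplicative.toAdd, Nat.card_zmod]⟩
  -- the scalars
  obtain ⟨φ, hφ⟩ : ∃ φ : U → ℕ, ∀ v : U, h.twD ⟨v, U_le h.hP v.2⟩ z = z ^ φ v := by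
    refine ⟨fun v => ((isOfFinOrder_of_finite z).mem_powers_iff_mem_zpowers.mpr
      (hline ⟨v, U_le h.hP v.2⟩ v.2)).choose, fun v => ?_⟩
    exact (((isOfFinOrder_of_finite z).mem_powers_iff_mem_zpowers.mpr
      (hline ⟨v, U_le h.hP v.2⟩ v.2)).choose_spec).symm
  let cj : K → U → U := fun k v => ⟨(k : G) * v * (k : G)⁻¹,
    conj_mem_of_le_normalizer (h.hP.U_normal k.2) _ v.2⟩
  have hact : ∀ (v : U) (k : K), h.twD ⟨v, U_le h.hP v.2⟩ (zk k) = zk k ^ φ (cj k v) := by
    intro v k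
    rw [hzk]
    dsimp only
    rw [← map_pow, ← hφ, ← h.twD_mul, ← h.twD_mul]
    refine congrArg (fun m => h.twD m z) (Subtype.ext ?_)
    simp [kM, cj, mul_assoc]
  -- many characters
  have hmin : ∀ e : K → Multiplicative (ZMod r), (∀ k, e k ≠ 1) → IsMin h (Ψ e).1 := by
    intro e he u hu hst
    refine h.mem_C_of_fix_D hu ?_
    have hfix : h.twD u (Ψ e) = Ψ e := Subtype.ext hst
    have hfixk : ∀ k, h.twD u (zk k) = zk k := by
      intro k
      have h1 : Ψ (fun i => Multiplicative.ofAdd ((φ (cj i ⟨u, hu⟩) : ZMod r) *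
          Multiplicative.toAdd (e i))) = h.twD u (Ψ e) := by
        show ∏ i, zk i ^ _ = h.twD u (∏ i, zk i ^ _)
        rw [map_prod]
        refine Finset.prod_congr rfl fun i _ => ?_
        rw [map_pow]
        erw [hact ⟨u, hu⟩ i]
        rw [← pow_mul, hmod]
        simp
      rw [hfix] at h1
      have h2 : (φ (cj k ⟨u, hu⟩) : ZMod r) * Multiplicative.toAdd (e k) =
          Multiplicative.toAdd (e k) := congrArg Multiplicative.toAdd (congrFun (hbij.1 h1) k)
      have h3 : (φ (cj k ⟨u, hu⟩) : ZMod r) = ((1 : ℕ) : ZMod r) := by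
        rw [Nat.cast_one]
        exact mul_right_cancel₀ (fun h0 => he k (Multiplicative.toAdd.injective h0))
          (h2.trans (one_mul _).symm)
      rw [show u = (⟨((⟨u, hu⟩ : U) : G), U_le h.hP hu⟩ : M) from rfl, hact, (hmod k _ _).mpr h3,
        pow_one]
    intro χ hχ
    obtain ⟨f, hf⟩ := hsurj ⟨χ, hχ⟩
    have : h.twD u (Ψ f) = Ψ f := by
      show h.twD u (∏ i, zk i ^ _) = ∏ i, zk i ^ _
      rw [map_prod]
      exact Finset.prod_congr rfl fun i _ => by rw [map_pow, hfixk]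
    rw [hf] at this
    exact congrArg Subtype.val this
  have hne1 : Nat.card {x : Multiplicative (ZMod r) // x ≠ 1} = r - 1 := by
    rw [Nat.card_eq_fintype_card, Fintype.card_subtype_compl, Fintype.card_subtype_eq,
      Fintype.card_multiplicative, ZMod.card]
  have hM : (r - 1) ^ Nat.card K ≤ minCount h := by
    rw [← hne1, ← Nat.card_fun]
    haveI : Finite {χ : Lin (fittingOf M) // IsMin h χ} := Subtype.finite
    refine Nat.card_le_card_of_injective
      (fun e => ⟨(Ψ fun k => (e k).1).1, hmin _ fun k => (e k).2⟩) fun e f hef => ?_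
    have := hbij.1 (Subtype.ext (Subtype.mk.inj hef))
    exact funext fun k => Subtype.ext (congrFun this k)
  -- the order of `U/C`
  have hz' : ∀ a b : ℕ, z ^ a = z ^ b ↔ ((a : ZMod r) = b) := fun a b => by
    rw [pow_eq_pow_iff_modEq, orderOf_eq_prime (hexp z) hz1, ZMod.natCast_eq_natCast_iff]
  let Φ : U →* ZMod r :=
    { toFun := fun v => (φ v : ZMod r)
      map_one' := by
        rw [← Nat.cast_one, ← hz', ← hφ, pow_one]
        exact h.twD_one z
      map_mul' := fun v w => by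
        rw [← Nat.cast_mul, ← hz', ← hφ, pow_mul, ← hφ, ← map_pow, ← hφ]
        rw [show (⟨((v * w : U) : G), U_le h.hP (v * w).2⟩ : M) =
          ⟨v, U_le h.hP v.2⟩ * ⟨w, U_le h.hP w.2⟩ from rfl, h.twD_mul, h.twD_comm v.2 w.2] }
  let Φu : U →* (ZMod r)ˣ := Φ.toHomUnits
  have hcjmul : ∀ k v w, cj k (v * w) = cj k v * cj k w := fun k v w =>
    Subtype.ext (by simp [cj, mul_assoc])
  have hcj1 : ∀ k, cj k 1 = 1 := fun k => Subtype.ext (by simp [cj])
  let ψ : U →* (ZMod r)ˣ :=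
    { toFun := fun v => ∏ k, Φu (cj k v)
      map_one' := Finset.prod_eq_one fun k _ => by rw [hcj1, map_one]
      map_mul' := fun v w => by
        rw [← Finset.prod_mul_distrib]
        exact Finset.prod_congr rfl fun k _ => by rw [hcjmul, map_mul] }
  obtain ⟨⟨k₀, hk₀⟩, hk₀1⟩ := Subgroup.ne_bot_iff_exists_ne_one.mp h.hP.W₁_ne
  replace hk₀1 : k₀ ≠ 1 := fun e => hk₀1 (Subtype.ext e)
  have hψinv : ∀ v, ψ (cj ⟨k₀, hk₀⟩ v) = ψ v := fun v => by
    refine Fintype.prod_equiv (Equiv.mulRight (⟨k₀, hk₀⟩ : K)) _ _ fun k => ?_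
    congr 1
    exact Subtype.ext (by simp [cj, mul_assoc])
  have hψ1 : ∀ v, ψ v = 1 := fun v => by
    obtain ⟨y, hy, e⟩ := exists_eq_mul_conj_inv (H := U) (h.hP.U_normal hk₀)
      (fun w hw => fpf_U h.hP hk₀ hk₀1 hw) v.2
    rw [show v = (⟨y, hy⟩ : U) * (cj ⟨k₀, hk₀⟩ ⟨y, hy⟩)⁻¹ from Subtype.ext e, map_mul, map_inv,
      hψinv, mul_inv_cancel]
  -- elements of odd order
  let O : Subgroup (ZMod r)ˣ := Φu.range
  have hOodd : Odd (Nat.card O) := h.odd_G.of_dvd_nat
    ((Subgroup.card_range_dvd Φu).trans U.card_subgroup_dvd_card)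
  have hOdvd : Nat.card O ∣ r - 1 := by
    have := O.card_subgroup_dvd_card
    rwa [Nat.card_eq_fintype_card (α := (ZMod r)ˣ), ZMod.card_units] at this
  have hr2 : 2 ∣ r - 1 := by
    obtain ⟨b, hb⟩ := h.odd_G.of_dvd_nat W.card_subgroup_dvd_card
    exact ⟨b, by omega⟩
  have hO : Nat.card O ∣ (r - 1) / 2 := by
    obtain ⟨c, hc⟩ := hr2
    rw [hc, Nat.mul_div_cancel_left _ two_pos]
    exact (Nat.Coprime.dvd_of_dvd_mul_left (Nat.coprime_two_right.mpr hOodd) (hc ▸ hOdvd))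
  have hr12 : 1 ≤ (r - 1) / 2 := by
    have := h.three_le_W
    rw [← hr] at this
    omega
  -- the embedding
  let pts := {k : K // k ≠ ⟨1, K.one_mem⟩}
  let Emb : U →* (pts → O) :=
    { toFun := fun v k => ⟨Φu (cj k.1 v), ⟨_, rfl⟩⟩
      map_one' := funext fun k => Subtype.ext (by simp [hcj1])
      map_mul' := fun v w => funext fun k => Subtype.ext (by simp [hcjmul]) }
  have hkerle : Emb.ker ≤ h.C.subgroupOf U := by
    intro v hv
    rw [Subgroup.mem_subgroupOf]
    refine h.mem_C_of_fix_D (u := ⟨v, U_le h.hP v.2⟩) v.2 fun χ hχ => ?_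
    have hall : ∀ k : K, Φu (cj k v) = 1 := by
      have hothers : ∀ k : K, k ≠ ⟨1, K.one_mem⟩ → Φu (cj k v) = 1 := fun k hk =>
        congrArg Subtype.val (congrFun hv ⟨k, hk⟩)
      intro k
      by_cases hk : k = ⟨1, K.one_mem⟩
      · have := hψ1 v
        rw [show ψ v = ∏ k, Φu (cj k v) from rfl,
          Finset.prod_eq_single_of_mem k (Finset.mem_univ k) fun i _ hi => hothers i (hk ▸ hi)] at this
        exact this
      · exact hothers k hk
    obtain ⟨f, hf⟩ := hsurj ⟨χ, hχ⟩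
    have : h.twD ⟨v, U_le h.hP v.2⟩ (Ψ f) = Ψ f := by
      show h.twD _ (∏ i, zk i ^ _) = ∏ i, zk i ^ _
      rw [map_prod]
      refine Finset.prod_congr rfl fun i _ => ?_
      have h3 : (φ (cj i v) : ZMod r) = ((1 : ℕ) : ZMod r) := by
        rw [Nat.cast_one]; exact congrArg Units.val (hall i)
      rw [map_pow, hact, (hmod i _ _).mpr h3, pow_one]
    rw [hf] at this
    exact congrArg Subtype.val this
  have hu' : h.u' ≤ Nat.card O ^ (Nat.card K - 1) := by
    have hcpts : Nat.card pts = Nat.card K - 1 := by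
      rw [Nat.card_eq_fintype_card, Fintype.card_subtype_compl, Fintype.card_subtype_eq,
        Nat.card_eq_fintype_card]
    calc h.u' = (h.C.subgroupOf U).index := rfl
      _ ≤ Emb.ker.index := Nat.le_of_dvd (Nat.pos_of_ne_zero Subgroup.index_ne_zero_of_finite)
          (Subgroup.index_dvd_of_le hkerle)
      _ = Nat.card Emb.range := Subgroup.index_ker Emb
      _ ≤ Nat.card (pts → O) := Nat.card_le_card_of_injective _ Subtype.val_injective
      _ = _ := by rw [Nat.card_fun, hcpts]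
  refine ⟨hM, ?_, ?_⟩
  · calc 2 ^ (Nat.card K - 1) * h.u' ≤ 2 ^ (Nat.card K - 1) * ((r - 1) / 2) ^ (Nat.card K - 1) :=
          Nat.mul_le_mul_left _ (hu'.trans (Nat.pow_le_pow_left (Nat.le_of_dvd hr12 hO) _))
      _ = _ := by rw [← mul_pow, Nat.mul_div_cancel' hr2]
  · by_contra hlt
    have h35 : r = 3 ∨ r = 5 := by
      have key : ∀ n : ℕ, n.Prime → 3 ≤ n → n < 7 → n = 3 ∨ n = 5 := by
        intro n hn h3 h7
        interval_cases n <;> first | omega | norm_num at hn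
      exact key r h.primeW h.three_le_W (not_le.mp hlt)
    have hO1 : Nat.card O = 1 := by
      have hle := Nat.le_of_dvd hr12 hO
      obtain ⟨b, hb⟩ := hOodd
      omega
    rw [hO1, one_pow] at hu'
    have := h.u'_ge
    have := h.primeK.two_le
    omega

end Side

end CfsgLib.Peterfalvi.Pair
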