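import Cfsg.Agent.Lib.Peterfalvi.Pair.SideStab
import Cfsg.Agent.Lib.Peterfalvi.Pair.LinInduce

/-!
The exceptional characters of a maximal subgroup of type II, III or IV.
-/

set_option autoImplicit false
set_option linter.style.haveILetI false
set_option linter.unusedSectionVars false

namespace CfsgLib.Peterfalvi.Pair

open Cfsg CfsgLib.Char
open CfsgLib.BG.FixedLine (conj_mem_of_le_normalizer)
open scoped ComplexConjugate CfsgLib.Char

universe u

variable {G : Type u} [Group G] [Fintype G] {M K U W : Subgroup G} [Fintype M]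
  {h : Side M K U W} {ω : Lin W → Lin K → Lin (fittingOf M ⊔ K : Subgroup G)}

namespace IsOmega

variable (hω : IsOmega h ω)
include hω

/-- The exceptional characters. -/
noncomputable abbrev mu (_ : IsOmega h ω) (a : Lin W) (b : Lin K) : M → ℂ := toM M (cl (ω a b))

theorem relIndex_L : (fittingOf M ⊔ K).relIndex M = h.u' := by
  have h1 : (fittingOf M ⊔ K).relIndex M * Nat.card ↥(fittingOf M ⊔ K) = Nat.card M := by
    rw [mul_comm, ← Nat.card_congr (Subgroup.subgroupOfEquivOfLe h.L_le).toEquiv]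
    exact Subgroup.card_mul_index _
  have h2 : Nat.card ↥(fittingOf M ⊔ K) = Nat.card (fittingOf M) * Nat.card K :=
    Coprime.card_sup_of_coprime ((K_le h.hP).trans (le_normalizer_fittingOf M))
      h.card_fittingOf_coprime
  have h3 : Nat.card M = Nat.card ↥⁅M, M⁆ * Nat.card K := by
    have := Coprime.card_sup_of_coprime ((K_le h.hP).trans (le_normalizer_derived M))
      (coprime_derived_K h.hP)
    rwa [sup_eq_of_isComplIn h.hP.W₁_compl] at this
  have h4 : Nat.card ↥⁅M, M⁆ = Nat.card (fittingHallOf M) * Nat.card U := by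
    rw [← derived_eq_sup h.hP]
    exact Coprime.card_sup_of_coprime h.U_le_normalizer_P h.coprime_P_U
  refine Nat.eq_of_mul_eq_mul_right
    (show 0 < Nat.card ↥(fittingOf M ⊔ K) from Nat.card_pos) ?_
  rw [h1, h3, h4, h2, h.card_fittingOf, ← h.card_C_mul]
  ring

theorem relIndex_X : (fittingOf M).relIndex M = h.u' * Nat.card K := by
  rw [← Subgroup.relIndex_mul_relIndex (fittingOf M) (fittingOf M ⊔ K) M le_sup_left h.L_le,
    relIndex_L hω, mul_comm]
  congr 1
  have h2 : Nat.card ↥(fittingOf M ⊔ K) = Nat.card (fittingOf M) * Nat.card K :=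
    Coprime.card_sup_of_coprime ((K_le h.hP).trans (le_normalizer_fittingOf M))
      h.card_fittingOf_coprime
  have h5 := Subgroup.card_mul_index ((fittingOf M).subgroupOf (fittingOf M ⊔ K))
  rw [Nat.card_congr (Subgroup.subgroupOfEquivOfLe le_sup_left).toEquiv, h2] at h5
  exact Nat.eq_of_mul_eq_mul_left Nat.card_pos h5

theorem card_linStab_lam {a : Lin W} (ha : a ≠ 1) :
    Nat.card (linStab (hω.lam a)) = Nat.card (fittingOf M) * Nat.card K := by
  rw [show linStab (hω.lam a) = (fittingOf M ⊔ K).subgroupOf M from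
      Subgroup.ext fun m => (hω.stab_lam ha m).trans Subgroup.mem_subgroupOf.symm,
    Nat.card_congr (Subgroup.subgroupOfEquivOfLe h.L_le).toEquiv,
    Coprime.card_sup_of_coprime ((K_le h.hP).trans (le_normalizer_fittingOf M))
      h.card_fittingOf_coprime]

theorem mu_spec [Fintype ↥((fittingOf M).subgroupOf M)] {a : Lin W} (ha : a ≠ 1) (b : Lin K) :
    IsIrrCharacter M (hω.mu a b) ∧
      classInner (fun n : (fittingOf M).subgroupOf M => hω.mu a b n) (thM M (hω.lam a)) = 1 ∧
      ∀ b' : Lin K, hω.mu a b' = hω.mu a b → b' = b := by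
  classical
  haveI := normal_fittingM M
  set T := (fittingOf M ⊔ K).subgroupOf M
  haveI : Fintype T := Fintype.ofFinite _
  have hNT : ((fittingOf M).subgroupOf M) ≤ T := fun m hm => Subgroup.mem_subgroupOf.mpr
    (Subgroup.mem_sup_left (Subgroup.mem_subgroupOf.mp hm))
  have hT : ∀ g : M, g ∈ T ↔ conjBy ((fittingOf M).subgroupOf M) (thM M (hω.lam a)) g = thM M (hω.lam a) := fun g => by
    rw [← mem_inertia, inertia_thM, hω.stab_lam ha, Subgroup.mem_subgroupOf]
  let ψ : Lin K → T → ℂ := fun b t => cl (ω a b) ⟨((t : M) : G), Subgroup.mem_subgroupOf.mp t.2⟩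
  have hψ : ∀ b, IsIrrCharacter T (ψ b) := fun b =>
    isIrrCharacter_monoidHom ((ω a b).comp (Subgroup.subgroupOfEquivOfLe h.L_le).toMonoidHom)
  have hres : ∀ b, resTo ((fittingOf M).subgroupOf M) T hNT (ψ b) = thM M (hω.lam a) := fun b => funext fun n =>
    congrArg Units.val (hω.lam_apply a b ⟨((n : M) : G), Subgroup.mem_subgroupOf.mp n.2⟩).symm
  have hcon : ∀ b, classInner (resTo ((fittingOf M).subgroupOf M) T hNT (ψ b)) (thM M (hω.lam a)) = 1 := fun b => by
    rw [hres, classInner_irr_self (isIrr_thM _)]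
  obtain ⟨h1, h2, h3⟩ := clifford_correspondence ((fittingOf M).subgroupOf M) T (isIrr_thM (hω.lam a)) hT hNT (hψ b)
    (by rw [hcon]; exact one_ne_zero)
  refine ⟨h1, h2.trans (hcon b), fun b' e => ?_⟩
  have e' := h3 (ψ b') (hψ b') (by rw [hcon]; exact one_ne_zero) e
  refine MonoidHom.ext fun x => Units.ext ?_
  have hx : (x : G) ∈ fittingOf M ⊔ K := Subgroup.mem_sup_right x.2
  have := congrFun e' ⟨⟨x, h.L_le hx⟩, Subgroup.mem_subgroupOf.mpr hx⟩
  simpa [ψ, cl, hω.value a _ x 1 ⟨x, hx⟩ (by simp)] using this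

theorem isIrr_mu {a : Lin W} (ha : a ≠ 1) (b : Lin K) : IsIrrCharacter M (hω.mu a b) :=
  haveI : Fintype ((fittingOf M).subgroupOf M) := Fintype.ofFinite _
  (hω.mu_spec ha b).1

/-- The inner product of an induced character of `F(M)` with an exceptional character. -/
theorem classInner_toM_mu (χ : Lin (fittingOf M)) {a : Lin W} (ha : a ≠ 1) (b : Lin K)
    [Decidable (∃ m, tw (hω.lam a) m = χ)] :
    classInner (toM M (cl χ)) (hω.mu a b) = if ∃ m, tw (hω.lam a) m = χ then 1 else 0 := by
  classical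
  haveI := normal_fittingM M
  set N := (fittingOf M).subgroupOf M
  haveI : Fintype N := Fintype.ofFinite _
  obtain ⟨hirr, hone, -⟩ := hω.mu_spec ha b
  have hcf := isClassFunction_of_isCharacter (isCharacter_of_isIrr hirr)
  rw [show toM M (cl χ) = indFun N (thM M χ) from rfl, frobenius_reciprocity N _ hcf]
  split_ifs with hc
  · obtain ⟨m, rfl⟩ := hc
    rw [← conjBy_thM, ← conjBy_restrict N hcf m, classInner_conjBy, ← classInner_conj_symm, hone,
      map_one]
  · by_contra hne
    refine hc ?_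
    have hne' : classInner (fun n : N => hω.mu a b n) (thM M χ) ≠ 0 := fun e => hne (by
      rw [← classInner_conj_symm, e, map_zero])
    obtain ⟨m, hm⟩ := exists_conjBy_of_constituents N hirr (isIrr_thM _) (isIrr_thM χ)
      (by rw [hone]; exact one_ne_zero) hne'
    rw [conjBy_thM] at hm
    exact ⟨m, thM_inj hm⟩

theorem classInner_mu_mu {a a' : Lin W} (ha : a ≠ 1) (ha' : a' ≠ 1) (b b' : Lin K)
    [Decidable (a = a' ∧ b = b')] :
    classInner (hω.mu a b) (hω.mu a' b') = if a = a' ∧ b = b' then 1 else 0 := by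
  classical
  split_ifs with e
  · obtain ⟨rfl, rfl⟩ := e
    exact classInner_irr_self (hω.isIrr_mu ha b)
  · refine classInner_irr_ne (hω.isIrr_mu ha b) (hω.isIrr_mu ha' b') fun hμ => e ?_
    haveI := normal_fittingM M
    haveI : Fintype ((fittingOf M).subgroupOf M) := Fintype.ofFinite _
    obtain ⟨m, hm⟩ := exists_conjBy_of_constituents ((fittingOf M).subgroupOf M)
      (hω.isIrr_mu ha b) (isIrr_thM (hω.lam a)) (isIrr_thM (hω.lam a'))
      (by rw [(hω.mu_spec ha b).2.1]; exact one_ne_zero)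
      (by rw [hμ, (hω.mu_spec ha' b').2.1]; exact one_ne_zero)
    rw [conjBy_thM] at hm
    obtain ⟨rfl, -⟩ := hω.lam_conj_inj ha (thM_inj hm)
    exact ⟨rfl, (hω.mu_spec ha b').2.2 b hμ⟩

theorem mu_one {a : Lin W} (b : Lin K) : hω.mu a b 1 = (h.u' : ℂ) := by
  rw [show hω.mu a b = toM M (cl (ω a b)) from rfl, toM_one_apply, cl_one, mul_one, relIndex_L hω]

end IsOmega

end CfsgLib.Peterfalvi.Pair
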