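import Cfsg.Agent.Lib.Peterfalvi.Pair.SideLambda
import Cfsg.Agent.Lib.Peterfalvi.Pair.LinConj

/-!
Stabilisers of the linear characters of `F(M)`.
-/

set_option autoImplicit false
set_option linter.style.haveILetI false
set_option linter.unusedSectionVars false

namespace CfsgLib.Peterfalvi.Pair

open Cfsg CfsgLib.Char
open CfsgLib.BG.FixedLine (conj_mem_of_le_normalizer mem_normalizer_of_conj)

universe u

variable {G : Type u} [Group G]

/-- The properties of the exceptional linear characters of `F(M) K`. -/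
structure IsOmega [Finite G] {M K U W : Subgroup G} (h : Side M K U W)
    (ω : Lin W → Lin K → Lin (fittingOf M ⊔ K : Subgroup G)) : Prop where
  value : ∀ a b (x : K) (y : W) (t : ↥(fittingOf M ⊔ K)), (t : G) = x * y → ω a b t = b x * a y
  onN : ∀ a b (t : ↥(fittingOf M ⊔ K)), (t : G) ∈ h.N → ω a b t = 1
  indep : ∀ a b b' (t : ↥(fittingOf M ⊔ K)), (t : G) ∈ fittingOf M → ω a b t = ω a b' t
  inv : ∀ a b, ω a⁻¹ b⁻¹ = (ω a b)⁻¹

theorem exists_isOmega [Fintype G] {M K U W : Subgroup G} (h : Side M K U W) :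
    ∃ ω, IsOmega h ω := by
  obtain ⟨ω, h1, h2, h3, h4⟩ := h.exists_omega
  refine ⟨ω, fun a b x y t ht => ?_, h2, h3, h4⟩
  exact (congrArg (ω a b) (Subtype.ext ht)).trans (h1 a b x y)

variable [Finite G] {M K U W : Subgroup G}

theorem Side.L_le (h : Side M K U W) : fittingOf M ⊔ K ≤ M := sup_le h.fittingOf_le (K_le h.hP)

theorem Side.card_fittingOf_coprime (h : Side M K U W) :
    (Nat.card (fittingOf M)).Coprime (Nat.card K) :=
  (coprime_derived_K h.hP).coprime_dvd_left (Subgroup.card_dvd_of_le h.fittingOf_le_derived)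

theorem Side.fpf_quot (h : Side M K U W) {k u : G} (hk : k ∈ K) (hk1 : k ≠ 1) (hu : u ∈ U)
    (hc : u * (k * u * k⁻¹)⁻¹ ∈ h.C) : u ∈ h.C := by
  obtain ⟨c, hc', he⟩ := exists_eq_mul_conj_inv ((le_sup_right.trans h.le_normalizer_C) hk)
    (fun y hy => h.fpf_C hk hk1 hy) hc
  have h1 : k * (c⁻¹ * u) = c⁻¹ * u * k := by
    calc k * (c⁻¹ * u) = c⁻¹ * (c * (k * c * k⁻¹)⁻¹) * (k * u) := by group
      _ = c⁻¹ * (u * (k * u * k⁻¹)⁻¹) * (k * u) := by rw [he]
      _ = _ := by group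
  have h2 := fpf_U h.hP hk hk1 (U.mul_mem (U.inv_mem hc'.1) hu) h1
  rwa [inv_mul_eq_one.mp h2] at hc'

/-- Every element of `M` is the product of one of `K`, one of `U` and one of `F(M)`. -/
theorem Side.exists_decomp (h : Side M K U W) (m : M) :
    ∃ x u z : M, (x : G) ∈ K ∧ (u : G) ∈ U ∧ (z : G) ∈ fittingOf M ∧ m = z * u * x := by
  obtain ⟨d, hd, x, hx, he⟩ := h.hP.W₁_compl.2.2.2 m m.2
  obtain ⟨z, hz, u, hu, he'⟩ := h.hP.U_compl.2.2.2 d hd
  refine ⟨⟨x, K_le h.hP hx⟩, ⟨u, U_le h.hP hu⟩, ⟨z, fittingHallOf_le M hz⟩, hx, hu,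
    h.fittingHallOf_le_fittingOf hz, Subtype.ext ?_⟩
  simp only [Subgroup.coe_mul]
  rw [he, he']

theorem Side.inclusion_eq (h : Side M K U W) {z u x : G} (hz : z ∈ fittingOf M) (hu : u ∈ U)
    (hx : x ∈ K) (hm : z * u * x ∈ fittingOf M ⊔ K) : u ∈ h.C := by
  have h1 : u ∈ fittingOf M ⊔ K := by
    have := mul_mem (mul_mem (inv_mem (Subgroup.mem_sup_left (T := K) hz)) hm)
      (inv_mem (Subgroup.mem_sup_right (S := fittingOf M) hx))
    simpa [mul_assoc] using this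
  rw [← SetLike.mem_coe, Subgroup.coe_mul_of_right_le_normalizer_left _ _
    ((K_le h.hP).trans (le_normalizer_fittingOf M)), Set.mem_mul] at h1
  obtain ⟨e, he, k, hk, hek⟩ := h1
  have hk1 : k = 1 := Subgroup.mem_bot.mp
    ((Coprime.inf_eq_bot_of_coprime_card (coprime_derived_K h.hP)).le
      ⟨((⁅M, M⁆ : Subgroup G).mul_mem_cancel_left (h.fittingOf_le_derived he)).mp
        (hek ▸ U_le_derived h.hP hu), hk⟩)
  rw [hk1, mul_one] at hek
  rw [← h.U_inf_fittingOf]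
  exact ⟨hu, hek ▸ he⟩

namespace IsOmega

variable {h : Side M K U W} {ω : Lin W → Lin K → Lin (fittingOf M ⊔ K : Subgroup G)}
  (hω : IsOmega h ω)
include hω

/-- The restriction to `F(M)`. -/
abbrev lam (_ : IsOmega h ω) (a : Lin W) : Lin (fittingOf M) :=
  (ω a 1).comp (Subgroup.inclusion le_sup_left)

theorem lam_apply (a : Lin W) (b : Lin K) (x : fittingOf M) :
    hω.lam a x = ω a b ⟨x, Subgroup.mem_sup_left x.2⟩ :=
  hω.indep a 1 b ⟨x, Subgroup.mem_sup_left x.2⟩ x.2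

theorem lam_W (a : Lin W) (x : fittingOf M) (y : W) (e : (x : G) = y) : hω.lam a x = a y := by
  rw [hω.lam_apply a 1, hω.value a 1 1 y _ (by simpa using e), MonoidHom.one_apply, one_mul]

theorem lam_N (a : Lin W) (x : fittingOf M) (hx : (x : G) ∈ h.N) : hω.lam a x = 1 := by
  rw [hω.lam_apply a 1]; exact hω.onN a 1 _ hx

theorem eq_lam {χ : Lin (fittingOf M)} (hN : ∀ x : fittingOf M, (x : G) ∈ h.N → χ x = 1)
    (a : Lin W) (hW : ∀ (x : fittingOf M) (y : W), (x : G) = y → χ x = a y) : χ = hω.lam a := by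
  refine MonoidHom.ext fun x => ?_
  have hx : (x : G) ∈ h.N ⊔ W := h.N_sup_W.ge x.2
  have hn : W ≤ Subgroup.normalizer (h.N : Set G) :=
    ((W_le h.hP).trans h.fittingHallOf_le_fittingOf).trans (le_sup_left.trans h.le_normalizer_N)
  rw [← SetLike.mem_coe, Subgroup.coe_mul_of_right_le_normalizer_left _ _ hn, Set.mem_mul] at hx
  obtain ⟨n, hn', y, hy, he⟩ := hx
  have e : x = ⟨n, h.N_le hn'⟩ * ⟨y, h.fittingHallOf_le_fittingOf (W_le h.hP hy)⟩ :=
    Subtype.ext he.symm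
  rw [e, map_mul, map_mul, hN ⟨n, _⟩ hn', hW ⟨y, _⟩ ⟨y, hy⟩ rfl, hω.lam_N a ⟨n, _⟩ hn',
    hω.lam_W a ⟨y, _⟩ ⟨y, hy⟩ rfl]

theorem lam_one : hω.lam 1 = 1 :=
  (hω.eq_lam (fun _ _ => rfl) 1 fun _ _ _ => rfl).symm

theorem lam_inv (a : Lin W) : hω.lam a⁻¹ = (hω.lam a)⁻¹ := by
  refine (hω.eq_lam (fun x hx => ?_) a⁻¹ fun x y e => ?_).symm
  · rw [MonoidHom.inv_apply, hω.lam_N a x hx, inv_one]
  · rw [MonoidHom.inv_apply, hω.lam_W a x y e, MonoidHom.inv_apply]

theorem lam_inj {a a' : Lin W} (e : hω.lam a = hω.lam a') : a = a' := MonoidHom.ext fun y => by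
  have := congrArg (fun f : Lin (fittingOf M) =>
    f ⟨y, h.fittingHallOf_le_fittingOf (W_le h.hP y.2)⟩) e
  simpa only [hω.lam_W _ ⟨y, _⟩ y rfl] using this

theorem lam_ne_one {a : Lin W} (ha : a ≠ 1) : hω.lam a ≠ 1 := fun e =>
  ha (hω.lam_inj (e.trans hω.lam_one.symm))

theorem L_le_stab (a : Lin W) {m : M} (hm : (m : G) ∈ fittingOf M ⊔ K) :
    m ∈ linStab (hω.lam a) := by
  refine mem_linStab.mpr (MonoidHom.ext fun x => ?_)
  set f := ω a 1
  have e : (⟨(m : G) * x * (m : G)⁻¹, Subgroup.mem_sup_left (mem_fitting_conj M m x.2)⟩ :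
      ↥(fittingOf M ⊔ K)) = ⟨m, hm⟩ * ⟨x, Subgroup.mem_sup_left x.2⟩ * ⟨m, hm⟩⁻¹ := rfl
  show f ⟨(m : G) * x * (m : G)⁻¹, _⟩ = f ⟨x, _⟩
  rw [e, map_mul, map_mul, map_inv, mul_inv_cancel_comm]

theorem mem_C_of_fix {a : Lin W} (ha : a ≠ 1) {u : M} (hu : (u : G) ∈ U)
    (hf : u ∈ linStab (hω.lam a)) : (u : G) ∈ h.C := by
  -- the fixers of `λ` in `U`
  let A : Subgroup G := (linStab (hω.lam a) ⊓ U.subgroupOf M).map M.subtype
  have hAU : A ≤ U := by
    rintro _ ⟨v, hv, rfl⟩; exact Subgroup.mem_subgroupOf.mp hv.2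
  have hA : ∀ v : M, (v : G) ∈ A → v ∈ linStab (hω.lam a) := by
    rintro v ⟨w, hw, e⟩; exact Subtype.ext (a2 := w) (e.symm) ▸ hw.1
  have huA : (u : G) ∈ A := ⟨u, ⟨hf, Subgroup.mem_subgroupOf.mpr hu⟩, rfl⟩
  have hAn : U ⊔ K ≤ Subgroup.normalizer (A : Set G) := by
    refine sup_le (fun w hw => mem_normalizer_of_conj ?_) fun w hw => mem_normalizer_of_conj ?_
    · rintro _ ⟨v, hv, rfl⟩
      have hvU := Subgroup.mem_subgroupOf.mp hv.2
      have hc := h.commutator_mem_C hw hvU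
      refine ⟨⟨w * v * w⁻¹ * (v : G)⁻¹, h.fittingOf_le (h.C_le_fittingOf hc)⟩ * v, ⟨?_, ?_⟩, ?_⟩
      · exact mul_mem (mem_linStab.mpr (tw_of_mem _ (h.C_le_fittingOf hc))) hv.1
      · refine Subgroup.mem_subgroupOf.mpr ?_
        push_cast
        exact U.mul_mem hc.1 hvU
      · simp
    · rintro _ ⟨v, hv, rfl⟩
      refine ⟨⟨w, K_le h.hP hw⟩ * v * ⟨w, K_le h.hP hw⟩⁻¹, ⟨?_, ?_⟩, by simp⟩
      · have hk := hω.L_le_stab a (m := ⟨w, K_le h.hP hw⟩) (Subgroup.mem_sup_right hw)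
        exact (linStab _).mul_mem ((linStab _).mul_mem hk hv.1) ((linStab _).inv_mem hk)
      · refine Subgroup.mem_subgroupOf.mpr ?_
        push_cast
        exact conj_mem_of_le_normalizer (h.hP.U_normal hw) _ (Subgroup.mem_subgroupOf.mp hv.2)
  have hAP : ⁅fittingHallOf M, A⁆ ≤ fittingHallOf M :=
    Coprime.commutator_le_left_of_le_normalizer (hAU.trans h.U_le_normalizer_P)
  set N' := h.P0 ⊔ ⁅fittingHallOf M, A⁆ with hN'
  have hN'P : N' ≤ fittingHallOf M := sup_le inf_le_left hAP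
  have hker : ∀ z ∈ N', ∀ hz : z ∈ fittingOf M, hω.lam a ⟨z, hz⟩ = 1 := by
    have hle : N' ≤ (hω.lam a).ker.map (fittingOf M).subtype := by
      refine sup_le (fun z hz => ⟨⟨z, h.fittingHallOf_le_fittingOf hz.1⟩,
        hω.lam_N a _ (Subgroup.mem_sup_left (Subgroup.mem_sup_left hz)), rfl⟩)
        (Subgroup.commutator_le.mpr fun z hz v hv => ?_)
      have hvM : v ∈ M := U_le h.hP (hAU hv)
      have hfix := DFunLike.congr_fun (mem_linStab.mp (hA ⟨v, hvM⟩ hv))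
        (⟨z, h.fittingHallOf_le_fittingOf hz⟩⁻¹ : fittingOf M)
      refine ⟨⟨z, h.fittingHallOf_le_fittingOf hz⟩ *
        ⟨v * z⁻¹ * v⁻¹, mem_fitting_conj M ⟨v, hvM⟩
          (inv_mem (h.fittingHallOf_le_fittingOf hz))⟩, ?_, by
        simp [commutatorElement_def, mul_assoc]⟩
      rw [tw_apply] at hfix
      simp only [InvMemClass.coe_inv, map_inv] at hfix
      rw [SetLike.mem_coe, MonoidHom.mem_ker, map_mul]
      exact (congrArg _ hfix).trans (mul_inv_cancel _)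
    intro z hz hz'
    obtain ⟨x, hx, e⟩ := hle hz
    rw [show (⟨z, hz'⟩ : fittingOf M) = x from Subtype.ext e.symm]
    exact hx
  rcases h.chief le_sup_left hN'P
      (Coprime.le_normalizer_sup_of_le ((U_le h.hP).trans h.fixed_normal)
        (Coprime.le_normalizer_commutator h.U_le_normalizer_P (le_sup_left.trans hAn)))
      (Coprime.le_normalizer_sup_of_le ((K_le h.hP).trans h.fixed_normal)
        (Coprime.le_normalizer_commutator h.K_le_normalizer_P (le_sup_right.trans hAn))) with e | e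
  · refine h.mem_C_of_trivial_mod hu fun x hx => e.le (Subgroup.mem_sup_right ?_)
    have := inv_mem (Subgroup.commutator_mem_commutator hx huA)
    simpa [commutatorElement_def, mul_assoc] using this
  · refine absurd (MonoidHom.ext fun y => ?_) ha
    rw [← hω.lam_W a ⟨y, h.fittingHallOf_le_fittingOf (W_le h.hP y.2)⟩ y rfl, MonoidHom.one_apply]
    exact hker y (e.ge (W_le h.hP y.2)) _

theorem stab_lam {a : Lin W} (ha : a ≠ 1) (m : M) :
    m ∈ linStab (hω.lam a) ↔ (m : G) ∈ fittingOf M ⊔ K := by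
  refine ⟨fun hm => ?_, hω.L_le_stab a⟩
  obtain ⟨x, u, z, hx, hu, hz, rfl⟩ := h.exists_decomp m
  have huS : u ∈ linStab (hω.lam a) := by
    have h1 := mul_mem (mul_mem (inv_mem (hω.L_le_stab a (Subgroup.mem_sup_left hz))) hm)
      (inv_mem (hω.L_le_stab a (Subgroup.mem_sup_right hx)))
    simpa [mul_assoc] using h1
  push_cast
  exact mul_mem (mul_mem (Subgroup.mem_sup_left hz)
    (Subgroup.mem_sup_left (h.C_le_fittingOf (hω.mem_C_of_fix ha hu huS))))
    (Subgroup.mem_sup_right hx)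

theorem lam_conj_inj {a a' : Lin W} (ha : a ≠ 1) {m : M} (e : tw (hω.lam a) m = hω.lam a') :
    a' = a ∧ (m : G) ∈ fittingOf M ⊔ K := by
  obtain ⟨x, u, z, hx, hu, hz, rfl⟩ := h.exists_decomp m
  -- the `F(M)` and `K` parts act trivially
  have e1 : tw (hω.lam a) u = hω.lam a' := by
    rw [tw_mul, tw_mul, mem_linStab.mp (hω.L_le_stab a (Subgroup.mem_sup_left hz))] at e
    have := congrArg (fun φ => tw φ x⁻¹) e
    simpa only [← tw_mul, mul_inv_cancel_right,
      mem_linStab.mp (inv_mem (hω.L_le_stab a' (m := x) (Subgroup.mem_sup_right hx)))] using this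
  obtain ⟨⟨k, hk⟩, hk1⟩ := Subgroup.ne_bot_iff_exists_ne_one.mp h.hP.W₁_ne
  replace hk1 : k ≠ 1 := fun e => hk1 (Subtype.ext e)
  set k' : M := ⟨k, K_le h.hP hk⟩ with hk'
  have hkS : ∀ c : Lin W, k' ∈ linStab (hω.lam c) := fun c =>
    hω.L_le_stab c (Subgroup.mem_sup_right hk)
  have hst : u * (k' * u * k'⁻¹)⁻¹ ∈ linStab (hω.lam a) := by
    refine (tw_eq_tw_iff _ _ _).mp ?_
    rw [tw_mul, tw_mul, mem_linStab.mp (hkS a), e1, mem_linStab.mp (inv_mem (hkS a'))]
  have hkuU : k * (u : G) * k⁻¹ ∈ U := conj_mem_of_le_normalizer (h.hP.U_normal hk) _ hu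
  have hC := hω.mem_C_of_fix ha (u := u * (k' * u * k'⁻¹)⁻¹) (by
    push_cast; exact U.mul_mem hu (U.inv_mem hkuU)) hst
  push_cast at hC
  have huC := h.fpf_quot hk hk1 hu hC
  rw [tw_of_mem _ (h.C_le_fittingOf huC)] at e1
  refine ⟨(hω.lam_inj e1).symm, ?_⟩
  push_cast
  exact mul_mem (mul_mem (Subgroup.mem_sup_left hz)
    (Subgroup.mem_sup_left (h.C_le_fittingOf huC))) (Subgroup.mem_sup_right hx)

/-- A character with minimal stabiliser in `M'` either has minimal stabiliser in `M` or is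
conjugate to an exceptional one. -/
theorem free_or_lam {χ : Lin (fittingOf M)}
    (hU : ∀ u : M, (u : G) ∈ U → u ∈ linStab χ → (u : G) ∈ h.C) :
    (∀ m : M, m ∈ linStab χ → (m : G) ∈ fittingOf M) ∨
      ∃ a : Lin W, a ≠ 1 ∧ ∃ m : M, χ = tw (hω.lam a) m := by
  refine or_iff_not_imp_left.mpr fun hne => ?_
  push Not at hne
  obtain ⟨m, hm, hmX⟩ := hne
  obtain ⟨x, u, z, hx, hu, hz, rfl⟩ := h.exists_decomp m
  have hux : u * x ∈ linStab χ := by
    have := mul_mem (inv_mem (mem_linStab.mpr (tw_of_mem χ hz))) hm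
    simpa [mul_assoc] using this
  have hx1 : (x : G) ≠ 1 := by
    intro ex
    have ex' : x = 1 := Subtype.ext ex
    rw [ex', mul_one] at hux
    exact hmX (by push_cast; rw [ex, mul_one]; exact mul_mem hz (h.C_le_fittingOf (hU u hu hux)))
  obtain ⟨y, hy, hey⟩ := exists_eq_mul_conj_inv (H := U) (h.hP.U_normal hx)
    (fun v hv => fpf_U h.hP hx hx1 hv) hu
  set y' : M := ⟨y, U_le h.hP hy⟩ with hy'
  set χ' := tw χ y' with hχ'
  have hxfix : x ∈ linStab χ' := by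
    rw [linStab_tw]
    have : y' * x * y'⁻¹ = u * x := Subtype.ext (by
      push_cast; rw [hey]; simp [y', mul_assoc])
    rwa [this]
  have hxL : ∀ g : fittingOf M, χ' ⟨(x : G) * g * (x : G)⁻¹, mem_fitting_conj M x g.2⟩ = χ' g :=
    fun g => DFunLike.congr_fun (mem_linStab.mp hxfix) g
  have hdiff : ∀ g : fittingOf M,
      χ' (g * ⟨(x : G) * g * (x : G)⁻¹, mem_fitting_conj M x g.2⟩⁻¹) = 1 := fun g => by
    rw [map_mul, map_inv, hxL, mul_inv_cancel]
  have hK : K = Subgroup.zpowers (x : G) := by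
    refine (Subgroup.eq_of_le_of_card_ge (Subgroup.zpowers_le.mpr hx) ?_).symm
    rw [Nat.card_zpowers]
    rcases (Nat.dvd_prime h.primeK).mp (Subgroup.orderOf_dvd_natCard _ hx) with e | e
    · exact absurd (orderOf_eq_one_iff.mp e) hx1
    · exact e.ge
  have hKfix : ∀ k : M, (k : G) ∈ K → k ∈ linStab χ' := by
    intro k hk
    rw [hK] at hk
    obtain ⟨n, hn⟩ := hk
    rw [show k = x ^ n from Subtype.ext (by push_cast; exact hn.symm)]
    exact zpow_mem hxfix n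
  have hker : h.N ≤ χ'.ker.map (fittingOf M).subtype := by
    refine sup_le (sup_le (fun w hw => ?_) (Subgroup.commutator_le.mpr fun w hw k hk => ?_))
      fun w hw => ?_
    · obtain ⟨e, he, hwe⟩ := exists_eq_mul_conj_inv ((K_le h.hP).trans h.fixed_normal hx)
        (fun v hv => h.fpf_P0 hx hx1 hv) hw
      exact ⟨_, hdiff ⟨e, h.fittingHallOf_le_fittingOf he.1⟩, hwe.symm⟩
    · have hkf := DFunLike.congr_fun (mem_linStab.mp (hKfix ⟨k, K_le h.hP hk⟩ hk))
        (⟨w, h.fittingHallOf_le_fittingOf hw⟩⁻¹ : fittingOf M)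
      refine ⟨⟨w, h.fittingHallOf_le_fittingOf hw⟩ * ⟨k * w⁻¹ * k⁻¹,
        mem_fitting_conj M ⟨k, K_le h.hP hk⟩ (inv_mem (h.fittingHallOf_le_fittingOf hw))⟩, ?_, by
          simp [commutatorElement_def, mul_assoc]⟩
      rw [tw_apply] at hkf
      simp only [InvMemClass.coe_inv, map_inv] at hkf
      rw [SetLike.mem_coe, MonoidHom.mem_ker, map_mul]
      exact (congrArg _ hkf).trans (mul_inv_cancel _)
    · obtain ⟨e, he, hwe⟩ := exists_eq_mul_conj_inv ((le_sup_right.trans h.le_normalizer_C) hx)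
        (fun v hv => h.fpf_C hx hx1 hv) hw
      exact ⟨_, hdiff ⟨e, h.C_le_fittingOf he⟩, hwe.symm⟩
  let a : Lin W := χ'.comp (Subgroup.inclusion ((W_le h.hP).trans h.fittingHallOf_le_fittingOf))
  have hlam : χ' = hω.lam a := by
    refine hω.eq_lam (fun g hg => ?_) a fun g y e => congrArg χ' (Subtype.ext e)
    obtain ⟨g', hg', e⟩ := hker hg
    rw [show g = g' from Subtype.ext e.symm]
    exact hg'
  refine ⟨a, fun ha => ?_, y'⁻¹, ?_⟩
  · rw [ha, hω.lam_one] at hlam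
    refine h.C_ne_U (le_antisymm inf_le_left fun v hv => ?_)
    refine hU ⟨v, U_le h.hP hv⟩ hv (mem_linStab.mpr ?_)
    have : χ = 1 := by
      have := congrArg (fun φ => tw φ y'⁻¹) hlam
      simp only [hχ', ← tw_mul, mul_inv_cancel, tw_one] at this
      exact this.trans (MonoidHom.ext fun _ => rfl)
    subst this
    exact MonoidHom.ext fun _ => rfl
  · rw [← hlam, hχ', ← tw_mul, mul_inv_cancel, tw_one]

end IsOmega

end CfsgLib.Peterfalvi.Pair
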