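import Cfsg.Agent.Lib.Peterfalvi.Pair.SideMu
import Cfsg.Agent.Lib.Char.TI
import Cfsg.Agent.Lib.Char.CyclicTI

/-!
The TI set of a maximal subgroup of type II, III or IV and induction from it.
-/

set_option autoImplicit false
set_option linter.style.haveILetI false
set_option linter.unusedSectionVars false

namespace CfsgLib.Peterfalvi.Pair

open Cfsg CfsgLib.Char
open CfsgLib.BG.FixedLine (conj_mem_of_le_normalizer)
open scoped ComplexConjugate CfsgLib.Char

universe u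

variable {G : Type u} [Group G]

/-- The support: nontrivial elements of `F(M)` and conjugates of the cyclic TI set. -/
def A0 (M K W : Subgroup G) : Set G :=
  {g | g ∈ fittingOf M ∧ g ≠ 1} ∪
    {g | ∃ m ∈ M, ∃ x ∈ K, ∃ y ∈ W, x ≠ 1 ∧ y ≠ 1 ∧ g = m * (x * y) * m⁻¹}

variable {M K U W : Subgroup G}

section Local

variable [Finite G]

namespace Side

variable (h : Side M K U W)
include h

theorem A0_subset : A0 M K W ⊆ (M : Set G) := by
  rintro g (⟨hg, -⟩ | ⟨m, hm, x, hx, y, hy, -, -, rfl⟩)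
  · exact h.fittingOf_le hg
  · exact mul_mem (mul_mem hm (mul_mem (K_le h.hP hx) (fittingHallOf_le M (W_le h.hP hy))))
      (inv_mem hm)

theorem one_notMem_A0 : (1 : G) ∉ A0 M K W := by
  rintro (⟨-, h1⟩ | ⟨m, -, x, hx, y, hy, hx1, -, e⟩)
  · exact h1 rfl
  · have e' : x * y = 1 := by
      have := congrArg (fun z => m⁻¹ * z * m) e
      simpa [mul_assoc] using this.symm
    refine hx1 (Subgroup.mem_bot.mp ((CyclicTI.disj_of h.hP.selfNormalizing).le ⟨hx, ?_⟩))
    rw [mul_eq_one_iff_eq_inv.mp e']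
    exact W.inv_mem hy

theorem conj_mem_A0 {m g : G} (hm : m ∈ M) (hg : g ∈ A0 M K W) : m * g * m⁻¹ ∈ A0 M K W := by
  rcases hg with ⟨hg, hg1⟩ | ⟨n, hn, x, hx, y, hy, hx1, hy1, rfl⟩
  · exact Or.inl ⟨conj_mem_of_le_normalizer (le_normalizer_fittingOf M hm) g hg,
      fun e => hg1 (conj_eq_one_iff.mp e)⟩
  · exact Or.inr ⟨m * n, mul_mem hm hn, x, hx, y, hy, hx1, hy1, by group⟩

theorem orderOf_mul {x y : G} (hx : x ∈ K) (hy : y ∈ W) (hx1 : x ≠ 1) :
    Nat.card K ∣ orderOf (x * y) := by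
  have ho : ∀ {z : G} {S : Subgroup G}, z ∈ S → orderOf z ∣ Nat.card S :=
    fun hz => Subgroup.orderOf_dvd_natCard _ hz
  have hx' : orderOf x = Nat.card K := ((Nat.dvd_prime h.primeK).mp (ho hx)).resolve_left
    fun e => hx1 (orderOf_eq_one_iff.mp e)
  rw [(show Commute x y from h.W_commute hx hy).orderOf_mul_eq_mul_orderOf_of_coprime
    ((h.coprime_P_K.coprime_dvd_left ((ho hy).trans (Subgroup.card_dvd_of_le (W_le h.hP)))).symm
      |>.coprime_dvd_left (ho hx)), hx']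
  exact dvd_mul_right _ _

theorem notMem_fittingOf {m x y : G} (hx : x ∈ K) (hy : y ∈ W) (hx1 : x ≠ 1) :
    m * (x * y) * m⁻¹ ∉ fittingOf M := fun hc => by
  have h1 : orderOf (m * (x * y) * m⁻¹) = orderOf (x * y) :=
    orderOf_injective (MulAut.conj m).toMonoidHom (MulAut.conj m).injective _
  exact Nat.not_coprime_of_dvd_of_dvd h.primeK.one_lt
    ((h.orderOf_mul hx hy hx1).trans (h1 ▸ Subgroup.orderOf_dvd_natCard _ hc)) dvd_rfl
    h.card_fittingOf_coprime

theorem ti_A0 : ∀ g : G, g ∉ M → ∀ t ∈ A0 M K W, g * t * g⁻¹ ∈ A0 M K W → t = 1 := by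
  intro g hg t ht hgt
  exfalso
  rcases ht with ⟨ht, ht1⟩ | ⟨m, hm, x, hx, y, hy, hx1, hy1, rfl⟩
  · rcases hgt with ⟨hgt, -⟩ | ⟨m, hm, x, hx, y, hy, hx1, hy1, e⟩
    · exact hg (h.ti_mem ht ht1 hgt)
    · refine h.notMem_fittingOf (m := g⁻¹ * m) hx hy hx1 ?_
      rwa [show g⁻¹ * m * (x * y) * (g⁻¹ * m)⁻¹ = g⁻¹ * (m * (x * y) * m⁻¹) * g by group, ← e,
        show g⁻¹ * (g * t * g⁻¹) * g = t by group]
  · rcases hgt with ⟨hgt, -⟩ | ⟨n, hn, x', hx', y', hy', hx1', hy1', e⟩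
    · refine h.notMem_fittingOf (m := g * m) hx hy hx1 ?_
      rwa [show g * m * (x * y) * (g * m)⁻¹ = g * (m * (x * y) * m⁻¹) * g⁻¹ by group]
    · have hd := CyclicTI.disj_of h.hP.selfNormalizing
      have h1 := CyclicTI.mul_mem_tiPart hd hx hx1 hy hy1
      have h2 := CyclicTI.mul_mem_tiPart hd hx' hx1' hy' hy1'
      by_cases hk : n⁻¹ * g * m ∈ K ⊔ W
      · refine hg ?_
        have hkM : n⁻¹ * g * m ∈ M :=
          sup_le (K_le h.hP) ((W_le h.hP).trans (fittingHallOf_le M)) hk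
        have := mul_mem (mul_mem hn hkM) (inv_mem hm)
        simpa [mul_assoc] using this
      · have h3 := CyclicTI.ti h.hP.selfNormalizing (n⁻¹ * g * m) hk _ h1 (by
          rw [show n⁻¹ * g * m * (x * y) * (n⁻¹ * g * m)⁻¹ =
            n⁻¹ * (g * (m * (x * y) * m⁻¹) * g⁻¹) * n by group, e,
            show n⁻¹ * (n * (x' * y') * n⁻¹) * n = x' * y' by group]
          exact h2)
        refine hx1 (Subgroup.mem_bot.mp (hd.le ⟨hx, ?_⟩))
        rw [mul_eq_one_iff_eq_inv.mp h3]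
        exact W.inv_mem hy

/-- An element of `F(M) K` outside `F(M)` is conjugate to one of `W K`. -/
theorem exists_conj_KW {t : G} (ht : t ∈ fittingOf M ⊔ K) (htX : t ∉ fittingOf M) :
    ∃ e ∈ fittingOf M, ∃ x ∈ K, ∃ y ∈ W, x ≠ 1 ∧ e * t * e⁻¹ = x * y := by
  rw [← SetLike.mem_coe, Subgroup.coe_mul_of_right_le_normalizer_left _ _
    ((K_le h.hP).trans (le_normalizer_fittingOf M)), Set.mem_mul] at ht
  obtain ⟨n, hn, x, hx, rfl⟩ := ht
  have hx1 : x ≠ 1 := fun e => htX (by rw [e, mul_one]; exact hn)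
  obtain ⟨e, he, y, hy, hc, hey⟩ := exists_conj_coset (le_normalizer_fittingOf M (K_le h.hP hx))
    (h.card_fittingOf_coprime.coprime_dvd_right (Subgroup.orderOf_dvd_natCard _ hx)) hn
  refine ⟨e, he, x, hx, y, ?_, hx1, by rw [hey, hc]⟩
  rw [← h.hP.W₂_centralizer x hx hx1]
  exact ⟨h.fittingOf_le_derived hy, Subgroup.mem_centralizer_singleton_iff.mpr hc⟩

end Side

end Local

variable [Fintype G] [Fintype M]

theorem toM_vanish (h : Side M K U W) {H : Subgroup G} {ψ : H → ℂ}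
    (hψ : ∀ x : H, (x : G) ∉ A0 M K W → ψ x = 0) (m : M) (hm : (m : G) ∉ A0 M K W) :
    toM M ψ m = 0 := by
  simp only [toM, indFun]
  rw [Finset.sum_eq_zero fun g _ => ?_, mul_zero]
  by_cases hg : g⁻¹ * m * g ∈ H.subgroupOf M
  · rw [extendByZero_mem _ _ hg]
    refine hψ _ fun hc => hm ?_
    have := h.conj_mem_A0 g.2 hc
    simpa [mul_assoc] using this
  · exact extendByZero_notMem _ _ hg

/-- Induction to `G` is an isometry on functions supported on the TI set. -/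
theorem classInner_indFun_A0 (h : Side M K U W) {H H' : Subgroup G} (hH : H ≤ M) (hH' : H' ≤ M)
    {ψ : H → ℂ} {ψ' : H' → ℂ} (hψ : ∀ x : H, (x : G) ∉ A0 M K W → ψ x = 0)
    (hψ' : ∀ x : H', (x : G) ∉ A0 M K W → ψ' x = 0) :
    classInner (indFun H ψ) (indFun H' ψ') = classInner (toM M ψ) (toM M ψ') := by
  rw [← indFun_toM hH, ← indFun_toM hH']
  exact classInner_indFun_of_ti M (A0 M K W) h.ti_A0 _ _ (isClassFunction_toM ψ')
    (toM_vanish h hψ) (toM_vanish h hψ') (toM_vanish h hψ 1 h.one_notMem_A0)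

theorem indFun_A0_apply (h : Side M K U W) {H : Subgroup G} (hH : H ≤ M) {ψ : H → ℂ}
    (hψ : ∀ x : H, (x : G) ∉ A0 M K W → ψ x = 0) (t : M) (ht : (t : G) ∈ A0 M K W) :
    indFun H ψ (t : G) = toM M ψ t := by
  rw [← indFun_toM hH]
  exact indFun_eq_of_ti M (A0 M K W) h.ti_A0 _ (isClassFunction_toM ψ) (toM_vanish h hψ) t ht
    fun e => h.one_notMem_A0 (by rwa [e] at ht)

theorem vanish_sub_fitting {χ χ' : Lin (fittingOf M)} (x : fittingOf M)
    (hx : (x : G) ∉ A0 M K W) : (cl χ - cl χ') x = 0 := by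
  have hx1 : x = 1 := by
    by_contra hne
    exact hx (Or.inl ⟨x.2, fun e => hne (Subtype.ext e)⟩)
  rw [Pi.sub_apply, hx1, cl_one, cl_one, sub_self]

namespace IsOmega

variable {h : Side M K U W} {ω : Lin W → Lin K → Lin (fittingOf M ⊔ K : Subgroup G)}
  (hω : IsOmega h ω)
include hω

theorem vanish_sub (a a' : Lin W) (b : Lin K) (t : ↥(fittingOf M ⊔ K))
    (ht : (t : G) ∉ A0 M K W) : (cl (ω a b) - cl (ω a' b)) t = 0 := by
  by_cases htX : (t : G) ∈ fittingOf M
  · have ht1 : t = 1 := by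
      by_contra hne
      exact ht (Or.inl ⟨htX, fun e => hne (Subtype.ext e)⟩)
    rw [Pi.sub_apply, ht1, cl_one, cl_one, sub_self]
  · obtain ⟨e, he, x, hx, y, hy, hx1, hey⟩ := h.exists_conj_KW t.2 htX
    have hy1 : y = 1 := by
      by_contra hy1
      refine ht ?_
      have := h.conj_mem_A0 (inv_mem (h.fittingOf_le he))
        (g := x * y) (Or.inr ⟨1, one_mem _, x, hx, y, hy, hx1, hy1, by simp⟩)
      rwa [← hey, show e⁻¹ * (e * (t : G) * e⁻¹) * e⁻¹⁻¹ = t by group] at this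
    set e' : ↥(fittingOf M ⊔ K) := ⟨e, Subgroup.mem_sup_left he⟩
    have hval : ∀ c, ω c b t = b ⟨x, hx⟩ := fun c => by
      have h1 := hω.value c b ⟨x, hx⟩ ⟨y, hy⟩ (e' * t * e'⁻¹) hey
      rwa [map_mul, map_mul, map_inv, mul_inv_cancel_comm, show (⟨y, hy⟩ : W) = 1 from
        Subtype.ext hy1, map_one, mul_one] at h1
    simp only [Pi.sub_apply, cl, hval, sub_self]

/-- The values on the cyclic TI set. -/
theorem toM_apply_KW (ψ : ↥(fittingOf M ⊔ K) → ℂ)
    (hψ : IsClassFunction ↥(fittingOf M ⊔ K) ψ) {x y : G} (hx : x ∈ K) (hy : y ∈ W) (hx1 : x ≠ 1)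
    (hy1 : y ≠ 1) (hm : x * y ∈ M) :
    toM M ψ ⟨x * y, hm⟩ = ψ ⟨x * y, mul_mem (Subgroup.mem_sup_right hx)
      (Subgroup.mem_sup_left (h.fittingHallOf_le_fittingOf (W_le h.hP hy)))⟩ := by
  classical
  have hxyL : x * y ∈ (fittingOf M ⊔ K) := mul_mem (Subgroup.mem_sup_right hx)
    (Subgroup.mem_sup_left (h.fittingHallOf_le_fittingOf (W_le h.hP hy)))
  have hd := CyclicTI.disj_of h.hP.selfNormalizing
  have key : ∀ g : M, g⁻¹ * ⟨x * y, hm⟩ * g ∈ (fittingOf M ⊔ K).subgroupOf M ↔ g ∈ (fittingOf M ⊔ K).subgroupOf M := by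
    refine fun g => ⟨fun hg => ?_, fun hg => ?_⟩
    · have hg' : (g : G)⁻¹ * (x * y) * g ∈ (fittingOf M ⊔ K) := Subgroup.mem_subgroupOf.mp hg
      have hnX : (g : G)⁻¹ * (x * y) * g ∉ fittingOf M := by
        have := h.notMem_fittingOf (m := (g : G)⁻¹) hx hy hx1
        rwa [inv_inv] at this
      obtain ⟨e, he, x', hx', y', hy', hx1', hey⟩ := h.exists_conj_KW hg' hnX
      have hy1' : y' ≠ 1 := by
        intro e1
        rw [e1, mul_one] at hey
        have h1 : orderOf (x * y) = orderOf x' := by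
          rw [← hey, show e * ((g : G)⁻¹ * (x * y) * g) * e⁻¹ =
            (e * (g : G)⁻¹) * (x * y) * (e * (g : G)⁻¹)⁻¹ by group]
          exact (orderOf_injective (MulAut.conj (e * (g : G)⁻¹)).toMonoidHom
            (MulAut.conj _).injective (x * y)).symm
        have h2 : orderOf y ∣ orderOf (x * y) := by
          rw [(show Commute x y from h.W_commute hx hy).orderOf_mul_eq_mul_orderOf_of_coprime
            (((h.coprime_P_K.coprime_dvd_left ((Subgroup.orderOf_dvd_natCard _ hy).trans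
              (Subgroup.card_dvd_of_le (W_le h.hP)))).symm).coprime_dvd_left
              (Subgroup.orderOf_dvd_natCard _ hx))]
          exact dvd_mul_left _ _
        refine hy1 (orderOf_eq_one_iff.mp (Nat.eq_one_of_dvd_coprimes ?_ dvd_rfl
          ((h2.trans (h1 ▸ dvd_rfl)).trans (Subgroup.orderOf_dvd_natCard _ hx'))))
        exact h.coprime_P_K.coprime_dvd_left ((Subgroup.orderOf_dvd_natCard _ hy).trans
          (Subgroup.card_dvd_of_le (W_le h.hP)))
      have hk : e * (g : G)⁻¹ ∈ K ⊔ W := by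
        by_contra hk
        have h3 := CyclicTI.ti h.hP.selfNormalizing _ hk _
          (CyclicTI.mul_mem_tiPart hd hx hx1 hy hy1) (by
            rw [show e * (g : G)⁻¹ * (x * y) * (e * (g : G)⁻¹)⁻¹ =
              e * ((g : G)⁻¹ * (x * y) * g) * e⁻¹ by group, hey]
            exact CyclicTI.mul_mem_tiPart hd hx' hx1' hy' hy1')
        refine hx1 (Subgroup.mem_bot.mp (hd.le ⟨hx, ?_⟩))
        rw [mul_eq_one_iff_eq_inv.mp h3]
        exact W.inv_mem hy
      refine Subgroup.mem_subgroupOf.mpr ?_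
      have hkL : e * (g : G)⁻¹ ∈ (fittingOf M ⊔ K) :=
        (le_sup_right.trans h.fittingOf_sup_K.le : K ⊔ W ≤ (fittingOf M ⊔ K)) hk
      have := mul_mem (inv_mem (Subgroup.mem_sup_left (T := K) he)) hkL
      simpa using inv_mem this
    · exact mul_mem (mul_mem (inv_mem hg) (Subgroup.mem_subgroupOf.mpr hxyL)) hg
  have hterm : ∀ g : M, extendByZero ((fittingOf M ⊔ K).subgroupOf M) (fun z => ψ ⟨((z : M) : G), z.2⟩)
      (g⁻¹ * ⟨x * y, hm⟩ * g) = if g ∈ (fittingOf M ⊔ K).subgroupOf M then ψ ⟨x * y, hxyL⟩ else 0 := by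
    intro g
    by_cases hg : g ∈ (fittingOf M ⊔ K).subgroupOf M
    · rw [if_pos hg, extendByZero_mem _ _ ((key g).mpr hg)]
      have h1 := hψ ⟨x * y, hxyL⟩ (⟨g, Subgroup.mem_subgroupOf.mp hg⟩ : ↥(fittingOf M ⊔ K))⁻¹
      rw [← h1]
      exact congrArg ψ (Subtype.ext (by simp))
    · rw [if_neg hg, extendByZero_notMem _ _ fun hc => hg ((key g).mp hc)]
  simp only [toM, indFun]
  rw [Finset.sum_congr rfl fun g _ => hterm g, ← Finset.sum_filter, Finset.sum_const, nsmul_eq_mul]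
  have hc : (Finset.univ.filter fun g : M => g ∈ (fittingOf M ⊔ K).subgroupOf M).card =
      Nat.card ((fittingOf M ⊔ K).subgroupOf M) := by
    rw [Nat.card_eq_fintype_card, Fintype.card_subtype]
  rw [hc, inv_mul_cancel_left₀ (Nat.cast_ne_zero.mpr Nat.card_pos.ne')]

end IsOmega

end CfsgLib.Peterfalvi.Pair
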